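import Cfsg.Agent.Omega.KL.Def
import Cfsg.Agent.Omega.ML.MinIrr
import Cfsg.Agent.MinSimple.Basic

/-!
# THEOREM KL, the reduction to the middle: tools (helper909)

* `o2_map_le`, `o2_subgroupOf_le`, `o2_inf_le` : `O₂` and homomorphisms, subgroups, normal subgroups;
* `minPar_map_subtype`, `exists_minPar_map` : minimal parabolics of subgroups and of quotients come from the group;
* `exists_normalizer_map` : the normaliser of the image of `T`;
* `exists_fixed_mod` : a vector which is fixed modulo `U` is fixed after a change by an element of `U`;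
* `trans` : a group which normalises a four-group `V ∋ x` moves `x` and has a Sylow 2-subgroup fixing `x` is transitive on
  `V#`;
* `no_orb`, `no` : (ML) for an action which need not be faithful, with `Q = O₂(C_H(x))`.
-/

set_option autoImplicit false

namespace Cfsg.Agent.Omega.KL.GenTool

open Subgroup Cfsg Cfsg.Agent.ZN Cfsg.Agent.ClassTwoFusion.Quad Cfsg.Agent.Omega.ML.MinFrame
open Cfsg.Agent.Omega.ML.Final
open Cfsg.Agent.MinSimple.MinParabolic (IsMinPar)
open Cfsg.Agent.MinSimple.VModule (o2_isPGroup o2_le le_o2 le_normalizer_o2 o2_le_of_sylow)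

universe u v

section grp

variable {H : Type*} [Group H] {Q : Type*} [Group Q]

theorem o2_map_le (f : H →* Q) (S : Subgroup H) : (o2 S).map f ≤ o2 (S.map f) := by
  refine le_o2 (map_mono (o2_le S)) ((o2_isPGroup S).map f) (le_normalizer_of ?_)
  rintro _ ⟨s, hs, rfl⟩ _ ⟨x, hx, rfl⟩
  exact ⟨s * x * s⁻¹, conj_mem_of_le (le_normalizer_o2 S) hs hx, by simp⟩

theorem o2_subgroupOf_le {R : Subgroup H} (S : Subgroup R) : (o2 (S.map R.subtype)).subgroupOf R ≤ o2 S := by
  refine le_o2 ?_ ((o2_isPGroup _).comap_of_injective _ R.subtype_injective) (le_normalizer_of ?_)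
  · intro x hx
    obtain ⟨s, hs, hsx⟩ := o2_le _ (mem_subgroupOf.1 hx)
    rwa [← (Subtype.ext hsx : s = x)]
  · intro s hs x hx
    rw [mem_subgroupOf] at hx ⊢
    exact conj_mem_of_le (le_normalizer_o2 (S.map R.subtype)) ⟨s, hs, rfl⟩ hx

/-- `O₂(R) ∩ N ≤ O₂(L)` for `N ⊴ L`, `N ≤ R` -/
theorem o2_inf_le {L N R : Subgroup H} (hNL : N ≤ L) (hn : ∀ g ∈ L, ∀ x ∈ N, g * x * g⁻¹ ∈ N) (hNR : N ≤ R) :
    o2 R ⊓ N ≤ o2 L := by
  refine le_trans ?_ (o2_le_o2 hNL hn)
  refine le_o2 inf_le_right ((o2_isPGroup R).to_le inf_le_left) (le_normalizer_of fun g hg x hx => ⟨?_, ?_⟩)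
  · exact conj_mem_of_le (le_normalizer_o2 R) (hNR hg) hx.1
  · exact N.mul_mem (N.mul_mem hg hx.2) (N.inv_mem hg)

theorem minPar_map_subtype {R T : Subgroup H} (hTR : T ≤ R) {P : Subgroup R} (h : IsMinPar (T.subgroupOf R) P) :
    IsMinPar T (P.map R.subtype) := by
  have hT : (T.subgroupOf R).map R.subtype = T := by rw [subgroupOf_map_subtype, inf_eq_left.2 hTR]
  refine ⟨?_, ?_, ?_⟩
  · rw [← hT]
    exact map_mono h.le
  · intro hP
    refine h.not_le (le_normalizer_of fun p hp x hx => ?_)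
    rw [mem_subgroupOf] at hx ⊢
    exact conj_mem_of_le hP ⟨p, hp, rfl⟩ hx
  · obtain ⟨M, hM, hM2⟩ := h.exists_max
    refine ⟨M.map R.subtype, (map_lt_map_iff_of_injective R.subtype_injective).2 hM, fun K hTK hK => ?_⟩
    have hKR : K ≤ R := hK.le.trans (map_subtype_le P)
    have e : (K.subgroupOf R).map R.subtype = K := by rw [subgroupOf_map_subtype, inf_eq_left.2 hKR]
    rw [← e] at hK ⊢
    refine map_mono (hM2 _ ?_ ((map_lt_map_iff_of_injective R.subtype_injective).1 hK))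
    exact fun x hx => hTK hx

/-- minimal parabolics of quotients lift -/
theorem exists_minPar_map [Finite H] (f : H →* Q) (hf : Function.Surjective f) {T : Subgroup H} {P' : Subgroup Q}
    (h : IsMinPar (T.map f) P') : ∃ P : Subgroup H, IsMinPar T P ∧ P.map f = P' := by
  obtain ⟨M, hM, hM2⟩ := h.exists_max
  by_contra hc
  push Not at hc
  have hTX : T ≤ P'.comap f := map_le_iff_le_comap.1 h.le
  have key : P'.comap f ≤ M.comap f := by
    refine MinSimple.MinParabolic.le_of_forall hTX ?_ fun P hP hPX => ?_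
    · rw [← map_le_iff_le_comap]
      have h1 : (P'.comap f ⊓ normalizer (T : Set H)).map f ≤ P' ⊓ normalizer (T.map f : Set Q) := by
        rintro _ ⟨g, ⟨hg1, hg2⟩, rfl⟩
        refine ⟨hg1, le_normalizer_of (R := (normalizer (T : Set H)).map f) ?_ ⟨g, hg2, rfl⟩⟩
        rintro _ ⟨n, hn, rfl⟩ _ ⟨t, ht, rfl⟩
        exact ⟨n * t * n⁻¹, (mem_normalizer_iff.1 hn t).1 ht, by simp⟩
      refine h1.trans (hM2 _ (le_inf h.le le_normalizer) (lt_of_le_of_ne inf_le_left fun h2 => h.not_le ?_))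
      exact inf_eq_left.1 h2
    · rw [← map_le_iff_le_comap]
      exact hM2 _ (map_mono hP.le) (lt_of_le_of_ne (map_le_iff_le_comap.2 hPX) (hc P hP))
  have h1 : P' ≤ M := by
    intro p hp
    obtain ⟨g, rfl⟩ := hf p
    exact key hp
  exact hM.not_ge h1

/-- the normaliser of the image of a Sylow 2-subgroup -/
theorem exists_normalizer_map [Finite H] (f : H →* Q) (hf : Function.Surjective f) {T : Subgroup H}
    (hT : IsPGroup 2 T) (hTi : ¬ 2 ∣ T.index) {g' : Q} (hg : g' ∈ normalizer (T.map f : Set Q)) :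
    ∃ t ∈ T.map f, ∃ n ∈ normalizer (T : Set H), g' = t * f n := by
  obtain ⟨g, rfl⟩ := hf g'
  set L := (T.map f).comap f with hL
  have hTL : T ≤ L := le_comap_map f T
  have hgL : g ∈ normalizer (L : Set H) := by
    rw [mem_normalizer_iff]
    intro x
    have h1 := mem_normalizer_iff.1 hg (f x)
    rw [← map_mul, ← map_inv, ← map_mul] at h1
    exact h1
  have h1 := MinSimple.Basic.frattini (X := normalizer (L : Set H)) (L := L) (S := T) (hTL.trans le_normalizer) hT
    (fun h2 => hTi (h2.trans (relIndex_dvd_index_of_le (hTL.trans le_normalizer) |>.trans ?_))) le_rfl hgL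
  · have h2 : g ∈ ((L ⊔ (normalizer (L : Set H) ⊓ normalizer ((T ⊓ L : Subgroup H) : Set H)) : Subgroup H) : Set H) :=
      h1
    rw [coe_mul_of_right_le_normalizer_left _ _ inf_le_left] at h2
    obtain ⟨a, ha, b, hb, hab⟩ := h2
    rw [inf_eq_left.2 hTL] at hb
    refine ⟨f a, ha, b, hb.2, ?_⟩
    rw [← map_mul, ← hab]
  · exact dvd_rfl

end grp

section mod

variable {H : Type*} [Group H] {M : Type*} [Group M] [MulDistribMulAction H M]

/-- **odd orbits**: a `T`-fixed vector which is fixed modulo `U` is fixed by `H` after a change by an element of `U` -/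
theorem exists_fixed_mod [Finite H] [Finite M] (sq : ∀ m : M, m * m = 1) {T : Subgroup H} (hTi : ¬ 2 ∣ T.index)
    {y : M} (hy : ∀ t ∈ T, t • y = y) {U : Subgroup M} (hU : ∀ g : H, g • y * y ∈ U) :
    ∃ z : M, (∀ g : H, g • z = z) ∧ y * z ∈ U := by
  classical
  let _ : CommGroup M := { (inferInstance : Group M) with mul_comm := comm_of_sq sq }
  have _ := Fintype.ofFinite M
  set s : Finset M := (MulAction.orbit H y).toFinset with hs
  have hms : ∀ m : M, m ∈ s ↔ ∃ g : H, g • y = m := fun m => by rw [hs, Set.mem_toFinset]; exact Iff.rfl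
  have hodd : Odd s.card := by
    rw [hs, Set.toFinset_card, ← Nat.card_eq_fintype_card, Nat.card_coe_set_eq, ← MulAction.index_stabilizer,
      ← Nat.not_even_iff_odd, even_iff_two_dvd]
    exact fun h2 => hTi (h2.trans (index_dvd_of_le fun t ht => hy t ht))
  refine ⟨∏ m ∈ s, m, fun g => ?_, ?_⟩
  · rw [Finset.smul_prod']
    refine Finset.prod_bij (fun m _ => g • m) (fun m hm => ?_) (fun a _ b _ hab => smul_left_cancel g hab)
      (fun m hm => ?_) fun _ _ => rfl
    · obtain ⟨k, rfl⟩ := (hms m).1 hm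
      exact (hms _).2 ⟨g * k, mul_smul _ _ _⟩
    · obtain ⟨k, rfl⟩ := (hms m).1 hm
      exact ⟨(g⁻¹ * k) • y, (hms _).2 ⟨_, rfl⟩, by rw [mul_smul, smul_inv_smul]⟩
  · have h1 : ∏ m ∈ s, (m * y) ∈ U := Subgroup.prod_mem _ fun m hm => by
      obtain ⟨k, rfl⟩ := (hms m).1 hm
      exact hU k
    rw [Finset.prod_mul_distrib, Finset.prod_const] at h1
    obtain ⟨n, hn⟩ := hodd
    rwa [hn, pow_succ, pow_mul, pow_two, sq, one_pow, one_mul, mul_comm] at h1

/-- **transitivity on `V#`** -/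
theorem trans [Finite H] {T P : Subgroup H} (hTP : T ≤ P) (hTi : ¬ 2 ∣ T.index) {x : M} (hx : ∀ t ∈ T, t • x = x)
    {V : Subgroup M} (hV : Nat.card V = 4) (hxV : x ∈ V) (hPV : ∀ p ∈ P, ∀ w ∈ V, p • w ∈ V)
    (hm : ∃ p ∈ P, p • x ≠ x) {v : M} (hv : v ∈ V) (hv1 : v ≠ 1) : ∃ p ∈ P, p • x = v := by
  have hVf : Finite V := Nat.finite_of_card_ne_zero (by omega)
  have hx1 : x ≠ 1 := by
    rintro rfl
    obtain ⟨p, -, hp⟩ := hm
    exact hp (smul_one p)
  set O : Set M := MulAction.orbit P x with hO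
  have hOV : O ⊆ (V : Set M) \ {1} := by
    rintro _ ⟨p, rfl⟩
    refine ⟨hPV p p.2 x hxV, fun h1 => hx1 ?_⟩
    have h2 : (p : H) • x = 1 := h1
    rw [← inv_smul_smul (p : H) x, h2, smul_one]
  have hfin : ((V : Set M) \ {1}).Finite := (Set.toFinite (V : Set M)).subset Set.sdiff_subset
  have h3 : ((V : Set M) \ {1}).ncard = 3 := by
    rw [Set.ncard_sdiff_singleton_of_mem V.one_mem, ← Nat.card_coe_set_eq]
    change Nat.card V - 1 = 3
    omega
  have hodd : ¬ 2 ∣ O.ncard := by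
    rw [hO, ← MulAction.index_stabilizer]
    intro h2
    apply hTi
    have h4 : T.subgroupOf P ≤ MulAction.stabilizer P x := fun t ht => hx _ ht
    refine (h2.trans (index_dvd_of_le h4)).trans ?_
    exact relIndex_dvd_index_of_le hTP
  have h5 : 2 ≤ O.ncard := by
    obtain ⟨p, hp, hpx⟩ := hm
    have h6 : ({x, p • x} : Set M) ⊆ O := by
      rintro m (rfl | rfl)
      · exact MulAction.mem_orbit_self m
      · exact ⟨⟨p, hp⟩, rfl⟩
    have h7 := Set.ncard_le_ncard h6 (hfin.subset hOV)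
    rwa [Set.ncard_pair (Ne.symm hpx)] at h7
  have h6 : O.ncard ≤ 3 := h3 ▸ Set.ncard_le_ncard hOV hfin
  have h7 : O = (V : Set M) \ {1} := Set.eq_of_subset_of_ncard_le hOV (by omega) hfin
  have h8 : v ∈ O := by
    rw [h7]
    exact ⟨hv, hv1⟩
  obtain ⟨p, hp⟩ := h8
  exact ⟨p, p.2, hp⟩

end mod

section ml

variable {H : Type u} [Group H] [Finite H] {M : Type v} [Group M] [Finite M] [MulDistribMulAction H M]

/-- **(ML) on `⟨x^H⟩`** -/
theorem no_orb (ml : MLK.{u, v}) (KH : IsKGroup H) (sq : ∀ m : M, m * m = 1) {T A : Subgroup H} {x : M}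
    (two : IsPGroup 2 T) (syl : ¬ 2 ∣ T.index) (fx : ∀ t ∈ T, t • x = x) (el : ∀ a ∈ A, a * a = 1)
    (hA : A ≤ o2 (MulAction.stabilizer H x)) :
    (fxr H (orb (⊤ : Subgroup H) x)).relIndex A ≤ (cv M (A : Set H)).relIndex (orb (⊤ : Subgroup H) x) := by
  refine ml.act KH (T := T) (Q := o2 (MulAction.stabilizer H x)) ⟨sq, two, syl, fx, ?_, fun q hq => o2_le _ hq, ?_,
    fun a ha => ⟨a, hA ha, fun _ => rfl⟩, ?_⟩
  · intro q hq
    obtain ⟨n, hn⟩ := o2_isPGroup (MulAction.stabilizer H x) ⟨q, hq⟩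
    refine ⟨n, fun v => ?_⟩
    have h2 : (q : H) ^ 2 ^ n = 1 := congrArg Subtype.val hn
    rw [h2, one_smul]
  · intro g hg q hq
    exact ⟨g * q * g⁻¹, conj_mem_of_le (le_normalizer_o2 _) hg hq, fun _ => rfl⟩
  · intro a ha v
    rw [← mul_smul, el a ha, one_smul]

/-- **(ML)** if `M = ⟨x^H⟩` -/
theorem no (ml : MLK.{u, v}) (KH : IsKGroup H) (sq : ∀ m : M, m * m = 1) {T A : Subgroup H} {x : M}
    (two : IsPGroup 2 T) (syl : ¬ 2 ∣ T.index) (fx : ∀ t ∈ T, t • x = x) (gen : orb (⊤ : Subgroup H) x = ⊤)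
    (el : ∀ a ∈ A, a * a = 1) (hA : A ≤ o2 (MulAction.stabilizer H x)) :
    (fxr H (⊤ : Subgroup M)).relIndex A ≤ (cv M (A : Set H)).index := by
  have h1 := no_orb ml KH sq two syl fx el hA
  rwa [gen, relIndex_top_right] at h1

end ml

end Cfsg.Agent.Omega.KL.GenTool
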