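import Cfsg.Agent.Omega.ML.Final
import Cfsg.Agent.Omega.ML.Ex.Def
import Cfsg.Agent.MinSimple.MinParabolic

/-!
# THEOREM KL (#21261, in the form of #21588 (G)), `[A]` of CARD #18791: the literal input and output (helper969)

* `Inp T A V x y` : **the input**: `H` faithful on the elementary abelian 2-group `M = ⟨x^H⟩`, `T` a Sylow 2-subgroup of
  `H`, `x ≠ y` non-trivial `T`-fixed vectors, `N_H(T)` fixes `x` and `y`; `(U)`: `V ∋ x` of order 4 is normalised by all
  `T`-minimal `P` which move `x`, and these `P` fix `y`; `A ≠ 1` elementary abelian, `A ≤ O₂(C_H(x)) ∩ O₂(C_H(y))`,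
  `|A| = |M : C_M(A)|`, `|C| < |M : C_M(C)|` for `1 < C < A`; `H` a K-group (`A` is NOT assumed to be normal in `T`);
* `Sys T A V x y` : **the middle**: moreover `M` is irreducible, `|A| ≥ 4`, `A ≤ O₂(R)` for all `T ≤ R < H` and `T` is
  in at least two maximal subgroups;
* `KK K T A V x y` : **the output**: moreover `K = F*(H)` is simple and `H = KT`.
-/

set_option autoImplicit false

namespace Cfsg.Agent.Omega.KL.Def

open Subgroup Cfsg Cfsg.Agent.ZN Cfsg.Agent.ClassTwoFusion.Quad Cfsg.Agent.Omega.ML.MinFrame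
open Cfsg.Agent.MinSimple.MinParabolic (IsMinPar)

universe u v

/-- two `T`-fixed vectors, `x` moved only by minimal parabolics which normalise `V` and fix `y` -/
structure Two {H : Type u} [Group H] {M : Type v} [Group M] [MulDistribMulAction H M] (T : Subgroup H)
    (V : Subgroup M) (x y : M) : Prop where
  sq : ∀ m : M, m * m = 1
  faith : ∀ h : H, (∀ m : M, h • m = m) → h = 1
  gen : orb (⊤ : Subgroup H) x = ⊤
  two : IsPGroup 2 T
  syl : ¬ 2 ∣ T.index
  x1 : x ≠ 1
  y1 : y ≠ 1
  xy : x ≠ y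
  nx : ∀ g ∈ normalizer (T : Set H), g • x = x
  ny : ∀ g ∈ normalizer (T : Set H), g • y = y
  cV : Nat.card V = 4
  xV : x ∈ V
  uni : ∀ P : Subgroup H, IsMinPar T P → (∃ p ∈ P, p • x ≠ x) →
    (∀ p ∈ P, ∀ w ∈ V, p • w ∈ V) ∧ ∀ p ∈ P, p • y = y

/-- an exact atom -/
structure Atom {H : Type u} [Group H] (M : Type v) [Group M] [MulDistribMulAction H M] (A : Subgroup H) : Prop where
  el : ∀ a ∈ A, a * a = 1
  A1 : A ≠ ⊥
  exact : (cv M (A : Set H)).index = Nat.card A
  atom : ∀ C : Subgroup H, C ≤ A → C ≠ ⊥ → C ≠ A → Nat.card C < (cv M (C : Set H)).index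

/-- **the input of THEOREM KL** -/
structure Inp {H : Type u} [Group H] {M : Type v} [Group M] [MulDistribMulAction H M] (T A : Subgroup H)
    (V : Subgroup M) (x y : M) : Prop extends Two T V x y, Atom M A where
  Ax : A ≤ o2 (MulAction.stabilizer H x)
  Ay : A ≤ o2 (MulAction.stabilizer H y)
  KH : IsKGroup H

/-- **the middle of THEOREM KL** -/
structure Sys {H : Type u} [Group H] {M : Type v} [Group M] [MulDistribMulAction H M] (T A : Subgroup H)
    (V : Subgroup M) (x y : M) : Prop extends Two T V x y, Atom M A where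
  irr : ∀ W : Subgroup M, (∀ h : H, ∀ w ∈ W, h • w ∈ W) → W = ⊥ ∨ W = ⊤
  AT : A ≤ T
  four : 4 ≤ Nat.card A
  low : ∀ R : Subgroup H, T ≤ R → R ≠ ⊤ → A ≤ o2 R
  nmax : ¬ ∃ N : Subgroup H, N ≠ ⊤ ∧ ∀ R : Subgroup H, T ≤ R → R ≠ ⊤ → R ≤ N
  KH : IsKGroup H

/-- **the output of THEOREM KL** -/
structure KK {H : Type u} [Group H] {M : Type v} [Group M] [MulDistribMulAction H M] (K T A : Subgroup H)
    (V : Subgroup M) (x y : M) : Prop extends Sys T A V x y where
  norm : K.Normal
  simple : IsSimpleGroup K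
  cen : centralizer (K : Set H) = ⊥
  KT : K ⊔ T = ⊤

/-- the form of the rows -/
theorem KK.inX {H : Type u} [Group H] {M : Type v} [Group M] [MulDistribMulAction H M] {K T A : Subgroup H}
    {V : Subgroup M} {x y : M} (h : KK K T A V x y) : ML.Ex.InX H M K T A where
  sq := h.sq
  faith := h.faith
  irr := h.irr
  norm := h.norm
  simple := h.simple
  cen := h.cen
  gen := h.KT
  two := h.two
  syl := h.syl
  AT := h.AT
  el := h.el
  four := h.four
  exact := h.exact
  sub := by
    intro C hC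
    by_cases h1 : C = ⊥
    · subst h1
      have h2 : cv M ((⊥ : Subgroup H) : Set H) = ⊤ := by
        rw [eq_top_iff]
        intro m _ c hc
        rw [SetLike.mem_coe, mem_bot] at hc
        rw [hc, one_smul]
      rw [h2, index_top, card_bot]
    · by_cases h2 : C = A
      · rw [h2, h.exact]
      · exact (h.atom C hC h1 h2).le
  low := h.low
  nmax := h.nmax

/-- `T` fixes `x` -/
theorem Two.tx {H : Type u} [Group H] {M : Type v} [Group M] [MulDistribMulAction H M] {T : Subgroup H}
    {V : Subgroup M} {x y : M} (h : Two T V x y) {t : H} (ht : t ∈ T) : t • x = x := h.nx t (le_normalizer ht)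

/-- `T` fixes `y` -/
theorem Two.ty {H : Type u} [Group H] {M : Type v} [Group M] [MulDistribMulAction H M] {T : Subgroup H}
    {V : Subgroup M} {x y : M} (h : Two T V x y) {t : H} (ht : t ∈ T) : t • y = y := h.ny t (le_normalizer ht)

end Cfsg.Agent.Omega.KL.Def
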