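import Cfsg.Agent.Omega.KL.Quo
import Cfsg.Agent.Omega.TC.No
import Cfsg.Agent.Omega.TC.Phi

/-!
# THEOREM KL: the plug over `TC.Fr` (CARD #18791 `[A]`: `V i ≤ N_i`; helper909 #21588 (G), helper374 #21730)

`D : TC.Fr T V P v`, `C_i = C_G(v i)` acts on `M := N_i / ⟨v i⟩`; `x := v (i+1)`, `y := V i / ⟨v i⟩`.

* `nT_le` : `N_{C_i}(T)` normalises `V i`;
* `minPar_map` : minimal parabolics of a subgroup;
* **`pre`** : `V i ≤ N_i`, every `T`-minimal `R ≤ C_i` which moves `v (i+1)` normalises `V i`,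
  `A ≤ O₂(C_i ∩ C_{i+1}) ∩ O₂(N_{C_i}(V i))` elementary abelian, exact on `N_i`, `[N_i, A] ≠ 1`: the input of THEOREM KL;
* **`false_of`** : contradiction from THEOREM KL.
-/

set_option autoImplicit false
set_option linter.unusedSectionVars false

namespace Cfsg.Agent.Omega.KL.Plug

open Subgroup Cfsg Cfsg.Agent.ZN Cfsg.Agent.Omega.MinPar Cfsg.Agent.Omega.TC
open Cfsg.Agent.Omega.OM.KTwo (CC QQ WU NU EU ne_add_one eq_add_one add_one_add_one le_normalizer_V le_V)
open Cfsg.Agent.ClassTwoFusion.Quad Cfsg.Agent.Omega.ML.MinFrame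
open Cfsg.Agent.MinSimple.MinParabolic (IsMinPar)
open Cfsg.Agent.Omega.NoFF.Basic (conj_conj mem_conj conj_le_iff comm_symm comm_mono Z_le_V V_le)
open Cfsg.Agent.Omega.NOThreeL.Pair (conj_eq_of_mem conj_le_normalizer)
open Cfsg.Agent.ZN.ChoiceSit (Syl syl_conj syl_not_dvd)
open Cfsg.Agent.MinSimple.VModule (o2_isPGroup)
open scoped Pointwise

universe u

variable {G : Type u} [Group G]

/-! ### Tools -/

/-- minimal parabolics of a subgroup -/
theorem minPar_map {C T : Subgroup G} (hTC : T ≤ C) {P : Subgroup C} (hP : IsMinPar (T.subgroupOf C) P) :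
    IsMinPar T (P.map C.subtype) := by
  have hTP : T ≤ P.map C.subtype := fun t ht => ⟨⟨t, hTC ht⟩, hP.le (mem_subgroupOf.2 ht), rfl⟩
  refine ⟨hTP, fun h => hP.not_le fun p hp => ?_, ?_⟩
  · have h1 := h (mem_map_of_mem C.subtype hp)
    rw [mem_normalizer_iff] at h1 ⊢
    exact fun t => h1 t
  · obtain ⟨M, hMP, hM⟩ := hP.exists_max
    refine ⟨M.map C.subtype, (map_lt_map_iff_of_injective C.subtype_injective).2 hMP, fun K hTK hKP => ?_⟩
    have hKC : K ≤ C := hKP.le.trans (map_subtype_le P)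
    have e : (K.subgroupOf C).map C.subtype = K := by rw [subgroupOf_map_subtype, inf_eq_left.2 hKC]
    rw [← e] at hKP ⊢
    refine map_mono (hM _ ?_ ((map_lt_map_iff_of_injective C.subtype_injective).1 hKP))
    exact fun t ht => mem_subgroupOf.2 (hTK (mem_subgroupOf.1 ht))

/-- `O₂` of a subgroup of `C` -/
theorem sub_o2 [Finite G] {C S B : Subgroup G} {S' : Subgroup C} (hS : ∀ c : C, c ∈ S' ↔ (c : G) ∈ S) (hB : B ≤ o2 S) :
    B.subgroupOf C ≤ o2 S' := by
  have h1 : B.subgroupOf C ≤ (o2 S).subgroupOf C := fun b hb => mem_subgroupOf.2 (hB (mem_subgroupOf.1 hb))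
  refine h1.trans (le_o2 (fun c hc => (hS c).2 (o2_le _ (mem_subgroupOf.1 hc)))
    ((o2_isPGroup S).comap_of_injective C.subtype C.subtype_injective) fun s hs => ?_)
  have h2 := le_normalizer_o2 S ((hS s).1 hs)
  rw [mem_normalizer_iff] at h2 ⊢
  exact fun t => h2 t

/-! ### `N_{C_i}(T)` normalises `V i` -/

section fr

variable [Finite G] {T : Subgroup G} {V P : Fin 2 → Subgroup G} {v : Fin 2 → G} (D : Fr T V P v)

include D

theorem nT_le (i : Fin 2) : CC v i ⊓ normalizer (T : Set G) ≤ normalizer (V i : Set G) := by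
  have hij := ne_add_one i
  -- `V i ^ n ≤ V i`
  have key : ∀ n ∈ CC v i ⊓ normalizer (T : Set G), ∀ x ∈ V i, n * x * n⁻¹ ∈ V i := by
    rintro n hn x hx
    have hnD := D.norm_T_le i hn
    have hnT : MulAut.conj n • T = T := conj_eq_of_mem hn.2
    have hni : n * v i = v i * n := mem_centralizer_singleton_iff.1 hn.1
    have hnj : n * v (i + 1) = v (i + 1) * n := mem_centralizer_singleton_iff.1 (D.cent_zc_le (i + 1) hnD)
    by_cases hx1 : x = 1
    · rw [hx1, mul_one, mul_inv_cancel]; exact one_mem _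
    obtain ⟨l, hl, -, hlx⟩ := D.tr hij hx hx1
    -- `R = (P i) ^ n`
    set R : Subgroup G := MulAut.conj n • P i with hR
    have hRp : IsMinPar T R := by
      have h1 := NOThree.NoOver.isMinPar_cj n (D.par i)
      change IsMinPar (MulAut.conj n • T) (MulAut.conj n • P i) at h1
      rwa [hnT] at h1
    have hRC : R ≤ CC v (i + 1) := by
      intro r hr
      rw [mem_conj] at hr
      have h1 : n⁻¹ * r * n * v (i + 1) = v (i + 1) * (n⁻¹ * r * n) :=
        mem_centralizer_singleton_iff.1 (D.PC i (i + 1) hij hr)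
      rw [mem_centralizer_singleton_iff]
      have e : n⁻¹ * (v (i + 1) * n) = v (i + 1) := by rw [← hnj]; group
      calc r * v (i + 1) = n * ((n⁻¹ * r * n) * (n⁻¹ * (v (i + 1) * n))) * n⁻¹ := by group
        _ = (n * v (i + 1)) * (n⁻¹ * r) := by rw [e, h1]; group
        _ = v (i + 1) * r := by rw [hnj]; group
    have hRm : ¬ R ≤ CC v i := by
      intro h
      apply D.mv i
      intro p hp
      have h1 : n * p * n⁻¹ ∈ R := by
        rw [hR, mem_conj]
        have e : n⁻¹ * (n * p * n⁻¹) * n = p := by group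
        rwa [e]
      have h2 : n * p * n⁻¹ * v i = v i * (n * p * n⁻¹) := mem_centralizer_singleton_iff.1 (h h1)
      have hni' : n⁻¹ * v i = v i * n⁻¹ := by
        calc n⁻¹ * v i = n⁻¹ * (v i * n) * n⁻¹ := by group
          _ = v i * n⁻¹ := by rw [← hni]; group
      rw [mem_centralizer_singleton_iff]
      calc p * v i = n⁻¹ * (n * p * n⁻¹ * (n * v i)) := by group
        _ = n⁻¹ * ((n * p * n⁻¹ * v i) * n) := by rw [hni]; group
        _ = n⁻¹ * v i * (n * p) := by rw [h2]; group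
        _ = v i * p := by rw [hni']; group
    have hRN := D.uni i (i + 1) hij R hRp hRC hRm
    -- `n x n⁻¹ = (n l n⁻¹) v i (n l n⁻¹)⁻¹`
    have h1 : n * l * n⁻¹ ∈ R := by
      rw [hR, mem_conj]
      have e : n⁻¹ * (n * l * n⁻¹) * n = l := by group
      rwa [e]
    have h2 := (mem_normalizer_iff.1 (hRN h1) _).1 (D.mem i)
    have e : n * l * n⁻¹ * v i * (n * l * n⁻¹)⁻¹ = n * (l * (n⁻¹ * (v i * n)) * l⁻¹) * n⁻¹ := by group
    have e2 : n⁻¹ * (v i * n) = v i := by rw [← hni]; group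
    rwa [e, e2, hlx] at h2
  intro n hn
  rw [mem_normalizer_iff]
  intro x
  refine ⟨key n hn x, fun h => ?_⟩
  have h1 := key n⁻¹ (inv_mem hn) _ h
  have e : n⁻¹ * (n * x * n⁻¹) * n⁻¹⁻¹ = x := by group
  rwa [e] at h1

/-- **the input of THEOREM KL** -/
theorem pre {i : Fin 2} (hK : IsKGroup (CC v i)) (hV : V i ≤ NU V v i)
    (hU : ∀ R : Subgroup G, IsMinPar T R → R ≤ CC v i → ¬ R ≤ CC v (i + 1) → R ≤ normalizer (V i : Set G))
    {A : Subgroup G} (hA2 : ∀ a ∈ A, a ^ 2 = 1) (hAD : A ≤ o2 (centralizer (zc T : Set G)))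
    (hAV : A ≤ o2 (normalizer (V i : Set G) ⊓ CC v i)) (hEx : OM.PG.Int.Ex A (NU V v i))
    (hAn : ¬ A ≤ centralizer (NU V v i : Set G)) :
    ∃ (M : Type u) (_ : Group M) (_ : Finite M) (_ : MulDistribMulAction (CC v i) M) (W : Subgroup M) (x y : M),
      Quo.Pre (T.subgroupOf (CC v i)) (A.subgroupOf (CC v i)) W x y := by
  have hij := ne_add_one i
  have hji := hij.symm
  set C : Subgroup G := CC v i with hC
  set N : Subgroup G := NU V v i with hN
  set Z : Subgroup G := zpowers (v i) with hZ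
  have hCN : C ≤ normalizer (N : Set G) := D.C_le_N_N i
  have hCv : ∀ c ∈ C, c * v i = v i * c := fun c hc => mem_centralizer_singleton_iff.1 hc
  have hCZc : ∀ c ∈ C, ∀ z ∈ Z, c * z * c⁻¹ = z := by
    intro c hc z hz
    obtain ⟨n, rfl⟩ := mem_zpowers_iff.1 hz
    have h1 : Commute c (v i) := hCv c hc
    rw [(h1.zpow_right n).eq, mul_inv_cancel_right]
  have hCZ : C ≤ normalizer (Z : Set G) := by
    intro c hc
    rw [mem_normalizer_iff]
    intro z
    refine ⟨fun hz => by rw [hCZc c hc z hz]; exact hz, fun hz => ?_⟩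
    have h1 := hCZc c⁻¹ (inv_mem hc) _ hz
    have e : c⁻¹ * (c * z * c⁻¹) * c⁻¹⁻¹ = z := by group
    rw [e] at h1
    rw [h1]
    exact hz
  have hNC : N ≤ C := D.N_le_C i i
  have hZmem : ∀ z ∈ Z, z = 1 ∨ z = v i := by
    intro z hz
    obtain ⟨n, rfl⟩ := mem_zpowers_iff.1 hz
    rcases Int.even_or_odd' n with ⟨k, rfl | rfl⟩
    · left; rw [zpow_mul, zpow_two, D.v_sq, one_zpow]
    · right; rw [zpow_add, zpow_mul, zpow_two, D.v_sq, one_zpow, one_mul, zpow_one]
  have hvZ : v (i + 1) ∉ Z := by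
    intro h
    rcases hZmem _ h with h1 | h1
    · exact D.ne _ h1
    · exact Phi.v_ne D hji h1
  have hnor : (Z.subgroupOf N).Normal := normal_subgroupOf_of_le_normalizer (hNC.trans hCZ)
  let _ := ML.Final.conjAct hCN hCZ
  let mk : N →* N ⧸ Z.subgroupOf N := QuotientGroup.mk' (Z.subgroupOf N)
  have hmk : Function.Surjective mk := QuotientGroup.mk'_surjective _
  have hmem : ∀ (g : C) (n : N), (g : G) * n * (g : G)⁻¹ ∈ N := fun g n =>
    (mem_normalizer_iff.1 (hCN g.2) n).1 n.2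
  have hsm : ∀ (g : C) (n : N), g • mk n = mk ⟨(g : G) * n * (g : G)⁻¹, hmem g n⟩ := fun _ _ => rfl
  have hone : ∀ a b : N, mk a = mk b ↔ (a : G) * (b : G)⁻¹ ∈ Z := by
    intro a b
    rw [← mul_inv_eq_one, ← map_inv, ← map_mul, ← MonoidHom.mem_ker, QuotientGroup.ker_mk']
    exact Iff.rfl
  have hfix : ∀ (g : C) (n : N), g • mk n = mk n ↔ (g : G) * n * (g : G)⁻¹ * (n : G)⁻¹ ∈ Z := by
    intro g n
    rw [hsm, hone]
  obtain ⟨p, hp, hp1, hpv⟩ := D.exists_ne_v i
  set x : N ⧸ Z.subgroupOf N := mk ⟨v (i + 1), D.mem_N i⟩ with hx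
  set y : N ⧸ Z.subgroupOf N := mk ⟨p, hV hp⟩ with hy
  set W : Subgroup (N ⧸ Z.subgroupOf N) := ((V (i + 1)).subgroupOf N).map mk with hW
  have hAT : A ≤ T := hAD.trans D.o2D_le_T
  have hAC : A ≤ C := hAT.trans (D.T_le_C i)
  -- `⟨v (i+1) ^ C⟩ = N`
  have hgenG : ∀ U : Subgroup G, v (i + 1) ∈ U → C ≤ normalizer (U : Set G) → N ≤ U := by
    intro U h1 h2
    rw [hN, ← D.NH_CC i]
    exact NH_le h1 h2
  -- the kernel
  have hker : ∀ c : C, (∀ m : N ⧸ Z.subgroupOf N, c • m = m) ↔ (c : G) ∈ centralizer (N : Set G) := by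
    intro c
    constructor
    · intro h
      have h1 := D.ker_le (i := i) (H := C) (Y := Z) (D.T_le_C i) le_rfl hCZ hvZ c.2 (by
        rw [D.NH_CC]
        intro n hn
        exact (hfix c ⟨n, hn⟩).1 (h _))
      rwa [D.NH_CC] at h1
    · intro h m
      obtain ⟨n, rfl⟩ := hmk m
      rw [hfix, ← mem_centralizer_iff.1 h n n.2, mul_inv_cancel_right, mul_inv_cancel]
      exact one_mem _
  -- the stabilisers
  have hsx : ∀ c : C, c ∈ MulAction.stabilizer C x ↔ (c : G) ∈ centralizer (zc T : Set G) := by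
    intro c
    rw [MulAction.mem_stabilizer_iff, hfix]
    constructor
    · exact fun h => D.stab_le (D.T_le_C i) le_rfl hCZ hvZ c c.2 h
    · intro h
      have h1 : (c : G) * v (i + 1) = v (i + 1) * c := mem_centralizer_singleton_iff.1 (D.cent_zc_le (i + 1) h)
      change (c : G) * v (i + 1) * (c : G)⁻¹ * (v (i + 1))⁻¹ ∈ Z
      rw [h1, mul_inv_cancel_right, mul_inv_cancel]
      exact one_mem _
  have hsy : ∀ c : C, c ∈ MulAction.stabilizer C y ↔ (c : G) ∈ normalizer (V i : Set G) ⊓ C := by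
    intro c
    constructor
    · intro hc
      refine mem_inf.2 ⟨?_, c.2⟩
      have key : ∀ d : C, d ∈ MulAction.stabilizer C y → ∀ w ∈ V i, (d : G) * w * (d : G)⁻¹ ∈ V i := by
        intro d hd w hw
        have h1 : (d : G) * p * (d : G)⁻¹ * p⁻¹ ∈ Z := (hfix d _).1 hd
        have h2 : (d : G) * p * (d : G)⁻¹ ∈ V i := by
          have h3 : (d : G) * p * (d : G)⁻¹ * p⁻¹ ∈ V i := by
            rcases hZmem _ h1 with h4 | h4
            · rw [h4]; exact one_mem _
            · rw [h4]; exact D.mem i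
          have e : (d : G) * p * (d : G)⁻¹ = ((d : G) * p * (d : G)⁻¹ * p⁻¹) * p := by group
          rw [e]
          exact mul_mem h3 hp
        have h3 : (d : G) * v i * (d : G)⁻¹ = v i := by rw [hCv d d.2, mul_inv_cancel_right]
        by_cases hw1 : w = 1
        · rw [hw1, mul_one, mul_inv_cancel]; exact one_mem _
        rcases D.eq_of_V (D.mem i) (D.ne i) hp hp1 (Ne.symm hpv) hw hw1 with h | h | h
        · rw [h, h3]; exact D.mem i
        · rw [h]; exact h2
        · have e : (d : G) * w * (d : G)⁻¹ = ((d : G) * v i * (d : G)⁻¹) * ((d : G) * p * (d : G)⁻¹) := by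
            rw [h]; group
          rw [e, h3]
          exact mul_mem (D.mem i) h2
      rw [mem_normalizer_iff]
      intro w
      refine ⟨key c hc w, fun hw => ?_⟩
      have h1 := key c⁻¹ (inv_mem hc) _ hw
      have e : ((c⁻¹ : C) : G) * ((c : G) * w * (c : G)⁻¹) * ((c⁻¹ : C) : G)⁻¹ = w := by
        push_cast; group
      rwa [e] at h1
    · rintro ⟨hc, -⟩
      rw [MulAction.mem_stabilizer_iff, hfix]
      change (c : G) * p * (c : G)⁻¹ * p⁻¹ ∈ Z
      have h1 : (c : G) * p * (c : G)⁻¹ ∈ V i := (mem_normalizer_iff.1 hc p).1 hp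
      have h2 : (c : G) * p * (c : G)⁻¹ ≠ 1 := fun h => hp1 (conj_eq_one_iff.1 h)
      rcases D.eq_of_V (D.mem i) (D.ne i) hp hp1 (Ne.symm hpv) h1 h2 with h | h | h
      · exfalso
        apply hpv
        have h3 : (c : G) * v i * (c : G)⁻¹ = v i := by rw [hCv c c.2, mul_inv_cancel_right]
        rw [← h3] at h
        exact mul_left_cancel (mul_right_cancel h)
      · rw [h, mul_inv_cancel]; exact one_mem _
      · rw [h, mul_inv_cancel_right]; exact mem_zpowers _
  -- `N_C(T)`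
  have hnT : ∀ g ∈ normalizer (T.subgroupOf C : Set C), (g : G) ∈ C ⊓ normalizer (T : Set G) := by
    intro g hg
    refine mem_inf.2 ⟨g.2, ?_⟩
    rw [mem_normalizer_iff]
    intro t
    constructor
    · intro ht
      exact (mem_normalizer_iff.1 hg ⟨t, D.T_le_C i ht⟩).1 ht
    · intro ht
      have h1 : (g : G)⁻¹ * ((g : G) * t * (g : G)⁻¹) * (g : G)⁻¹⁻¹ ∈ T :=
        (mem_normalizer_iff.1 (inv_mem hg) ⟨(g : G) * t * (g : G)⁻¹, D.T_le_C i ht⟩).1 ht
      have e : (g : G)⁻¹ * ((g : G) * t * (g : G)⁻¹) * (g : G)⁻¹⁻¹ = t := by group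
      rwa [e] at h1
  -- the index of the fixed space
  have hcvle : (centralizer (A : Set G)).subgroupOf N ≤ (cv (N ⧸ Z.subgroupOf N) (A.subgroupOf C : Set C)).comap mk := by
    intro n hn a ha
    refine (hfix a n).2 ?_
    have h1 := mem_centralizer_iff.1 (mem_subgroupOf.1 hn) a (mem_subgroupOf.1 ha)
    rw [h1, mul_inv_cancel_right, mul_inv_cancel]
    exact one_mem _
  have hfxr : fxr C (⊤ : Subgroup (N ⧸ Z.subgroupOf N)) = (centralizer (N : Set G)).subgroupOf C := by
    ext c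
    rw [mem_subgroupOf, ← hker]
    exact ⟨fun h m => h m (mem_top m), fun h m _ => h m⟩
  have hle : (cv (N ⧸ Z.subgroupOf N) (A.subgroupOf C : Set C)).index ≤
      (fxr C (⊤ : Subgroup (N ⧸ Z.subgroupOf N))).relIndex (A.subgroupOf C) := by
    rw [hfxr, relIndex_subgroupOf hAC, ← index_comap_of_surjective _ hmk]
    refine (index_antitone hcvle).trans ?_
    exact hEx.ge
  have huni : ∀ R : Subgroup C, IsMinPar (T.subgroupOf C) R → (∃ r ∈ R, r • x ≠ x) →
      (∀ r ∈ R, ∀ w ∈ W, r • w ∈ W) ∧ ∀ r ∈ R, r • y = y := by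
    intro R hR hmv
    have hR' := minPar_map (D.T_le_C i) hR
    have hRC : R.map C.subtype ≤ C := map_subtype_le R
    have hRm : ¬ R.map C.subtype ≤ CC v (i + 1) := by
      intro h
      obtain ⟨r, hr, hrx⟩ := hmv
      apply hrx
      have h1 : (r : G) * v (i + 1) = v (i + 1) * r := mem_centralizer_singleton_iff.1 (h (mem_map_of_mem C.subtype hr))
      rw [hfix]
      change (r : G) * v (i + 1) * (r : G)⁻¹ * (v (i + 1))⁻¹ ∈ Z
      rw [h1, mul_inv_cancel_right, mul_inv_cancel]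
      exact one_mem _
    have h1 := D.uni (i + 1) i hji _ hR' hRC hRm
    have h2 := hU _ hR' hRC hRm
    refine ⟨?_, ?_⟩
    · rintro r hr _ ⟨w, hw, rfl⟩
      rw [hsm]
      refine ⟨_, ?_, rfl⟩
      exact mem_subgroupOf.2 ((mem_normalizer_iff.1 (h1 (mem_map_of_mem C.subtype hr)) _).1 (mem_subgroupOf.1 hw))
    · intro r hr
      exact MulAction.mem_stabilizer_iff.1 ((hsy r).2 (mem_inf.2 ⟨h2 (mem_map_of_mem C.subtype hr), r.2⟩))
  refine ⟨N ⧸ Z.subgroupOf N, inferInstance, inferInstance, inferInstance, W, x, y, ?_⟩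
  refine Quo.Pre.mk ?_ ?_ ?_ ?_ ?_ ?_ ?_ ?_ ?_ ?_ ?_ huni ?_ ?_ ?_ ?_ hle hK
  · intro m
    obtain ⟨n, rfl⟩ := hmk m
    rw [← map_mul, ← map_one mk, hone]
    have h1 : (n : G) * n = 1 := by rw [← pow_two]; exact D.N_sq i n n.2
    simp [h1]
  · -- generation
    set U : Subgroup G := ((orb (⊤ : Subgroup C) x).comap mk).map N.subtype with hUd
    have hUmem : ∀ a : N, (a : G) ∈ U ↔ mk a ∈ orb (⊤ : Subgroup C) x := by
      intro a
      constructor
      · rintro ⟨b, hb, hba⟩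
        rw [← (Subtype.ext hba : b = a)]
        exact hb
      · exact fun ha => ⟨a, ha, rfl⟩
    have h1 : N ≤ U := by
      refine hgenG U ((hUmem ⟨v (i + 1), D.mem_N i⟩).2 (mem_orb_self _ x)) ?_
      have key : ∀ g ∈ C, ∀ a ∈ U, g * a * g⁻¹ ∈ U := by
        rintro g hg a ⟨b, hb, rfl⟩
        have h2 := smul_mem_orb (g := (⟨g, hg⟩ : C)) (mem_top _) hb
        rw [hsm ⟨g, hg⟩ b] at h2
        exact (hUmem ⟨_, hmem ⟨g, hg⟩ b⟩).2 h2
      intro g hg
      rw [mem_normalizer_iff]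
      intro a
      refine ⟨key g hg a, fun ha => ?_⟩
      have h2 := key g⁻¹ (inv_mem hg) _ ha
      have e : g⁻¹ * (g * a * g⁻¹) * g⁻¹⁻¹ = a := by group
      rwa [e] at h2
    rw [eq_top_iff]
    intro m _
    obtain ⟨n, rfl⟩ := hmk m
    exact (hUmem n).1 (h1 n.2)
  · exact D.T_isPGroup.comap_of_injective C.subtype C.subtype_injective
  · exact syl_not_dvd (D.syl i)
  · intro h
    rw [hx, ← map_one mk, hone] at h
    exact hvZ (by simpa using h)
  · intro h
    rw [hy, ← map_one mk, hone] at h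
    rcases hZmem p (by simpa using h) with h1 | h1
    · exact hp1 h1
    · exact hpv h1
  · intro h
    rw [hx, hy, hone] at h
    apply Phi.v_notMem D hij
    have e : v (i + 1) = (v (i + 1) * p⁻¹) * p := by group
    rw [e]
    refine mul_mem ?_ hp
    rcases hZmem _ h with h1 | h1
    · change v (i + 1) * p⁻¹ = 1 at h1
      rw [h1]; exact one_mem _
    · change v (i + 1) * p⁻¹ = v i at h1
      rw [h1]; exact D.mem i
  · intro g hg
    exact MulAction.mem_stabilizer_iff.1 ((hsx g).2 (D.norm_T_le i (hnT g hg)))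
  · intro g hg
    exact MulAction.mem_stabilizer_iff.1 ((hsy g).2 (mem_inf.2 ⟨nT_le D i (hnT g hg), g.2⟩))
  · -- `|W| = 4`
    have h1 : ∀ a ∈ (V (i + 1)).subgroupOf N, mk a = 1 → a = 1 := by
      intro a ha h2
      rw [← map_one mk, hone] at h2
      have h3 : (a : G) ∈ Z := by simpa using h2
      rcases hZmem _ h3 with h4 | h4
      · exact Subtype.ext h4
      · exfalso
        apply Phi.v_notMem D hji
        rw [← h4]
        exact mem_subgroupOf.1 ha
    have h2 : Nat.card ((V (i + 1)).subgroupOf N) = 4 := by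
      rw [← D.four (i + 1)]
      exact Nat.card_congr (subgroupOfEquivOfLe (D.V_le_N i)).toEquiv
    rw [← h2]
    have hinj : Function.Injective (mk.subgroupMap ((V (i + 1)).subgroupOf N)) := by
      rw [injective_iff_map_eq_one]
      rintro ⟨a, ha⟩ h3
      exact Subtype.ext (h1 a ha (congrArg Subtype.val h3))
    exact (Nat.card_congr (Equiv.ofBijective _ ⟨hinj, mk.subgroupMap_surjective _⟩)).symm
  · exact ⟨⟨v (i + 1), D.mem_N i⟩, mem_subgroupOf.2 (D.mem (i + 1)), rfl⟩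
  · intro a ha
    have h1 := hA2 a (mem_subgroupOf.1 ha)
    rw [← pow_two]
    exact Subtype.ext h1
  · exact sub_o2 hsx hAD
  · exact sub_o2 hsy hAV
  · by_contra hcon
    push Not at hcon
    apply hAn
    intro a ha
    exact (hker ⟨a, hAC ha⟩).1 fun m => hcon ⟨a, hAC ha⟩ (mem_subgroupOf.2 ha) m

/-- **THEOREM KL kills `V i ≤ N_i` as soon as there is an exact group in `O₂(D) ∩ O₂(N_{C_i}(V i))`.** -/
theorem false_of (hML : ML.Final.MLK.{u, u}) (hKL : Quo.NoInp.{u, u}) {i : Fin 2} (hK : IsKGroup (CC v i))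
    (hV : V i ≤ NU V v i)
    (hU : ∀ R : Subgroup G, IsMinPar T R → R ≤ CC v i → ¬ R ≤ CC v (i + 1) → R ≤ normalizer (V i : Set G))
    {A : Subgroup G} (hA2 : ∀ a ∈ A, a ^ 2 = 1) (hAD : A ≤ o2 (centralizer (zc T : Set G)))
    (hAV : A ≤ o2 (normalizer (V i : Set G) ⊓ CC v i)) (hEx : OM.PG.Int.Ex A (NU V v i))
    (hAn : ¬ A ≤ centralizer (NU V v i : Set G)) : False := by
  obtain ⟨M, _, _, _, W, x, y, h⟩ := pre D hK hV hU hA2 hAD hAV hEx hAn
  exact h.false hML hKL

end fr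

end Cfsg.Agent.Omega.KL.Plug
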