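import Cfsg.Agent.Omega.KL.GenTool
import Cfsg.Agent.Omega.TC.TT

/-!
# THEOREM KL, the reduction to the middle (#21588 (1)-(4), #21261 (1)-(2); helper909)

* `Pre T A V x y` : the situation in a minimal `R` with `T ≤ R`, `A ≰ O₂(R)`;  `exists_pre` : from `Inp`;
* `Pre2` : moreover `M = ⟨x^H⟩`, `A` is faithful and exact;  `Pre.two` : on `⟨x^H⟩` (with `y` replaced by `y y₀`);
* `Pre2.le_cv` : **every proper submodule is centralised by `A`**;
* `Pre2.three` : on `M / C_M(⟨A^H⟩)`, which is irreducible;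
* `Pre2.four` : the quotient by the kernel;  `Pre2.sys` : the end;
* **`gen` : `Inp → ∃ .., Sys`**, `false_of` : the same for consumers.
-/

set_option autoImplicit false

namespace Cfsg.Agent.Omega.KL.Gen

open Subgroup Cfsg Cfsg.Agent.ZN Cfsg.Agent.ClassTwoFusion.Quad Cfsg.Agent.Omega.ML.MinFrame
open Cfsg.Agent.Omega.ML.Final Cfsg.Agent.Omega.KL.Def Cfsg.Agent.Omega.KL.GenTool
open Cfsg.Agent.MinSimple.MinParabolic (IsMinPar)
open Cfsg.Agent.MinSimple.VModule (o2_isPGroup o2_le le_o2 le_normalizer_o2 o2_le_of_sylow)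
open Cfsg.Agent.Omega.NOThree.NoOver (relIndex_ne)
open Cfsg.Agent.Omega.ML.CD (card_eq_relIndex_mul)

universe u v

/-- The situation in a minimal `R` with `T ≤ R`, `A ≰ O₂(R)`. -/
structure Pre {H : Type u} [Group H] {M : Type v} [Group M] [MulDistribMulAction H M] (T A : Subgroup H)
    (V : Subgroup M) (x y : M) : Prop where
  sq : ∀ m : M, m * m = 1
  two : IsPGroup 2 T
  syl : ¬ 2 ∣ T.index
  nx : ∀ g ∈ normalizer (T : Set H), g • x = x
  ny : ∀ g ∈ normalizer (T : Set H), g • y = y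
  cV : Nat.card V = 4
  xV : x ∈ V
  uni : ∀ P : Subgroup H, IsMinPar T P → (∃ p ∈ P, p • x ≠ x) →
    (∀ p ∈ P, ∀ w ∈ V, p • w ∈ V) ∧ ∀ p ∈ P, p • y = y
  mx : ∃ g : H, g • x ≠ x
  my : ∃ g : H, g • y ≠ y
  el : ∀ a ∈ A, a * a = 1
  AT : A ≤ T
  low : ∀ R : Subgroup H, T ≤ R → R ≠ ⊤ → A ≤ o2 R
  nlow : ¬ A ≤ o2 (⊤ : Subgroup H)
  KH : IsKGroup H

/-- Moreover `M = ⟨x^H⟩`, `A` is faithful and exact. -/
structure Pre2 {H : Type u} [Group H] {M : Type v} [Group M] [MulDistribMulAction H M] (T A : Subgroup H)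
    (V : Subgroup M) (x y : M) : Prop extends Pre T A V x y where
  gen : orb (⊤ : Subgroup H) x = ⊤
  ffx : ∀ a ∈ A, (∀ m : M, a • m = m) → a = 1
  exact : (cv M (A : Set H)).index = Nat.card A

variable {H : Type u} [Group H] {M : Type v} [Group M] [MulDistribMulAction H M] {T A : Subgroup H}
  {V : Subgroup M} {x y : M}

/-- `O₂(H)` centralises `⟨x^H⟩` -/
theorem o2_top_le [Finite H] (two : IsPGroup 2 T) (syl : ¬ 2 ∣ T.index) (fx : ∀ t ∈ T, t • x = x) :
    o2 (⊤ : Subgroup H) ≤ fxr H (orb (⊤ : Subgroup H) x) := by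
  have h1 : o2 (⊤ : Subgroup H) ≤ T := o2_le_of_sylow two (by rwa [relIndex_top_right])
  intro q hq
  rw [mem_fxr_orb]
  intro g _
  have h2 : g⁻¹ * q * g ∈ o2 (⊤ : Subgroup H) := by
    have := conj_mem_of_le (le_normalizer_o2 (⊤ : Subgroup H)) (mem_top g⁻¹) hq
    rwa [inv_inv] at this
  have h3 := fx _ (h1 h2)
  calc q • g • x = g • (g⁻¹ * q * g) • x := by rw [← mul_smul, ← mul_smul]; congr 1; group
    _ = g • x := by rw [h3]

/-- `O₂(L) ∩ R ≤ O₂(R)` for `R ≤ L` -/
theorem o2_inf_self {L R : Subgroup H} (h : R ≤ L) : o2 L ⊓ R ≤ o2 R :=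
  o2_inf_le le_rfl (fun _ hg _ hx => R.mul_mem (R.mul_mem hg hx) (R.inv_mem hg)) h

theorem cv_map {R : Subgroup H} (C : Subgroup R) :
    cv M ((C.map R.subtype : Subgroup H) : Set H) = cv M (C : Set R) := by
  ext m
  constructor
  · exact fun h c hc => h c ⟨c, hc, rfl⟩
  · rintro h _ ⟨c, hc, rfl⟩
    exact h c hc

/-! ### Stage 1: a minimal `R` -/

theorem exists_pre [Finite H] [Finite M] (h : Inp T A V x y) : ∃ R : Subgroup H, T ≤ R ∧
    Pre (H := R) (T.subgroupOf R) (A.subgroupOf R) V x y ∧ Atom M (A.subgroupOf R) := by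
  have hTx : ∀ t ∈ T, t • x = x := fun t ht => h.tx ht
  have hAT : A ≤ T := by
    refine h.Ax.trans (o2_le_of_sylow h.two fun h2 => h.syl (h2.trans (relIndex_dvd_index_of_le ?_)))
    exact fun t ht => h.tx ht
  have hne : ({R | T ≤ R ∧ ¬ A ≤ o2 R} : Set (Subgroup H)).Nonempty := by
    refine ⟨⊤, le_top, fun h1 => h.A1 ?_⟩
    rw [eq_bot_iff]
    intro a ha
    have h2 := o2_top_le h.two h.syl hTx (h1 ha)
    rw [h.gen] at h2
    exact mem_bot.2 (h.faith a fun m => h2 m (mem_top m))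
  obtain ⟨R, ⟨hTR, hR⟩, hmin⟩ := wellFounded_lt.has_min _ hne
  have hAR : A ≤ R := hAT.trans hTR
  have eA : (A.subgroupOf R).map R.subtype = A := by rw [subgroupOf_map_subtype, inf_eq_left.2 hAR]
  have hmv : ∀ {m : M}, A ≤ o2 (MulAction.stabilizer H m) → ∃ g : R, g • m ≠ m := by
    intro m hm
    by_contra hc
    push Not at hc
    have h1 : R ≤ MulAction.stabilizer H m := fun g hg => hc ⟨g, hg⟩
    exact hR ((le_inf hm hAR).trans (o2_inf_self h1))
  refine ⟨R, hTR, ?_, ?_⟩
  · refine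
      { sq := h.sq
        two := h.two.comap_of_injective _ R.subtype_injective
        syl := fun h2 => h.syl (h2.trans (relIndex_dvd_index_of_le hTR))
        nx := fun g hg => h.nx _ ?_
        ny := fun g hg => h.ny _ ?_
        cV := h.cV
        xV := h.xV
        uni := ?_
        mx := hmv h.Ax
        my := hmv h.Ay
        el := fun a ha => Subtype.ext (h.el _ ha)
        AT := fun a ha => hAT ha
        low := ?_
        nlow := ?_
        KH := sec_KG.sub H h.KH R }
    · have h1 : (normalizer (T.subgroupOf R : Set R)).map R.subtype ≤ normalizer (T : Set H) := by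
        refine le_normalizer_of ?_
        rintro _ ⟨n, hn, rfl⟩ t ht
        exact (mem_normalizer_iff.1 hn ⟨t, hTR ht⟩).1 ht
      exact h1 ⟨g, hg, rfl⟩
    · have h1 : (normalizer (T.subgroupOf R : Set R)).map R.subtype ≤ normalizer (T : Set H) := by
        refine le_normalizer_of ?_
        rintro _ ⟨n, hn, rfl⟩ t ht
        exact (mem_normalizer_iff.1 hn ⟨t, hTR ht⟩).1 ht
      exact h1 ⟨g, hg, rfl⟩
    · intro P hP hm
      obtain ⟨p, hp, hpx⟩ := hm
      obtain ⟨h1, h2⟩ := h.uni (P.map R.subtype) (minPar_map_subtype hTR hP) ⟨p, ⟨p, hp, rfl⟩, hpx⟩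
      exact ⟨fun q hq w hw => h1 q ⟨q, hq, rfl⟩ w hw, fun q hq => h2 q ⟨q, hq, rfl⟩⟩
    · intro S hTS hS
      have h1 : S.map R.subtype < R := by
        refine lt_of_le_of_ne (map_subtype_le S) fun h2 => hS ?_
        rw [eq_top_iff]
        intro r _
        have h3 : (r : H) ∈ S.map R.subtype := by rw [h2]; exact r.2
        obtain ⟨s, hs, hsr⟩ := h3
        rwa [← (Subtype.ext hsr : s = r)]
      have h2 : T ≤ S.map R.subtype := fun t ht => ⟨⟨t, hTR ht⟩, hTS ht, rfl⟩
      have h3 : A ≤ o2 (S.map R.subtype) := by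
        by_contra h4
        exact hmin _ ⟨h2, h4⟩ h1
      exact le_trans (fun a ha => h3 ha) (o2_subgroupOf_le S)
    · intro h1
      apply hR
      have h2 := (map_mono (f := R.subtype) h1).trans (o2_map_le R.subtype ⊤)
      rwa [eA, ← MonoidHom.range_eq_map, range_subtype] at h2
  · refine ⟨fun a ha => Subtype.ext (h.el _ ha), fun h1 => h.A1 ?_, ?_, fun C hC hC1 hCA => ?_⟩
    · rw [← eA, h1, Subgroup.map_bot]
    · rw [← cv_map, eA, h.exact]
      exact (Nat.card_congr (subgroupOfEquivOfLe hAR).toEquiv).symm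
    · have h1 := h.atom (C.map R.subtype) (by rw [← eA]; exact map_mono hC)
        (fun h2 => hC1 ((map_eq_bot_iff_of_injective _ R.subtype_injective).1 h2))
        (fun h2 => hCA (map_subtype_inj.1 (h2.trans eA.symm)))
      rwa [cv_map, card_map_of_injective R.subtype_injective] at h1

/-! ### Facts about `Pre` -/

namespace Pre

theorem tx (h : Pre T A V x y) {t : H} (ht : t ∈ T) : t • x = x := h.nx t (le_normalizer ht)

theorem ty (h : Pre T A V x y) {t : H} (ht : t ∈ T) : t • y = y := h.ny t (le_normalizer ht)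

theorem exists_par [Finite H] (h : Pre T A V x y) : ∃ P : Subgroup H, IsMinPar T P ∧ ∃ p ∈ P, p • x ≠ x := by
  by_contra hc
  push Not at hc
  obtain ⟨g, hg⟩ := h.mx
  have h1 : (⊤ : Subgroup H) ≤ MulAction.stabilizer H x :=
    MinSimple.MinParabolic.le_of_forall le_top (fun n hn => h.nx n hn.2) fun P hP _ p hp => hc P hP p hp
  exact hg (h1 (mem_top g))

theorem stab_ne (h : Pre T A V x y) : MulAction.stabilizer H x ≠ ⊤ := by
  intro h1
  obtain ⟨g, hg⟩ := h.mx
  exact hg (h1 ▸ mem_top g : g ∈ MulAction.stabilizer H x)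

theorem Ax (h : Pre T A V x y) : A ≤ o2 (MulAction.stabilizer H x) := h.low _ (fun _ ht => h.tx ht) h.stab_ne

theorem inv_eq (h : Pre T A V x y) (m : M) : m⁻¹ = m := inv_eq_of_mul_eq_one_right (h.sq m)

/-- the elements of `V#` are conjugate to `x` by elements which fix `y` -/
theorem trV [Finite H] (h : Pre T A V x y) {v : M} (hv : v ∈ V) (hv1 : v ≠ 1) : ∃ g : H, g • x = v ∧ g • y = y := by
  obtain ⟨P, hP, hm⟩ := h.exists_par
  obtain ⟨h1, h2⟩ := h.uni P hP hm
  obtain ⟨p, hp, hpv⟩ := trans hP.le h.syl (fun t ht => h.tx ht) h.cV h.xV h1 hm hv hv1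
  exact ⟨p, hpv, h2 p hp⟩

theorem V_le [Finite H] (h : Pre T A V x y) : V ≤ orb (⊤ : Subgroup H) x := by
  intro v hv
  by_cases hv1 : v = 1
  · rw [hv1]; exact one_mem _
  · obtain ⟨g, rfl, -⟩ := h.trV hv hv1
    exact smul_mem_orb_self (mem_top g)

/-- `⟨A^H⟩ T = H` -/
theorem K0T [Finite H] (h : Pre T A V x y) : normalClosure (A : Set H) ⊔ T = ⊤ := by
  by_contra hc
  apply h.nlow
  have h1 := h.low _ le_sup_right hc
  have h2 : A ≤ normalClosure (A : Set H) := subset_normalClosure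
  refine (le_inf h1 h2).trans (o2_inf_le le_top (fun g _ n hn => ?_) le_sup_left)
  exact (normalClosure_normal (s := (A : Set H))).conj_mem n hn g

/-- a normal subgroup which contains `A` and a `T`-invariant condition: a vector fixed by `T` and `⟨A^H⟩` is fixed by
`H` -/
theorem fixed [Finite H] (h : Pre T A V x y) {m : M} (h1 : ∀ t ∈ T, t • m = m)
    (h2 : ∀ k ∈ normalClosure (A : Set H), k • m = m) (g : H) : g • m = m := by
  have h3 : normalClosure (A : Set H) ⊔ T ≤ MulAction.stabilizer H m := sup_le (fun k hk => h2 k hk) fun t ht => h1 t ht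
  rw [h.K0T] at h3
  exact h3 (mem_top g)

end Pre

/-! ### Stage 2: the module `⟨x^H⟩` -/

theorem orb_inv (x : M) : ∀ g : H, ∀ u ∈ orb (⊤ : Subgroup H) x, g • u ∈ orb (⊤ : Subgroup H) x :=
  fun g _ hu => smul_mem_orb (mem_top g) hu

namespace Pre

section two

variable [Finite H] [Finite M]

/-- `A` is faithful and exact on `U = ⟨x^H⟩` and `M = U C_M(A)` -/
theorem counts (ml : MLK.{u, v}) (h : Pre T A V x y) (ha : Atom M A) :
    fxr H (orb (⊤ : Subgroup H) x) ⊓ A = ⊥ ∧ (cv M (A : Set H)).relIndex (orb (⊤ : Subgroup H) x) = Nat.card A ∧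
      orb (⊤ : Subgroup H) x ⊔ cv M (A : Set H) = ⊤ := by
  set U := orb (⊤ : Subgroup H) x with hU
  have hno := no_orb ml h.KH h.sq h.two h.syl (fun t ht => h.tx ht) h.el h.Ax
  rw [← hU] at hno
  have hfn : (fxr H U).Normal := fxr_normal (orb_inv x)
  have hstab : fxr H U ≤ MulAction.stabilizer H x := fun g hg => hg x (mem_orb_self _ x)
  have hC : fxr H U ⊓ A ≤ o2 (⊤ : Subgroup H) := by
    refine le_trans ?_ (o2_inf_le (L := ⊤) le_top (fun g _ n hn => hfn.conj_mem n hn g) hstab)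
    exact le_inf (inf_le_right.trans h.Ax) inf_le_left
  have hcard : Nat.card A = (fxr H U).relIndex A * Nat.card (fxr H U ⊓ A : Subgroup H) := by
    rw [card_eq_relIndex_mul (inf_le_right : fxr H U ⊓ A ≤ A), inf_relIndex_right]
  have hbot : fxr H U ⊓ A = ⊥ := by
    by_contra hne
    have hneA : fxr H U ⊓ A ≠ A := fun h1 => h.nlow (h1 ▸ hC)
    have h1 := ha.atom _ inf_le_right hne hneA
    have h2 : U ≤ cv M ((fxr H U ⊓ A : Subgroup H) : Set H) := fun m hm c hc => hc.1 m hm
    have h3 : cv M (A : Set H) ≤ cv M ((fxr H U ⊓ A : Subgroup H) : Set H) := fun m hm c hc => hm c hc.2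
    have h4 := relIndex_le_of_le_right h2 (relIndex_ne (cv M (A : Set H)) _)
    have h5 : (cv M (A : Set H)).relIndex (cv M ((fxr H U ⊓ A : Subgroup H) : Set H)) *
        (cv M ((fxr H U ⊓ A : Subgroup H) : Set H)).index = (cv M (A : Set H)).index := relIndex_mul_index h3
    rw [ha.exact, hcard] at h5
    have h6 : 0 < (fxr H U).relIndex A := Nat.pos_of_ne_zero (relIndex_ne _ _)
    have h7 : (fxr H U).relIndex A ≤ (cv M (A : Set H)).relIndex (cv M ((fxr H U ⊓ A : Subgroup H) : Set H)) :=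
      hno.trans h4
    nlinarith
  rw [hbot, card_bot, mul_one] at hcard
  have h1 : (cv M (A : Set H)).relIndex U ≤ (cv M (A : Set H)).index := by
    rw [← relIndex_top_right]
    exact relIndex_le_of_le_right le_top (relIndex_ne _ _)
  rw [ha.exact] at h1
  rw [← hcard] at hno
  have h2 : (cv M (A : Set H)).relIndex U = Nat.card A := le_antisymm h1 hno
  refine ⟨hbot, h2, ?_⟩
  have hM := comm_of_sq h.sq
  have hn : (cv M (A : Set H)).Normal := ⟨fun m hm g => by rwa [hM g m, mul_inv_cancel_right]⟩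
  have h3 : (cv M (A : Set H)).relIndex (U ⊔ cv M (A : Set H)) = (cv M (A : Set H)).relIndex U := relIndex_sup_right _ _
  have h4 := relIndex_mul_index (le_sup_right : cv M (A : Set H) ≤ U ⊔ cv M (A : Set H))
  rw [h3, h2, ha.exact] at h4
  have h5 : 0 < Nat.card A := Nat.card_pos
  exact index_eq_one.1 (Nat.eq_of_mul_eq_mul_left h5 (by rw [h4, mul_one]))

/-- `H` fixes `y` modulo `U` -/
theorem y_mod (ml : MLK.{u, v}) (h : Pre T A V x y) (ha : Atom M A) (g : H) :
    g • y * y ∈ orb (⊤ : Subgroup H) x := by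
  obtain ⟨-, -, htop⟩ := h.counts ml ha
  have hM := comm_of_sq h.sq
  set U := orb (⊤ : Subgroup H) x with hU
  have hUn : U.Normal := ⟨fun m hm g => by rwa [hM g m, mul_inv_cancel_right]⟩
  let _ := modAct (H := H) U (orb_inv x)
  have hmk : ∀ a b : M, (QuotientGroup.mk a : M ⧸ U) = QuotientGroup.mk b ↔ a * b ∈ U := by
    intro a b
    rw [QuotientGroup.eq, h.inv_eq]
  have hS : (⊤ : Subgroup H) ≤ MulAction.stabilizer H (QuotientGroup.mk y : M ⧸ U) := by
    rw [← h.K0T, sup_le_iff]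
    refine ⟨?_, fun t ht => ?_⟩
    · rw [normalClosure, closure_le]
      intro k hk
      obtain ⟨a, ha, hak⟩ := Group.mem_conjugatesOfSet_iff.1 hk
      obtain ⟨c, rfl⟩ := isConj_iff.1 hak
      change (QuotientGroup.mk ((c * a * c⁻¹) • y) : M ⧸ U) = QuotientGroup.mk y
      rw [hmk]
      obtain ⟨u, hu, w, hw, huw⟩ := (mem_sup_of_normal_left (s := U) (t := cv M (A : Set H))).1
        (by rw [htop]; exact mem_top (c⁻¹ • y))
      have e : (c * a * c⁻¹) • y * y = c • (a • u * u) := by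
        have e1 : y = c • (u * w) := by rw [huw, smul_inv_smul]
        rw [mul_smul, mul_smul, ← huw]
        conv_lhs => rw [e1]
        rw [← smul_mul', smul_mul' a u w, hw a ha, hM u w, mul_assoc, ← mul_assoc w w u, h.sq, one_mul]
      rw [e]
      exact orb_inv x c _ (U.mul_mem (orb_inv x a u hu) hu)
    · change (QuotientGroup.mk (t • y) : M ⧸ U) = QuotientGroup.mk y
      rw [h.ty ht]
  exact (hmk _ _).1 (hS (mem_top g))

/-- **Stage 2** -/
theorem stage2 (ml : MLK.{u, v}) (h : Pre T A V x y) (ha : Atom M A) :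
    letI := subAct (orb (⊤ : Subgroup H) x) (orb_inv x)
    ∃ y' : orb (⊤ : Subgroup H) x, Pre2 T A (V.subgroupOf (orb (⊤ : Subgroup H) x)) (⟨x, mem_orb_self _ x⟩) y' := by
  obtain ⟨hbot, hidx, -⟩ := h.counts ml ha
  obtain ⟨z, hz, hyz⟩ := exists_fixed_mod h.sq h.syl (fun t ht => h.ty ht) (h.y_mod ml ha)
  set U := orb (⊤ : Subgroup H) x with hU
  let _ := subAct U (orb_inv x)
  have hsm : ∀ (g : H) (u : U), ((g • u : U) : M) = g • (u : M) := fun _ _ => rfl
  have hcv : cv U (A : Set H) = (cv M (A : Set H)).subgroupOf U := by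
    ext u
    rw [mem_subgroupOf]
    exact ⟨fun h1 a ha => congrArg Subtype.val (h1 a ha), fun h1 a ha => Subtype.ext (h1 a ha)⟩
  refine ⟨⟨y * z, hyz⟩, ?_⟩
  exact
    { sq := fun m => Subtype.ext (h.sq m)
      two := h.two
      syl := h.syl
      nx := fun g hg => Subtype.ext (h.nx g hg)
      ny := fun g hg => Subtype.ext (by rw [hsm, smul_mul', h.ny g hg, hz])
      cV := by
        rw [← h.cV]
        exact Nat.card_congr (subgroupOfEquivOfLe h.V_le).toEquiv
      xV := h.xV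
      uni := by
        rintro P hP ⟨p, hp, hpx⟩
        obtain ⟨h1, h2⟩ := h.uni P hP ⟨p, hp, fun h3 => hpx (Subtype.ext h3)⟩
        exact ⟨fun q hq w hw => h1 q hq w hw, fun q hq => Subtype.ext (by rw [hsm, smul_mul', h2 q hq, hz])⟩
      mx := by
        obtain ⟨g, hg⟩ := h.mx
        exact ⟨g, fun h1 => hg (congrArg Subtype.val h1)⟩
      my := by
        obtain ⟨g, hg⟩ := h.my
        refine ⟨g, fun h1 => hg ?_⟩
        have h2 : g • (y * z) = y * z := congrArg Subtype.val h1
        rw [smul_mul', hz] at h2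
        exact mul_right_cancel h2
      el := h.el
      AT := h.AT
      low := h.low
      nlow := h.nlow
      KH := h.KH
      gen := by
        rw [eq_top_iff]
        have h1 : U ≤ (orb (⊤ : Subgroup H) (⟨x, mem_orb_self _ x⟩ : U)).map U.subtype :=
          orb_le fun g _ => ⟨g • ⟨x, mem_orb_self _ x⟩, smul_mem_orb_self (mem_top g), rfl⟩
        intro u _
        obtain ⟨w, hw, hwu⟩ := h1 u.2
        rwa [← (Subtype.ext hwu : w = u)]
      ffx := fun a ha hm => by
        have h1 : a ∈ fxr H U ⊓ A := ⟨fun m hm' => congrArg Subtype.val (hm ⟨m, hm'⟩), ha⟩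
        rw [hbot] at h1
        exact mem_bot.1 h1
      exact := by rw [hcv]; exact hidx }

end two

end Pre

/-! ### Stage 3: the irreducible quotient -/

/-- `C_M(⟨A^H⟩)` -/
def U0 (M : Type v) [Group M] [MulDistribMulAction H M] (A : Subgroup H) : Subgroup M :=
  cv M ((normalClosure (A : Set H) : Subgroup H) : Set H)

theorem U0_inv : ∀ g : H, ∀ m ∈ U0 M A, g • m ∈ U0 M A := by
  intro g m hm k hk
  have h1 : g⁻¹ * k * g ∈ normalClosure (A : Set H) := by
    have := (normalClosure_normal (s := (A : Set H))).conj_mem k hk g⁻¹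
    rwa [inv_inv] at this
  calc k • g • m = g • (g⁻¹ * k * g) • m := by rw [← mul_smul, ← mul_smul]; congr 1; group
    _ = g • m := by rw [hm _ h1]

theorem normal_of_sq (sq : ∀ m : M, m * m = 1) (W : Subgroup M) : W.Normal :=
  ⟨fun m hm g => by rwa [comm_of_sq sq g m, mul_inv_cancel_right]⟩

namespace Pre2

theorem not_mem (h : Pre2 T A V x y) {W : Subgroup M} (hW : ∀ g : H, ∀ m ∈ W, g • m ∈ W) (hne : W ≠ ⊤) : x ∉ W := by
  intro hx
  apply hne
  rw [eq_top_iff, ← h.gen]
  exact orb_le fun g _ => hW g x hx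

section fin

variable [Finite H]

theorem o2_top (h : Pre2 T A V x y) : A ⊓ o2 (⊤ : Subgroup H) = ⊥ := by
  rw [eq_bot_iff]
  rintro a ⟨ha, hao⟩
  have h1 := o2_top_le h.two h.syl (fun t ht => h.tx ht) hao
  rw [h.gen] at h1
  exact mem_bot.2 (h.ffx a ha fun m => h1 m (mem_top m))

/-- `x` is moved modulo every proper submodule -/
theorem moved (h : Pre2 T A V x y) {W : Subgroup M} (hW : ∀ g : H, ∀ m ∈ W, g • m ∈ W) (hne : W ≠ ⊤) :
    ∃ g : H, g • x * x ∉ W := by
  by_contra hc
  push Not at hc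
  have hVf : Finite V := Nat.finite_of_card_ne_zero (by rw [h.cV]; omega)
  have h1 : ∃ v ∈ V, v ≠ 1 ∧ v ≠ x := by
    by_contra hv
    push Not at hv
    have h2 : (V : Set M) ⊆ {1, x} := fun v hv' => by
      by_cases h3 : v = 1
      · exact Or.inl h3
      · exact Or.inr (hv v hv' h3)
    have h3 := Set.ncard_le_ncard h2 (Set.toFinite _)
    have h4 : (V : Set M).ncard = 4 := by rw [← Nat.card_coe_set_eq]; exact h.cV
    have h5 := Set.ncard_insert_le (1 : M) ({x} : Set M)
    rw [Set.ncard_singleton] at h5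
    omega
  obtain ⟨v, hv, hv1, hvx⟩ := h1
  obtain ⟨g, hg, -⟩ := h.trV hv hv1
  have h2 : v * x ∈ W := by rw [← hg]; exact hc g
  have h3 : v * x ≠ 1 := fun h3 => hvx (by rw [← h.inv_eq x]; exact mul_eq_one_iff_eq_inv.1 h3)
  obtain ⟨k, hk, -⟩ := h.trV (V.mul_mem hv h.xV) h3
  apply h.not_mem hW hne
  have h4 := hW k⁻¹ _ h2
  rwa [← hk, inv_smul_smul] at h4

end fin

section count

variable [Finite H] [Finite M]

/-- **Every proper submodule is centralised by `A`; `A` is faithful and exact modulo it** -/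
theorem mod (ml : MLK.{u, v}) (h : Pre2 T A V x y) {W : Subgroup M} [W.Normal] (hW : ∀ g : H, ∀ m ∈ W, g • m ∈ W)
    (hne : W ≠ ⊤) :
    letI := modAct W hW
    (∀ a ∈ A, (∀ m : M ⧸ W, a • m = m) → a = 1) ∧ (cv (M ⧸ W) (A : Set H)).index = Nat.card A ∧
      W ≤ cv M (A : Set H) ∧ orb (⊤ : Subgroup H) (QuotientGroup.mk x : M ⧸ W) = ⊤ := by
  let _ := modAct W hW
  have hsm : ∀ (g : H) (m : M), g • (QuotientGroup.mk m : M ⧸ W) = QuotientGroup.mk (g • m) := fun _ _ => rfl
  have hmk : ∀ a b : M, (QuotientGroup.mk a : M ⧸ W) = QuotientGroup.mk b ↔ a * b ∈ W := by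
    intro a b
    rw [QuotientGroup.eq, h.inv_eq]
  have hTs : T ≤ MulAction.stabilizer H (QuotientGroup.mk x : M ⧸ W) := fun t ht => by
    rw [MulAction.mem_stabilizer_iff, hsm, h.tx ht]
  have hR : MulAction.stabilizer H (QuotientGroup.mk x : M ⧸ W) ≠ ⊤ := by
    intro h1
    obtain ⟨g, hg⟩ := h.moved hW hne
    have h2 : g ∈ MulAction.stabilizer H (QuotientGroup.mk x : M ⧸ W) := by rw [h1]; exact mem_top g
    rw [MulAction.mem_stabilizer_iff, hsm, hmk] at h2
    exact hg h2
  have hA := h.low _ hTs hR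
  have htop : orb (⊤ : Subgroup H) (QuotientGroup.mk x : M ⧸ W) = ⊤ := by
    have h1 : orb (⊤ : Subgroup H) x ≤
        (orb (⊤ : Subgroup H) (QuotientGroup.mk x : M ⧸ W)).comap (QuotientGroup.mk' W) :=
      orb_le fun g _ => smul_mem_orb_self (mem_top g)
    rw [h.gen] at h1
    rw [eq_top_iff]
    intro m _
    obtain ⟨m, rfl⟩ := QuotientGroup.mk_surjective m
    exact h1 (mem_top m)
  have hsq : ∀ m : M ⧸ W, m * m = 1 := by
    intro m
    obtain ⟨m, rfl⟩ := QuotientGroup.mk_surjective m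
    rw [← QuotientGroup.mk_mul, h.sq]
    rfl
  have hno := no ml h.KH hsq h.two h.syl (fun t ht => hTs ht) htop h.el hA
  have hfn : (fxr H (⊤ : Subgroup (M ⧸ W))).Normal := fxr_normal fun _ _ _ => mem_top _
  have hker : ∀ a ∈ A, (∀ m : M ⧸ W, a • m = m) → a = 1 := by
    intro a ha hm
    have h1 : a ∈ A ⊓ o2 (⊤ : Subgroup H) := by
      refine ⟨ha, o2_inf_le (L := ⊤) (N := fxr H (⊤ : Subgroup (M ⧸ W))) le_top
        (fun g _ n hn => hfn.conj_mem n hn g) (fun g hg => hg _ (mem_top _)) ⟨hA ha, fun m _ => hm m⟩⟩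
    rw [h.o2_top] at h1
    exact mem_bot.1 h1
  have hbot : fxr H (⊤ : Subgroup (M ⧸ W)) ⊓ A = ⊥ := by
    rw [eq_bot_iff]
    rintro a ⟨h1, ha⟩
    exact mem_bot.2 (hker a ha fun m => h1 m (mem_top m))
  rw [← inf_relIndex_right, hbot, relIndex_bot_left] at hno
  have h1 : cv M (A : Set H) ⊔ W ≤ (cv (M ⧸ W) (A : Set H)).comap (QuotientGroup.mk' W) := by
    rw [sup_le_iff]
    constructor
    · intro m hm a ha
      change a • (QuotientGroup.mk m : M ⧸ W) = QuotientGroup.mk m
      rw [hsm, hm a ha]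
    · intro m hm a ha
      change a • (QuotientGroup.mk m : M ⧸ W) = QuotientGroup.mk m
      rw [hsm, hmk]
      exact W.mul_mem (hW a m hm) hm
  have h2 := index_antitone h1
  rw [index_comap_of_surjective _ (QuotientGroup.mk'_surjective W)] at h2
  have h3 := index_antitone (le_sup_left : cv M (A : Set H) ≤ cv M (A : Set H) ⊔ W)
  have h4 := relIndex_mul_index (le_sup_left : cv M (A : Set H) ≤ cv M (A : Set H) ⊔ W)
  rw [h.exact] at h3 h4
  refine ⟨hker, by omega, ?_, htop⟩
  have h5 : (cv M (A : Set H) ⊔ W).index = Nat.card A := by omega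
  rw [h5] at h4
  have h6 : (cv M (A : Set H)).relIndex (cv M (A : Set H) ⊔ W) = 1 :=
    Nat.eq_of_mul_eq_mul_right Nat.card_pos (by rw [h4, one_mul])
  exact le_sup_right.trans (relIndex_eq_one.1 h6)

theorem le_U0 (ml : MLK.{u, v}) (h : Pre2 T A V x y) {W : Subgroup M} (hW : ∀ g : H, ∀ m ∈ W, g • m ∈ W)
    (hne : W ≠ ⊤) : W ≤ U0 M A := by
  have _ := normal_of_sq h.sq W
  obtain ⟨-, -, h1, -⟩ := h.mod ml hW hne
  have h2 : (fxr H W).Normal := fxr_normal hW
  have h3 : normalClosure (A : Set H) ≤ fxr H W := normalClosure_le_normal fun a ha m hm => h1 hm a ha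
  exact fun m hm k hk => h3 hk m hm

omit [Finite M] [Finite H] in
theorem U0_ne (h : Pre2 T A V x y) : U0 M A ≠ ⊤ := by
  intro h1
  apply h.nlow
  have h2 : A ≤ ⊥ := by
    intro a ha
    refine mem_bot.2 (h.ffx a ha fun m => ?_)
    have h3 : m ∈ U0 M A := by rw [h1]; exact mem_top m
    exact h3 a (subset_normalClosure ha)
  exact h2.trans bot_le

omit [Finite M] in
theorem y_not_mem (h : Pre2 T A V x y) : y ∉ U0 M A := by
  intro h1
  obtain ⟨g, hg⟩ := h.my
  exact hg (h.fixed (fun t ht => h.ty ht) (fun k hk => h1 k hk) g)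

omit [Finite M] in
theorem xy_not_mem (h : Pre2 T A V x y) : x * y ∉ U0 M A := by
  intro h1
  obtain ⟨P, hP, p, hp, hpx⟩ := h.exists_par
  obtain ⟨-, h2⟩ := h.uni P hP ⟨p, hp, hpx⟩
  have h3 := h.fixed (m := x * y) (fun t ht => by rw [smul_mul', h.tx ht, h.ty ht]) (fun k hk => h1 k hk) p
  rw [smul_mul', h2 p hp] at h3
  exact hpx (mul_right_cancel h3)

/-- **Stage 3** -/
theorem stage3 (ml : MLK.{u, v}) (h : Pre2 T A V x y) [(U0 M A).Normal] :
    letI := modAct (U0 M A) (U0_inv (M := M) (A := A))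
    Pre2 T A (V.map (QuotientGroup.mk' (U0 M A))) (QuotientGroup.mk x : M ⧸ U0 M A) (QuotientGroup.mk y : M ⧸ U0 M A) ∧
      ∀ W : Subgroup (M ⧸ U0 M A), (∀ h : H, ∀ w ∈ W, h • w ∈ W) → W = ⊥ ∨ W = ⊤ := by
  obtain ⟨hker, hex, -, htop⟩ := h.mod ml (U0_inv (M := M) (A := A)) h.U0_ne
  let _ := modAct (U0 M A) (U0_inv (M := M) (A := A))
  have hsm : ∀ (g : H) (m : M), g • (QuotientGroup.mk m : M ⧸ U0 M A) = QuotientGroup.mk (g • m) := fun _ _ => rfl
  have hmk : ∀ a b : M, (QuotientGroup.mk a : M ⧸ U0 M A) = QuotientGroup.mk b ↔ a * b ∈ U0 M A := by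
    intro a b
    rw [QuotientGroup.eq, h.inv_eq]
  have hmk1 : ∀ a : M, (QuotientGroup.mk a : M ⧸ U0 M A) = 1 ↔ a ∈ U0 M A := fun a => QuotientGroup.eq_one_iff a
  have irr : ∀ W : Subgroup (M ⧸ U0 M A), (∀ h : H, ∀ w ∈ W, h • w ∈ W) → W = ⊥ ∨ W = ⊤ := by
    intro W hW
    by_cases h1 : W = ⊤
    · exact Or.inr h1
    left
    have h2 : W.comap (QuotientGroup.mk' (U0 M A)) ≠ ⊤ := by
      intro h2
      apply h1
      rw [eq_top_iff]
      intro w _
      obtain ⟨m, rfl⟩ := QuotientGroup.mk_surjective w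
      have : m ∈ W.comap (QuotientGroup.mk' (U0 M A)) := by rw [h2]; exact mem_top m
      exact this
    have h3 := h.le_U0 ml (W := W.comap (QuotientGroup.mk' (U0 M A))) (fun g m hm => hW g _ hm) h2
    rw [eq_bot_iff]
    intro w hw
    obtain ⟨m, rfl⟩ := QuotientGroup.mk_surjective w
    exact mem_bot.2 ((hmk1 m).2 (h3 hw))
  refine ⟨?_, irr⟩
  exact
    { sq := by
        intro m
        obtain ⟨m, rfl⟩ := QuotientGroup.mk_surjective m
        rw [← QuotientGroup.mk_mul, h.sq]
        rfl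
      two := h.two
      syl := h.syl
      nx := fun g hg => by rw [hsm, h.nx g hg]
      ny := fun g hg => by rw [hsm, h.ny g hg]
      cV := by
        have h1 : U0 M A ⊓ V = ⊥ := by
          rw [eq_bot_iff]
          rintro v ⟨hv1, hv⟩
          by_contra hne
          obtain ⟨g, hg, -⟩ := h.trV hv hne
          apply h.not_mem (U0_inv (M := M) (A := A)) h.U0_ne
          rw [← inv_smul_smul g x, hg]
          exact U0_inv _ _ hv1
        rw [← relIndex_ker, QuotientGroup.ker_mk', ← inf_relIndex_right, h1, relIndex_bot_left, h.cV]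
      xV := mem_map_of_mem _ h.xV
      uni := by
        rintro P hP ⟨p, hp, hpx⟩
        obtain ⟨h1, h2⟩ := h.uni P hP ⟨p, hp, fun h3 => hpx (by rw [hsm, h3])⟩
        refine ⟨?_, fun q hq => by rw [hsm, h2 q hq]⟩
        rintro q hq _ ⟨v, hv, rfl⟩
        exact ⟨q • v, h1 q hq v hv, rfl⟩
      mx := by
        obtain ⟨g, hg⟩ := h.moved (U0_inv (M := M) (A := A)) h.U0_ne
        exact ⟨g, fun h1 => hg ((hmk _ _).1 h1)⟩
      my := by
        by_contra hc
        push Not at hc
        rcases irr (zpowers (QuotientGroup.mk y : M ⧸ U0 M A)) (by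
          rintro g _ ⟨n, rfl⟩
          change g • (QuotientGroup.mk y : M ⧸ U0 M A) ^ n ∈ _
          rw [smul_zpow', hc g]
          exact ⟨n, rfl⟩) with h1 | h1
        · rw [zpowers_eq_bot, hmk1] at h1
          exact h.y_not_mem h1
        · have h2 : (QuotientGroup.mk x : M ⧸ U0 M A) ∈ zpowers (QuotientGroup.mk y : M ⧸ U0 M A) := by
            rw [h1]
            exact mem_top _
          obtain ⟨n, hn⟩ := h2
          change (QuotientGroup.mk y : M ⧸ U0 M A) ^ n = QuotientGroup.mk x at hn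
          have h3 : (QuotientGroup.mk y : M ⧸ U0 M A) ^ (2 : ℤ) = 1 := by
            rw [zpow_two, ← QuotientGroup.mk_mul, h.sq]
            rfl
          rcases Int.even_or_odd' n with ⟨k, hk | hk⟩
          · rw [hk, zpow_mul, h3, one_zpow] at hn
            exact h.not_mem (U0_inv (M := M) (A := A)) h.U0_ne ((hmk1 x).1 hn.symm)
          · rw [hk, zpow_add, zpow_mul, h3, one_zpow, one_mul, zpow_one] at hn
            exact h.xy_not_mem ((hmk _ _).1 hn.symm)
      el := h.el
      AT := h.AT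
      low := h.low
      nlow := h.nlow
      KH := h.KH
      gen := htop
      ffx := hker
      exact := hex }

end count

end Pre2

/-! ### Stage 4: the faithful quotient -/

theorem triv_fxr : ∀ g ∈ fxr H (⊤ : Subgroup M), ∀ m : M, g • m = m := fun _ hg m => hg m (mem_top m)

/-- **Stage 4** -/
theorem Pre2.stage4 [Finite H] [Finite M] (h : Pre2 T A V x y) [(fxr H (⊤ : Subgroup M)).Normal] :
    letI := quoAct (fxr H (⊤ : Subgroup M)) (triv_fxr (H := H) (M := M))
    Pre2 (T.map (QuotientGroup.mk' (fxr H (⊤ : Subgroup M)))) (A.map (QuotientGroup.mk' (fxr H (⊤ : Subgroup M)))) V x y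
      ∧ ∀ g : H ⧸ fxr H (⊤ : Subgroup M), (∀ m : M, g • m = m) → g = 1 := by
  let _ := quoAct (fxr H (⊤ : Subgroup M)) (triv_fxr (H := H) (M := M))
  set C := fxr H (⊤ : Subgroup M) with hC
  let π : H →* H ⧸ C := QuotientGroup.mk' C
  have hπ : Function.Surjective π := QuotientGroup.mk'_surjective C
  have he : ∀ (g : H) (m : M), π g • m = g • m := fun _ _ => rfl
  have faith : ∀ g : H ⧸ C, (∀ m : M, g • m = m) → g = 1 := by
    intro g hg
    obtain ⟨g, rfl⟩ := hπ g
    exact (QuotientGroup.eq_one_iff g).2 fun m _ => hg m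
  have hnor : ∀ m : M, (∀ g ∈ normalizer (T : Set H), g • m = m) → ∀ g ∈ normalizer (T.map π : Set (H ⧸ C)), g • m = m := by
    intro m hm g hg
    obtain ⟨t, ⟨t, ht, rfl⟩, n, hn, rfl⟩ := exists_normalizer_map π hπ h.two h.syl hg
    rw [mul_smul, he, he, hm n hn, hm t (le_normalizer ht)]
  have hAC : A ⊓ C = ⊥ := by
    rw [eq_bot_iff]
    rintro a ⟨ha, h1⟩
    exact mem_bot.2 (h.ffx a ha fun m => h1 m (mem_top m))
  have hgen : orb (⊤ : Subgroup (H ⧸ C)) x = ⊤ := by
    rw [eq_top_iff, ← h.gen]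
    exact orb_le fun g _ => smul_mem_orb_self (g := π g) (mem_top _)
  have hsyl : ¬ 2 ∣ (T.map π).index := fun h2 => h.syl (h2.trans (index_map_dvd T hπ))
  have htop : o2 (⊤ : Subgroup (H ⧸ C)) = ⊥ := by
    have h1 := o2_top_le (x := x) (h.two.map π) hsyl (by rintro _ ⟨t, ht, rfl⟩; rw [he, h.tx ht])
    rw [hgen] at h1
    rw [eq_bot_iff]
    exact fun g hg => mem_bot.2 (faith g fun m => h1 hg m (mem_top m))
  refine ⟨?_, faith⟩
  exact
    { sq := h.sq
      two := h.two.map π
      syl := hsyl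
      nx := hnor x h.nx
      ny := hnor y h.ny
      cV := h.cV
      xV := h.xV
      uni := by
        rintro P' hP' ⟨p', hp', hpx⟩
        obtain ⟨P, hP, rfl⟩ := exists_minPar_map π hπ hP'
        obtain ⟨p, hp, rfl⟩ := hp'
        obtain ⟨h1, h2⟩ := h.uni P hP ⟨p, hp, hpx⟩
        refine ⟨?_, ?_⟩
        · rintro _ ⟨q, hq, rfl⟩ w hw
          exact h1 q hq w hw
        · rintro _ ⟨q, hq, rfl⟩
          exact h2 q hq
      mx := by
        obtain ⟨g, hg⟩ := h.mx
        exact ⟨π g, hg⟩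
      my := by
        obtain ⟨g, hg⟩ := h.my
        exact ⟨π g, hg⟩
      el := by
        rintro _ ⟨a, ha, rfl⟩
        rw [← map_mul, h.el a ha, map_one]
      AT := map_mono h.AT
      low := by
        intro R hR hne
        have h1 : R.comap π ≠ ⊤ := by
          intro h1
          apply hne
          rw [eq_top_iff]
          intro g _
          obtain ⟨g, rfl⟩ := hπ g
          have : g ∈ R.comap π := by rw [h1]; exact mem_top g
          exact this
        have h2 := (map_mono (f := π) (h.low _ (map_le_iff_le_comap.1 hR) h1)).trans (o2_map_le π _)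
        rwa [map_comap_eq_self_of_surjective hπ] at h2
      nlow := by
        intro h1
        rw [htop, le_bot_iff, Subgroup.map_eq_bot_iff] at h1
        rw [QuotientGroup.ker_mk'] at h1
        apply h.nlow
        rw [← inf_eq_left.2 h1, hAC]
        exact bot_le
      KH := sec_KG.quo H h.KH C
      gen := hgen
      ffx := fun a _ hm => faith a hm
      exact := by
        have h1 : cv M (A.map π : Set (H ⧸ C)) = cv M (A : Set H) := by
          ext m
          constructor
          · exact fun hm a ha => hm _ ⟨a, ha, rfl⟩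
          · rintro hm _ ⟨a, ha, rfl⟩
            exact hm a ha
        rw [h1, h.exact, ← relIndex_ker, QuotientGroup.ker_mk', ← inf_relIndex_right, inf_comm, hAC,
          relIndex_bot_left] }

/-! ### Stage 5: the end -/

/-- **Stage 5** -/
theorem Pre2.sys [Finite H] [Finite M] (ml : MLK.{u, v}) (h : Pre2 T A V x y)
    (faith : ∀ g : H, (∀ m : M, g • m = m) → g = 1)
    (irr : ∀ W : Subgroup M, (∀ h : H, ∀ w ∈ W, h • w ∈ W) → W = ⊥ ∨ W = ⊤) :
    ∃ A' ≤ A, Sys T A' V x y := by
  have hle : ∀ B ≤ A, Nat.card B ≤ (cv M (B : Set H)).index := by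
    intro B hB
    have h1 := no ml h.KH h.sq h.two h.syl (fun t ht => h.tx ht) h.gen (fun b hb => h.el b (hB hb)) (hB.trans h.Ax)
    have h2 : fxr H (⊤ : Subgroup M) = ⊥ := by
      rw [eq_bot_iff]
      exact fun g hg => mem_bot.2 (faith g fun m => hg m (mem_top m))
    rwa [h2, relIndex_bot_left] at h1
  have hA1 : A ≠ ⊥ := fun h1 => h.nlow (h1 ▸ bot_le)
  have hne : ({B | B ≤ A ∧ B ≠ ⊥ ∧ (cv M (B : Set H)).index = Nat.card B} : Set (Subgroup H)).Nonempty :=
    ⟨A, le_rfl, hA1, h.exact⟩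
  obtain ⟨B, ⟨hBA, hB1, hBe⟩, hmin⟩ := wellFounded_lt.has_min _ hne
  have hx1 : x ≠ 1 := by
    rintro rfl
    obtain ⟨g, hg⟩ := h.mx
    exact hg (smul_one g)
  have hy1 : y ≠ 1 := by
    rintro rfl
    obtain ⟨g, hg⟩ := h.my
    exact hg (smul_one g)
  have hstY : MulAction.stabilizer H y ≠ ⊤ := by
    intro h1
    obtain ⟨g, hg⟩ := h.my
    exact hg (h1 ▸ mem_top g : g ∈ MulAction.stabilizer H y)
  have hxy : x ≠ y := by
    rintro rfl
    obtain ⟨P, hP, hm⟩ := h.exists_par
    obtain ⟨p, hp, hpx⟩ := hm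
    exact hpx ((h.uni P hP ⟨p, hp, hpx⟩).2 p hp)
  -- `C_H(x y) ≤ C_H(x)`
  have hst : ∀ g : H, g • (x * y) = x * y → g • x = x := by
    have h1 : MulAction.stabilizer H (x * y) ≤ MulAction.stabilizer H x := by
      refine MinSimple.MinParabolic.le_of_forall (S := T) (fun t ht => ?_) (fun n hn => h.nx n hn.2) fun P hP hPs p hp => ?_
      · rw [MulAction.mem_stabilizer_iff, smul_mul', h.tx ht, h.ty ht]
      · by_contra hpx
        have h2 := (h.uni P hP ⟨p, hp, hpx⟩).2 p hp
        have h3 : p • (x * y) = x * y := hPs hp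
        rw [smul_mul', h2] at h3
        exact hpx (mul_right_cancel h3)
    exact fun g hg => h1 hg
  have htop : o2 (⊤ : Subgroup H) = ⊥ := by
    have h1 := o2_top_le (x := x) h.two h.syl (fun t ht => h.tx ht)
    rw [h.gen] at h1
    rw [eq_bot_iff]
    exact fun g hg => mem_bot.2 (faith g fun m => h1 hg m (mem_top m))
  have hcore : ∀ t : H, t ≠ 1 → t ∉ pCore 2 H := by
    intro t ht1 ht
    have h1 : pCore 2 H ≤ o2 (⊤ : Subgroup H) :=
      le_o2 le_top (Lib.Cores.pCore_isPGroup 2) (le_normalizer_of fun g _ q hq =>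
        (Lib.Cores.pCore_normal 2).conj_mem q hq g)
    rw [htop] at h1
    exact ht1 (mem_bot.1 (h1 ht))
  have h4 : 4 ≤ Nat.card B := by
    obtain ⟨b, hb⟩ := Subgroup.ne_bot_iff_exists_ne_one.1 hB1
    have hb1 : (b : H) ≠ 1 := fun h1 => hb (Subtype.ext h1)
    have hbA : (b : H) ∈ A := hBA b.2
    have h5 := TC.TT.not_trans h.sq (x := x) (y := y) hst (o2_isPGroup (MulAction.stabilizer H x))
      (o2_isPGroup (MulAction.stabilizer H y)) (fun g hg a ha => conj_mem_of_le (le_normalizer_o2 _) hg ha)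
      (fun g hg a ha => conj_mem_of_le (le_normalizer_o2 _) hg ha) (h.Ax hbA)
      (h.low _ (fun t ht => h.ty ht) hstY hbA) (h.el b hbA) (hcore b hb1)
    have h6 := index_antitone (cv_anti (V := M) (show ({(b : H)} : Set H) ⊆ (B : Set H) from by
      rintro _ rfl; exact b.2))
    rw [hBe] at h6
    obtain ⟨n, hn⟩ := IsPGroup.iff_card.1 (h.two.to_le (hBA.trans h.AT))
    rw [hn] at h6 ⊢
    match n, h6 with
    | 0, h6 => omega
    | 1, h6 => omega
    | n + 2, _ =>
      have h7 : 1 ≤ 2 ^ n := Nat.one_le_two_pow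
      rw [pow_add]
      omega
  have ht : Two T V x y :=
    { sq := h.sq
      faith := faith
      gen := h.gen
      two := h.two
      syl := h.syl
      x1 := hx1
      y1 := hy1
      xy := hxy
      nx := h.nx
      ny := h.ny
      cV := h.cV
      xV := h.xV
      uni := h.uni }
  refine ⟨B, hBA, ?_⟩
  exact
    { ht with
      el := fun b hb => h.el b (hBA hb)
      A1 := hB1
      exact := hBe
      atom := by
        intro C hC hC1 hCB
        refine lt_of_le_of_ne (hle C (hC.trans hBA)) fun h1 => ?_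
        exact hmin C ⟨hC.trans hBA, hC1, h1.symm⟩ (lt_of_le_of_ne hC hCB)
      irr := irr
      AT := hBA.trans h.AT
      four := h4
      low := fun R hR hne => hBA.trans (h.low R hR hne)
      nmax := by
        rintro ⟨N, hN, hN2⟩
        apply hN
        rw [eq_top_iff]
        refine MinSimple.MinParabolic.le_of_forall (S := T) le_top (fun n hn => ?_) fun P hP _ => ?_
        · exact hN2 (MulAction.stabilizer H x) (fun t ht => h.tx ht) h.stab_ne (h.nx n hn.2)
        · by_cases hm : ∃ p ∈ P, p • x ≠ x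
          · exact fun p hp => hN2 (MulAction.stabilizer H y) (fun t ht => h.ty ht) hstY ((h.uni P hP hm).2 p hp)
          · push Not at hm
            exact fun p hp => hN2 (MulAction.stabilizer H x) (fun t ht => h.tx ht) h.stab_ne (hm p hp)
      KH := h.KH }

/-! ### The theorem -/

/-- **`Inp → False` if the middle is contradictory** -/
theorem false_of (ml : MLK.{u, v})
    (k : ∀ (H' : Type u) [Group H'] [Finite H'] (M' : Type v) [Group M'] [Finite M'] [MulDistribMulAction H' M']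
      (T' A' : Subgroup H') (V' : Subgroup M') (x' y' : M'), ¬ Sys T' A' V' x' y')
    {H : Type u} [Group H] [Finite H] {M : Type v} [Group M] [Finite M] [MulDistribMulAction H M] {T A : Subgroup H}
    {V : Subgroup M} {x y : M} (h : Inp T A V x y) : False := by
  obtain ⟨R, -, hpre, hat⟩ := exists_pre h
  obtain ⟨y', h2⟩ := hpre.stage2 ml hat
  let _ := subAct (orb (⊤ : Subgroup R) x) (orb_inv x)
  have _ := normal_of_sq h2.sq (U0 (orb (⊤ : Subgroup R) x) (A.subgroupOf R))
  obtain ⟨h3, irr⟩ := h2.stage3 ml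
  let _ := modAct (U0 (orb (⊤ : Subgroup R) x) (A.subgroupOf R))
    (U0_inv (M := orb (⊤ : Subgroup R) x) (A := A.subgroupOf R))
  have _ : (fxr R (⊤ : Subgroup (orb (⊤ : Subgroup R) x ⧸ U0 (orb (⊤ : Subgroup R) x) (A.subgroupOf R)))).Normal :=
    fxr_normal fun _ _ _ => mem_top _
  obtain ⟨h4, faith⟩ := h3.stage4
  let _ := quoAct (fxr R (⊤ : Subgroup (orb (⊤ : Subgroup R) x ⧸ U0 (orb (⊤ : Subgroup R) x) (A.subgroupOf R))))
    triv_fxr
  obtain ⟨A', -, h5⟩ := h4.sys ml faith fun W hW => irr W fun g w hw => hW (QuotientGroup.mk g) w hw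
  exact k _ _ _ _ _ _ _ h5

/-- **`Inp → ∃ .., Sys`** -/
theorem gen (ml : MLK.{u, v}) {H : Type u} [Group H] [Finite H] {M : Type v} [Group M] [Finite M]
    [MulDistribMulAction H M] {T A : Subgroup H} {V : Subgroup M} {x y : M} (h : Inp T A V x y) :
    ∃ (H' : Type u) (_ : Group H') (_ : Finite H') (M' : Type v) (_ : Group M') (_ : Finite M')
      (_ : MulDistribMulAction H' M') (T' A' : Subgroup H') (V' : Subgroup M') (x' y' : M'), Sys T' A' V' x' y' := by
  by_contra hc
  exact false_of ml (fun H' _ _ M' _ _ _ T' A' V' x' y' h' => hc ⟨H', _, inferInstance, M', _, inferInstance, _, T', A',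
    V', x', y', h'⟩) h

end Cfsg.Agent.Omega.KL.Gen
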