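import Cfsg.Agent.Omega.KL.Def
import Cfsg.Agent.ZN.ChoiceSit

/-!
# THEOREM KL: the input `Def.Inp` from an action which need not be faithful (CARD #18791 `[A]`)

* `exists_minPar` : a `π(T)`-minimal subgroup of `π(C)` is the image of a `T`-minimal subgroup of `C`;
* `norm_lift` : `N(π(T)) = π(T) π(N(T))` (Frattini);
* `Pre T A V x y` : the input of THEOREM KL for `C` acting on `M`, not necessarily faithfully, with an exact `A`
  (not necessarily an atom); **`Pre.inp`** : `Pre → Inp` for `C / C_C(M)`; `NoInp` : the conclusion of THEOREM KL;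
  `Pre.false`.
-/

set_option autoImplicit false

namespace Cfsg.Agent.Omega.KL.Quo

open Subgroup Cfsg Cfsg.Agent.ZN Cfsg.Agent.ClassTwoFusion.Quad Cfsg.Agent.Omega.ML.MinFrame
open Cfsg.Agent.MinSimple.MinParabolic (IsMinPar le_of_forall)
open Cfsg.Agent.ZN.ChoiceSit (Syl syl_conj)
open Cfsg.Agent.ZN.ChoiceBase (cj)
open Cfsg.Agent.MinSimple.VModule (o2_isPGroup o2_le le_o2 le_normalizer_o2)

universe u v

section lift

variable {C H : Type*} [Group C] [Group H]

/-- lifting of minimal parabolics -/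
theorem exists_minPar [Finite C] (π : C →* H) (hπ : Function.Surjective π) {T : Subgroup C} {P : Subgroup H}
    (hP : IsMinPar (T.map π) P) : ∃ R : Subgroup C, IsMinPar T R ∧ R.map π = P := by
  obtain ⟨N, hNP, hN⟩ := hP.exists_max
  by_contra hcon
  push Not at hcon
  have hTP : T ≤ P.comap π := map_le_iff_le_comap.1 hP.le
  have key : P.comap π ≤ N.comap π := by
    refine le_of_forall (S := T) hTP ?_ ?_
    · rw [← map_le_iff_le_comap]
      have h1 : (P.comap π ⊓ normalizer (T : Set C)).map π ≤ P ⊓ normalizer ((T.map π : Subgroup H) : Set H) := by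
        refine le_inf ((map_mono inf_le_left).trans (map_comap_le _ _)) ?_
        rintro _ ⟨c, ⟨-, hc⟩, rfl⟩
        rw [mem_normalizer_iff]
        intro y
        constructor
        · rintro ⟨t, ht, rfl⟩
          exact ⟨c * t * c⁻¹, (mem_normalizer_iff.1 hc t).1 ht, by simp⟩
        · rintro ⟨t, ht, hty⟩
          refine ⟨c⁻¹ * t * c, ?_, ?_⟩
          · have := (mem_normalizer_iff.1 (inv_mem hc) t).1 ht
            rwa [inv_inv] at this
          · rw [map_mul, map_mul, map_inv, hty]; group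
      refine h1.trans (hN _ (le_inf hP.le le_normalizer) (lt_of_le_of_ne inf_le_left fun h => ?_))
      exact hP.not_le (inf_eq_left.1 h)
    · intro R hR hRP
      rw [← map_le_iff_le_comap]
      have h1 : R.map π ≤ P := map_le_iff_le_comap.2 hRP
      exact hN _ (map_mono hR.le) (lt_of_le_of_ne h1 (hcon R hR))
  have h2 : P ≤ N := by
    rw [← map_comap_eq_self_of_surjective hπ P, ← map_comap_eq_self_of_surjective hπ N]
    exact map_mono key
  exact absurd h2 (not_le_of_gt hNP)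

theorem syl_of_index {C : Type u} [Group C] [Finite C] {T X : Subgroup C} (hT : IsPGroup 2 T) (hi : ¬ 2 ∣ T.index)
    (hTX : T ≤ X) : Syl T X := by
  refine ⟨hTX, hT, fun Q _ hQ hTQ => ?_⟩
  obtain ⟨n, hn⟩ := IsPGroup.iff_card.1 hQ
  have h1 : T.relIndex Q ∣ 2 ^ n := by rw [← hn]; exact relIndex_dvd_card _ _
  obtain ⟨k, -, hk⟩ := (Nat.dvd_prime_pow Nat.prime_two).1 h1
  have hk0 : k = 0 := by
    by_contra h0
    apply hi
    exact ((dvd_pow_self 2 h0).trans (hk ▸ dvd_rfl)).trans (relIndex_dvd_index_of_le hTQ)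
  have h2 : T.relIndex Q = 1 := by rw [hk, hk0, pow_zero]
  exact le_antisymm (relIndex_eq_one.1 h2) hTQ

/-- Frattini -/
theorem norm_lift {C : Type u} [Group C] [Finite C] {H : Type*} [Group H] (π : C →* H)
    (hπ : Function.Surjective π) {T : Subgroup C} (hT : IsPGroup 2 T)
    (hi : ¬ 2 ∣ T.index) {g : H} (hg : g ∈ normalizer ((T.map π : Subgroup H) : Set H)) :
    ∃ t ∈ T, ∃ n ∈ normalizer (T : Set C), g = π (t * n) := by
  obtain ⟨c, rfl⟩ := hπ g
  set X : Subgroup C := T ⊔ π.ker with hX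
  have hTX : T ≤ X := le_sup_left
  have hcX : cj c T ≤ X := by
    rintro _ ⟨t, ht, rfl⟩
    have h1 : π c * π t * (π c)⁻¹ ∈ T.map π := (mem_normalizer_iff.1 hg _).1 ⟨t, ht, rfl⟩
    obtain ⟨s, hs, hst⟩ := h1
    have h2 : s⁻¹ * (c * t * c⁻¹) ∈ π.ker := by
      rw [MonoidHom.mem_ker, map_mul, map_inv, hst, map_mul, map_mul, map_inv]
      group
    have e : (MulAut.conj c).toMonoidHom t = s * (s⁻¹ * (c * t * c⁻¹)) := by
      change c * t * c⁻¹ = _
      group
    rw [e]
    exact mul_mem (mem_sup_left hs) (mem_sup_right h2)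
  have hS2 : Syl (cj c T) X := by
    refine syl_of_index (hT.map _) ?_ hcX
    have e : (cj c T).index = T.index := index_map_equiv T (MulAut.conj c)
    rwa [e]
  obtain ⟨x, hx, hxT⟩ := syl_conj hS2 (syl_of_index hT hi hTX)
  obtain ⟨t, ht, k, hk, rfl⟩ := mem_sup_of_normal_right.1 hx
  have hn : t * k * c ∈ normalizer (T : Set C) := by
    have h1 : cj (t * k * c) T = T := by
      refine Eq.trans ?_ hxT
      ext y
      constructor
      · rintro ⟨s, hs, rfl⟩
        exact ⟨c * s * c⁻¹, ⟨s, hs, rfl⟩, by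
          change (t * k) * (c * s * c⁻¹) * (t * k)⁻¹ = (t * k * c) * s * (t * k * c)⁻¹
          group⟩
      · rintro ⟨_, ⟨s, hs, rfl⟩, rfl⟩
        exact ⟨s, hs, by
          change (t * k * c) * s * (t * k * c)⁻¹ = (t * k) * (c * s * c⁻¹) * (t * k)⁻¹
          group⟩
    rw [mem_normalizer_iff]
    intro y
    constructor
    · intro hy
      rw [← h1]
      exact ⟨y, hy, rfl⟩
    · intro hy
      rw [← h1] at hy
      obtain ⟨s, hs, hsy⟩ := hy
      have : s = y := by
        have h2 : (t * k * c) * s * (t * k * c)⁻¹ = (t * k * c) * y * (t * k * c)⁻¹ := hsy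
        exact mul_left_cancel (mul_right_cancel h2)
      rwa [← this]
  refine ⟨t⁻¹, inv_mem ht, t * k * c, hn, ?_⟩
  have hk1 : π k = 1 := hk
  rw [map_mul, map_mul, map_mul, hk1, map_inv]
  group

end lift

/-! ### The input of THEOREM KL, for an action which need not be faithful -/

/-- the input of THEOREM KL for `C` acting on `M`, not necessarily faithfully; `A` is exact -/
structure Pre {C : Type u} [Group C] {M : Type v} [Group M] [MulDistribMulAction C M] (T A : Subgroup C)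
    (V : Subgroup M) (x y : M) : Prop where
  sq : ∀ m : M, m * m = 1
  gen : orb (⊤ : Subgroup C) x = ⊤
  two : IsPGroup 2 T
  syl : ¬ 2 ∣ T.index
  x1 : x ≠ 1
  y1 : y ≠ 1
  xy : x ≠ y
  nx : ∀ g ∈ normalizer (T : Set C), g • x = x
  ny : ∀ g ∈ normalizer (T : Set C), g • y = y
  cV : Nat.card V = 4
  xV : x ∈ V
  uni : ∀ P : Subgroup C, IsMinPar T P → (∃ p ∈ P, p • x ≠ x) →
    (∀ p ∈ P, ∀ w ∈ V, p • w ∈ V) ∧ ∀ p ∈ P, p • y = y
  el : ∀ a ∈ A, a * a = 1
  Ax : A ≤ o2 (MulAction.stabilizer C x)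
  Ay : A ≤ o2 (MulAction.stabilizer C y)
  mv : ∃ a ∈ A, ∃ m : M, a • m ≠ m
  le : (cv M (A : Set C)).index ≤ (fxr C (⊤ : Subgroup M)).relIndex A
  KC : IsKGroup C

/-- the conclusion of THEOREM KL -/
def NoInp : Prop :=
  ∀ (H : Type u) [Group H] [Finite H] (M : Type v) [Group M] [Finite M] [MulDistribMulAction H M]
    (T A : Subgroup H) (V : Subgroup M) (x y : M), ¬ Def.Inp T A V x y

section pre

variable {C : Type u} [Group C] [Finite C] {M : Type v} [Group M] [Finite M] [MulDistribMulAction C M]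
  {T A : Subgroup C} {V : Subgroup M} {x y : M}

theorem Pre.inp (hML : ML.Final.MLK.{u, v}) (h : Pre T A V x y) :
    ∃ (H : Type u) (_ : Group H) (_ : Finite H) (_ : MulDistribMulAction H M) (T' A' : Subgroup H),
      Def.Inp T' A' V x y := by
  have htriv : ∀ k ∈ fxr C (⊤ : Subgroup M), ∀ m : M, k • m = m := fun k hk m => hk m (mem_top m)
  have hN : (fxr C (⊤ : Subgroup M)).Normal := fxr_normal fun _ _ _ => mem_top _
  set N := fxr C (⊤ : Subgroup M) with hNdef
  let _ : MulDistribMulAction (C ⧸ N) M := quoAct N htriv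
  let π : C →* C ⧸ N := QuotientGroup.mk' N
  have hπ : Function.Surjective π := QuotientGroup.mk'_surjective N
  have he : ∀ (g : C) (v : M), π g • v = g • v := fun _ _ => rfl
  have hker : ∀ k : C, (∀ v : M, k • v = v) → π k = 1 := fun k hk =>
    (QuotientGroup.eq_one_iff k).2 fun v _ => hk v
  have hker2 : ∀ k : C, π k = 1 → ∀ v : M, k • v = v := fun k hk v =>
    (QuotientGroup.eq_one_iff k).1 hk v (mem_top v)
  -- stabilisers
  have hst : ∀ z : M, (MulAction.stabilizer C z).map π = MulAction.stabilizer (C ⧸ N) z := by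
    intro z
    ext g
    constructor
    · rintro ⟨c, hc, rfl⟩
      exact hc
    · intro hg
      obtain ⟨c, rfl⟩ := hπ g
      exact ⟨c, hg, rfl⟩
  have ho2 : ∀ z : M, A ≤ o2 (MulAction.stabilizer C z) → A.map π ≤ o2 (MulAction.stabilizer (C ⧸ N) z) := by
    intro z hz
    refine (map_mono hz).trans (le_o2 ?_ ((o2_isPGroup _).map π) ?_)
    · rw [← hst]
      exact map_mono (o2_le _)
    · rw [← hst]
      exact (map_mono (le_normalizer_o2 _)).trans (le_normalizer_map π)
  have hx := ho2 x h.Ax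
  have hy := ho2 y h.Ay
  have hgen : orb (⊤ : Subgroup (C ⧸ N)) x = ⊤ := by
    rw [eq_top_iff, ← h.gen]
    exact orb_le fun g _ => smul_mem_orb_self (g := π g) (mem_top _)
  have hfaith : ∀ g : C ⧸ N, (∀ m : M, g • m = m) → g = 1 := by
    intro g hg
    obtain ⟨c, rfl⟩ := hπ g
    exact hker c hg
  have hsyl : ¬ 2 ∣ (T.map π).index := fun h2 => h.syl (h2.trans (index_map_dvd T hπ))
  have hKH : IsKGroup (C ⧸ N) := ML.Final.sec_KG.quo C h.KC N
  have htx : ∀ t ∈ T, t • x = x := fun t ht => h.nx t (le_normalizer ht)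
  have hel : ∀ a ∈ A.map π, a * a = 1 := by
    rintro _ ⟨a, ha, rfl⟩
    rw [← map_mul, h.el a ha, map_one]
  -- (NO)
  have hfx : fxr (C ⧸ N) (⊤ : Subgroup M) = ⊥ := by
    rw [Subgroup.eq_bot_iff_forall]
    exact fun g hg => hfaith g fun m => hg m (mem_top m)
  have hno : ∀ B : Subgroup (C ⧸ N), B ≤ A.map π → Nat.card B ≤ (cv M (B : Set (C ⧸ N))).index := by
    intro B hB
    have key := hML (C ⧸ N) M hKH h.sq (T.map π) (o2 (MulAction.stabilizer (C ⧸ N) x)) B x (mem_top _)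
      (h.two.map π) le_top
      (by rwa [relIndex_top_right])
      (by
        rintro _ ⟨t, ht, rfl⟩
        rw [he, htx t ht])
      (o2_isPGroup _) le_top
      (fun q hq => o2_le _ hq)
      (fun g _ hgx q hq => (mem_normalizer_iff.1 (le_normalizer_o2 _
        (show g ∈ MulAction.stabilizer (C ⧸ N) x from hgx)) q).1 hq)
      (hB.trans hx)
      (fun b hb => hel b (hB hb))
      False.elim
    rw [hgen, relIndex_top_right, hfx, relIndex_bot_left] at key
    exact key
  -- `A` is exact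
  have hcv : cv M (A.map π : Set (C ⧸ N)) = cv M (A : Set C) := by
    ext v
    constructor
    · exact fun hv a ha => hv _ ⟨a, ha, rfl⟩
    · rintro hv _ ⟨a, ha, rfl⟩
      exact hv a ha
  have hcard : Nat.card (A.map π) = N.relIndex A := by
    rw [← relIndex_bot_left, ← relIndex_comap, MonoidHom.comap_bot, QuotientGroup.ker_mk']
  have hex : (cv M (A.map π : Set (C ⧸ N))).index = Nat.card (A.map π) := by
    refine le_antisymm ?_ (hno _ le_rfl)
    rw [hcv, hcard]
    exact h.le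
  have hA1 : A.map π ≠ ⊥ := by
    intro h1
    obtain ⟨a, ha, m, ham⟩ := h.mv
    apply ham
    refine hker2 a ?_ m
    rw [← mem_bot, ← h1]
    exact ⟨a, ha, rfl⟩
  -- an atom
  obtain ⟨B, ⟨hBA, hB1, hBe⟩, hmin⟩ : ∃ B : Subgroup (C ⧸ N), (B ≤ A.map π ∧ B ≠ ⊥ ∧
      (cv M (B : Set (C ⧸ N))).index = Nat.card B) ∧ ∀ B' : Subgroup (C ⧸ N), (B' ≤ A.map π ∧ B' ≠ ⊥ ∧
      (cv M (B' : Set (C ⧸ N))).index = Nat.card B') → B' ≤ B → B' = B := by
    obtain ⟨B, hB⟩ := (Set.toFinite {B : Subgroup (C ⧸ N) | B ≤ A.map π ∧ B ≠ ⊥ ∧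
      (cv M (B : Set (C ⧸ N))).index = Nat.card B}).exists_minimal ⟨A.map π, le_rfl, hA1, hex⟩
    exact ⟨B, hB.prop, fun B' hB' hle => le_antisymm hle (hB.le_of_le hB' hle)⟩
  refine ⟨C ⧸ N, inferInstance, inferInstance, inferInstance, T.map π, B, ?_⟩
  refine Def.Inp.mk (Def.Two.mk h.sq hfaith hgen (h.two.map π) hsyl h.x1 h.y1 h.xy ?_ ?_ h.cV h.xV ?_)
    (Def.Atom.mk (fun a ha => hel a (hBA ha)) hB1 hBe ?_) (hBA.trans hx) (hBA.trans hy) hKH
  · intro g hg
    obtain ⟨t, ht, n, hn, rfl⟩ := norm_lift π hπ h.two h.syl hg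
    rw [he, mul_smul, h.nx n hn, h.nx t (le_normalizer ht)]
  · intro g hg
    obtain ⟨t, ht, n, hn, rfl⟩ := norm_lift π hπ h.two h.syl hg
    rw [he, mul_smul, h.ny n hn, h.ny t (le_normalizer ht)]
  · intro P hP hmv
    obtain ⟨R, hR, rfl⟩ := exists_minPar π hπ hP
    obtain ⟨h1, h2⟩ := h.uni R hR (by
      obtain ⟨_, ⟨r, hr, rfl⟩, hrx⟩ := hmv
      exact ⟨r, hr, hrx⟩)
    refine ⟨?_, ?_⟩
    · rintro _ ⟨r, hr, rfl⟩ w hw
      exact h1 r hr w hw
    · rintro _ ⟨r, hr, rfl⟩
      exact h2 r hr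
  · intro B' hB' hB1' hne
    refine lt_of_le_of_ne (hno B' (hB'.trans hBA)) fun h1 => hne ?_
    exact hmin B' ⟨hB'.trans hBA, hB1', h1.symm⟩ hB'

/-- THEOREM KL kills `Pre` -/
theorem Pre.false (hML : ML.Final.MLK.{u, v}) (hKL : NoInp.{u, v}) (h : Pre T A V x y) : False := by
  obtain ⟨H, _, _, _, T', A', hI⟩ := h.inp hML
  exact hKL H M T' A' V x y hI

end pre

end Cfsg.Agent.Omega.KL.Quo
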