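import Cfsg.Agent.Omega.KL.Quo

/-!
# THEOREM KL: the plug at group level

`GIn T C N Z W Sy A x p` : `C` acts on `M := N / Z` (`N` elementary abelian, `Z ≤ N` centralised by `C`), `M = ⟨x̄ ^ C⟩`,
`T` a Sylow 2-subgroup of `C`, `x̄ ≠ p̄` non-trivial `N_C(T)`-fixed vectors with stabilisers `C_C(x)`, `Sy`; every `T`-minimal
`R ≤ C` which moves `x` normalises `W` (`x ∈ W`, `|W : Z| = 4`) and fixes `p̄`; `A ≤ O₂(C_C(x)) ∩ O₂(Sy)` elementary
abelian, exact on `N`.

* **`GIn.pre`** : `Quo.Pre` for `C` acting on `N / Z`; **`GIn.false`** : contradiction from THEOREM KL.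

(The same as 909's `Plug.pre`, without `TC.Fr`; used for CARD #20012, bb #22451 (B2), `C = Y_j`, `T = B`.)
-/

set_option autoImplicit false

namespace Cfsg.Agent.Omega.KL.PlugG

open Subgroup Cfsg Cfsg.Agent.ZN
open Cfsg.Agent.ClassTwoFusion.Quad Cfsg.Agent.Omega.ML.MinFrame
open Cfsg.Agent.MinSimple.MinParabolic (IsMinPar)
open Cfsg.Agent.MinSimple.VModule (o2_isPGroup o2_le le_o2 le_normalizer_o2 o2_le_of_sylow)

universe u

variable {G : Type u} [Group G]

/-- **The input of THEOREM KL at group level** -/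
structure GIn (T C N Z W Sy A : Subgroup G) (x p : G) : Prop where
  TC : T ≤ C
  two : IsPGroup 2 T
  syl : ¬ 2 ∣ T.relIndex C
  sq : ∀ n ∈ N, n * n = 1
  CN : C ≤ normalizer (N : Set G)
  ZN : Z ≤ N
  CZ : ∀ c ∈ C, ∀ z ∈ Z, c * z = z * c
  xN : x ∈ N
  pN : p ∈ N
  gen : ∀ U : Subgroup G, x ∈ U → Z ≤ U → C ≤ normalizer (U : Set G) → N ≤ U
  stx : ∀ c ∈ C, c * x * c⁻¹ * x⁻¹ ∈ Z → c * x = x * c
  sty : ∀ c ∈ C, (c ∈ Sy ↔ c * p * c⁻¹ * p⁻¹ ∈ Z)
  SyC : Sy ≤ C
  x1 : x ∉ Z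
  p1 : p ∉ Z
  xp : x * p ∉ Z
  ZW : Z ≤ W
  WN : W ≤ N
  xW : x ∈ W
  cW : Z.relIndex W = 4
  nx : ∀ g ∈ C, g ∈ normalizer (T : Set G) → g * x = x * g
  ny : C ⊓ normalizer (T : Set G) ≤ Sy
  uni : ∀ R : Subgroup G, IsMinPar T R → R ≤ C → (∃ r ∈ R, r * x ≠ x * r) → R ≤ normalizer (W : Set G) ⊓ Sy
  el : ∀ a ∈ A, a * a = 1
  Ax : A ≤ o2 (C ⊓ centralizer ({x} : Set G))
  Ay : A ≤ o2 Sy
  mv : ¬ A ≤ centralizer (N : Set G)
  ex : (centralizer (A : Set G)).relIndex N ≤ (centralizer (N : Set G)).relIndex A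
  KC : IsKGroup C

/-! ### Tools -/

theorem comm_of_sq {E : Subgroup G} (sq : ∀ x ∈ E, x * x = 1) {a b : G} (ha : a ∈ E) (hb : b ∈ E) : a * b = b * a := by
  have h1 := sq _ ha
  have h2 := sq _ hb
  have h3 := sq _ (mul_mem ha hb)
  calc a * b = a * b * ((a * b) * (a * b))⁻¹ := by rw [h3, inv_one, mul_one]
    _ = b⁻¹ * a⁻¹ := by group
    _ = b * a := by rw [inv_eq_of_mul_eq_one_left h1, inv_eq_of_mul_eq_one_left h2]

/-- minimal parabolics of a subgroup -/
theorem minPar_map {C T : Subgroup G} (hTC : T ≤ C) {P : Subgroup C} (hP : IsMinPar (T.subgroupOf C) P) :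
    IsMinPar T (P.map C.subtype) := by
  have hTP : T ≤ P.map C.subtype := fun t ht => ⟨⟨t, hTC ht⟩, hP.le (mem_subgroupOf.2 ht), rfl⟩
  refine ⟨hTP, fun h => hP.not_le fun p hp => ?_, ?_⟩
  · have h1 := h (mem_map_of_mem C.subtype hp)
    rw [mem_normalizer_iff] at h1 ⊢
    exact fun t => h1 t
  · obtain ⟨M, hMP, hM⟩ := hP.exists_max
    refine ⟨M.map C.subtype, (map_lt_map_iff_of_injective C.subtype_injective).2 hMP, fun K hTK hKP => ?_⟩
    have hKC : K ≤ C := hKP.le.trans (map_subtype_le P)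
    have e : (K.subgroupOf C).map C.subtype = K := by rw [subgroupOf_map_subtype, inf_eq_left.2 hKC]
    rw [← e] at hKP ⊢
    refine map_mono (hM _ ?_ ((map_lt_map_iff_of_injective C.subtype_injective).1 hKP))
    exact fun t ht => mem_subgroupOf.2 (hTK (mem_subgroupOf.1 ht))

/-- `O₂` of a subgroup of `C` -/
theorem sub_o2 [Finite G] {C S B : Subgroup G} {S' : Subgroup C} (hS : ∀ c : C, c ∈ S' ↔ (c : G) ∈ S) (hB : B ≤ o2 S) :
    B.subgroupOf C ≤ o2 S' := by
  have h1 : B.subgroupOf C ≤ (o2 S).subgroupOf C := fun b hb => mem_subgroupOf.2 (hB (mem_subgroupOf.1 hb))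
  refine h1.trans (le_o2 (fun c hc => (hS c).2 (o2_le _ (mem_subgroupOf.1 hc)))
    ((o2_isPGroup S).comap_of_injective C.subtype C.subtype_injective) fun s hs => ?_)
  have h2 := le_normalizer_o2 S ((hS s).1 hs)
  rw [mem_normalizer_iff] at h2 ⊢
  exact fun t => h2 t

namespace GIn

variable [Finite G] {T C N Z W Sy A : Subgroup G} {x p : G} (h : GIn T C N Z W Sy A x p)
include h

/-- **the input of THEOREM KL** -/
theorem pre : ∃ (M : Type u) (_ : Group M) (_ : Finite M) (_ : MulDistribMulAction C M) (W' : Subgroup M) (x' y' : M),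
    Quo.Pre (T.subgroupOf C) (A.subgroupOf C) W' x' y' := by
  have hCZc : ∀ c ∈ C, ∀ z ∈ Z, c * z * c⁻¹ = z := by
    intro c hc z hz
    rw [h.CZ c hc z hz, mul_inv_cancel_right]
  have hCZ : C ≤ normalizer (Z : Set G) := by
    intro c hc
    rw [mem_normalizer_iff]
    intro z
    refine ⟨fun hz => by rw [hCZc c hc z hz]; exact hz, fun hz => ?_⟩
    have h1 := hCZc c⁻¹ (inv_mem hc) _ hz
    have e : c⁻¹ * (c * z * c⁻¹) * c⁻¹⁻¹ = z := by group
    rw [e] at h1
    rw [h1]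
    exact hz
  have hnor : (Z.subgroupOf N).Normal := by
    refine normal_subgroupOf_of_le_normalizer fun n hn => ?_
    rw [mem_normalizer_iff]
    intro z
    have hc : ∀ a ∈ N, ∀ b ∈ N, a * b = b * a := fun a ha b hb =>
      comm_of_sq h.sq ha hb
    constructor
    · intro hz
      rwa [hc n hn z (h.ZN hz), mul_inv_cancel_right]
    · intro hz
      have h1 := hc n hn _ (h.ZN hz)
      have e : n * z * n⁻¹ = z := by
        have e1 : n * (n * z * n⁻¹) = n * z := by rw [h1]; group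
        exact mul_left_cancel e1
      rwa [e] at hz
  let _ := ML.Final.conjAct h.CN hCZ
  let mk : N →* N ⧸ Z.subgroupOf N := QuotientGroup.mk' (Z.subgroupOf N)
  have hmk : Function.Surjective mk := QuotientGroup.mk'_surjective _
  have hmem : ∀ (g : C) (n : N), (g : G) * n * (g : G)⁻¹ ∈ N := fun g n =>
    (mem_normalizer_iff.1 (h.CN g.2) n).1 n.2
  have hsm : ∀ (g : C) (n : N), g • mk n = mk ⟨(g : G) * n * (g : G)⁻¹, hmem g n⟩ := fun _ _ => rfl
  have hone : ∀ a b : N, mk a = mk b ↔ (a : G) * (b : G)⁻¹ ∈ Z := by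
    intro a b
    rw [← mul_inv_eq_one, ← map_inv, ← map_mul, ← MonoidHom.mem_ker, QuotientGroup.ker_mk']
    exact Iff.rfl
  have hfix : ∀ (g : C) (n : N), g • mk n = mk n ↔ (g : G) * n * (g : G)⁻¹ * (n : G)⁻¹ ∈ Z := by
    intro g n
    rw [hsm, hone]
  set x' : N ⧸ Z.subgroupOf N := mk ⟨x, h.xN⟩ with hx
  set y' : N ⧸ Z.subgroupOf N := mk ⟨p, h.pN⟩ with hy
  set W' : Subgroup (N ⧸ Z.subgroupOf N) := (W.subgroupOf N).map mk with hW
  have hcom : ∀ {a b : G}, a * b = b * a → a * b * a⁻¹ * b⁻¹ ∈ Z := by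
    intro a b e
    rw [e, mul_inv_cancel_right, mul_inv_cancel]
    exact one_mem _
  have hsub : ∀ {X : Subgroup G}, T ≤ X → X ≤ C → ¬ 2 ∣ T.relIndex X := fun {X} h1 h2 h3 =>
    h.syl (h3.trans (Dvd.intro _ (relIndex_mul_relIndex T X C h1 h2)))
  have hTx : T ≤ C ⊓ centralizer ({x} : Set G) := le_inf h.TC fun t ht =>
    mem_centralizer_singleton_iff.2 (h.nx t (h.TC ht) (Subgroup.le_normalizer ht))
  have hAT : A ≤ T := h.Ax.trans (o2_le_of_sylow h.two (hsub hTx inf_le_left))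
  have hAC : A ≤ C := hAT.trans h.TC
  -- the kernel
  have hker : ∀ c : C, (∀ m : N ⧸ Z.subgroupOf N, c • m = m) ↔ (c : G) ∈ centralizer (N : Set G) := by
    intro c
    constructor
    · intro hc
      set K : Set G := {k | k ∈ C ∧ ∀ n ∈ N, k * n * k⁻¹ * n⁻¹ ∈ Z} with hK
      have hKC : ∀ g ∈ C, ∀ k ∈ K, g⁻¹ * k * g ∈ K := by
        rintro g hg k ⟨hk, hk2⟩
        refine ⟨mul_mem (mul_mem (inv_mem hg) hk) hg, fun n hn => ?_⟩
        have h1 := hk2 _ ((mem_normalizer_iff.1 (h.CN hg) n).1 hn)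
        have h2 := (mem_normalizer_iff.1 (hCZ (inv_mem hg)) _).1 h1
        have e : g⁻¹ * (k * (g * n * g⁻¹) * k⁻¹ * (g * n * g⁻¹)⁻¹) * g⁻¹⁻¹ =
            g⁻¹ * k * g * n * (g⁻¹ * k * g)⁻¹ * n⁻¹ := by group
        rwa [e] at h2
      have h1 : N ≤ centralizer K := by
        refine h.gen _ ?_ ?_ ?_
        · rw [mem_centralizer_iff]
          rintro k ⟨hk, hk2⟩
          exact h.stx k hk (hk2 x h.xN)
        · intro z hz
          rw [mem_centralizer_iff]
          rintro k ⟨hk, -⟩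
          exact h.CZ k hk z hz
        · intro g hg
          have key : ∀ g ∈ C, ∀ u ∈ centralizer K, g * u * g⁻¹ ∈ centralizer K := by
            intro g hg u hu
            rw [mem_centralizer_iff] at hu ⊢
            intro k hk
            have h2 := hu _ (hKC g hg k hk)
            calc k * (g * u * g⁻¹) = g * ((g⁻¹ * k * g) * u) * g⁻¹ := by group
              _ = g * (u * (g⁻¹ * k * g)) * g⁻¹ := by rw [h2]
              _ = g * u * g⁻¹ * k := by group
          rw [mem_normalizer_iff]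
          intro u
          refine ⟨key g hg u, fun hu => ?_⟩
          have h2 := key g⁻¹ (inv_mem hg) _ hu
          have e : g⁻¹ * (g * u * g⁻¹) * g⁻¹⁻¹ = u := by group
          rwa [e] at h2
      rw [mem_centralizer_iff]
      intro n hn
      exact (mem_centralizer_iff.1 (h1 hn) c ⟨c.2, fun m hm => (hfix c ⟨m, hm⟩).1 (hc _)⟩).symm
    · intro hc m
      obtain ⟨n, rfl⟩ := hmk m
      rw [hfix]
      exact hcom (mem_centralizer_iff.1 hc n n.2).symm
  -- the stabilisers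
  have hsx : ∀ c : C, c ∈ MulAction.stabilizer C x' ↔ (c : G) ∈ C ⊓ centralizer ({x} : Set G) := by
    intro c
    rw [MulAction.mem_stabilizer_iff, hfix, mem_inf, mem_centralizer_singleton_iff]
    exact ⟨fun h1 => ⟨c.2, h.stx c c.2 h1⟩, fun h1 => hcom h1.2⟩
  have hsy : ∀ c : C, c ∈ MulAction.stabilizer C y' ↔ (c : G) ∈ Sy := by
    intro c
    rw [MulAction.mem_stabilizer_iff, hfix]
    exact (h.sty c c.2).symm
  -- `N_C(T)`
  have hnT : ∀ g ∈ normalizer (T.subgroupOf C : Set C), (g : G) ∈ C ⊓ normalizer (T : Set G) := by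
    intro g hg
    refine mem_inf.2 ⟨g.2, ?_⟩
    rw [mem_normalizer_iff]
    intro t
    constructor
    · intro ht
      exact (mem_normalizer_iff.1 hg ⟨t, h.TC ht⟩).1 ht
    · intro ht
      have h1 : (g : G)⁻¹ * ((g : G) * t * (g : G)⁻¹) * (g : G)⁻¹⁻¹ ∈ T :=
        (mem_normalizer_iff.1 (inv_mem hg) ⟨(g : G) * t * (g : G)⁻¹, h.TC ht⟩).1 ht
      have e : (g : G)⁻¹ * ((g : G) * t * (g : G)⁻¹) * (g : G)⁻¹⁻¹ = t := by group
      rwa [e] at h1
  -- the index of the fixed space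
  have hcvle : (centralizer (A : Set G)).subgroupOf N ≤ (cv (N ⧸ Z.subgroupOf N) (A.subgroupOf C : Set C)).comap mk := by
    intro n hn a ha
    refine (hfix a n).2 ?_
    exact hcom (mem_centralizer_iff.1 (mem_subgroupOf.1 hn) a (mem_subgroupOf.1 ha))
  have hfxr : fxr C (⊤ : Subgroup (N ⧸ Z.subgroupOf N)) = (centralizer (N : Set G)).subgroupOf C := by
    ext c
    rw [mem_subgroupOf, ← hker]
    exact ⟨fun h m => h m (mem_top m), fun h m _ => h m⟩
  have hle : (cv (N ⧸ Z.subgroupOf N) (A.subgroupOf C : Set C)).index ≤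
      (fxr C (⊤ : Subgroup (N ⧸ Z.subgroupOf N))).relIndex (A.subgroupOf C) := by
    rw [hfxr, relIndex_subgroupOf hAC, ← index_comap_of_surjective _ hmk]
    exact (index_antitone hcvle).trans h.ex
  have huni : ∀ R : Subgroup C, IsMinPar (T.subgroupOf C) R → (∃ r ∈ R, r • x' ≠ x') →
      (∀ r ∈ R, ∀ w ∈ W', r • w ∈ W') ∧ ∀ r ∈ R, r • y' = y' := by
    intro R hR hmv
    have hR' := minPar_map h.TC hR
    have hRC : R.map C.subtype ≤ C := map_subtype_le R
    obtain ⟨r, hr, hrx⟩ := hmv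
    have hRm : ∃ r ∈ R.map C.subtype, r * x ≠ x * r :=
      ⟨r, mem_map_of_mem C.subtype hr, fun e => hrx ((hfix r _).2 (hcom e))⟩
    have h1 := h.uni _ hR' hRC hRm
    refine ⟨?_, ?_⟩
    · rintro r hr _ ⟨w, hw, rfl⟩
      rw [hsm]
      refine ⟨_, ?_, rfl⟩
      exact mem_subgroupOf.2 ((mem_normalizer_iff.1 (h1 (mem_map_of_mem C.subtype hr)).1 _).1 (mem_subgroupOf.1 hw))
    · intro r hr
      exact MulAction.mem_stabilizer_iff.1 ((hsy r).2 (h1 (mem_map_of_mem C.subtype hr)).2)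
  refine ⟨N ⧸ Z.subgroupOf N, inferInstance, inferInstance, inferInstance, W', x', y', ?_⟩
  refine Quo.Pre.mk ?_ ?_ ?_ ?_ ?_ ?_ ?_ ?_ ?_ ?_ ?_ huni ?_ ?_ ?_ ?_ hle h.KC
  · intro m
    obtain ⟨n, rfl⟩ := hmk m
    rw [← map_mul, ← map_one mk, hone]
    have h1 : (n : G) * n = 1 := h.sq n n.2
    simp [h1]
  · -- generation
    set U : Subgroup G := ((orb (⊤ : Subgroup C) x').comap mk).map N.subtype with hUd
    have hUmem : ∀ a : N, (a : G) ∈ U ↔ mk a ∈ orb (⊤ : Subgroup C) x' := by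
      intro a
      constructor
      · rintro ⟨b, hb, hba⟩
        rw [← (Subtype.ext hba : b = a)]
        exact hb
      · exact fun ha => ⟨a, ha, rfl⟩
    have h1 : N ≤ U := by
      refine h.gen U ((hUmem ⟨x, h.xN⟩).2 (mem_orb_self _ x')) ?_ ?_
      · intro z hz
        refine (hUmem ⟨z, h.ZN hz⟩).2 ?_
        have e : mk ⟨z, h.ZN hz⟩ = 1 := by
          rw [← map_one mk, hone]
          simpa using hz
        rw [e]
        exact one_mem _
      · have key : ∀ g ∈ C, ∀ a ∈ U, g * a * g⁻¹ ∈ U := by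
          rintro g hg a ⟨b, hb, rfl⟩
          have h2 := smul_mem_orb (g := (⟨g, hg⟩ : C)) (mem_top _) hb
          rw [hsm ⟨g, hg⟩ b] at h2
          exact (hUmem ⟨_, hmem ⟨g, hg⟩ b⟩).2 h2
        intro g hg
        rw [mem_normalizer_iff]
        intro a
        refine ⟨key g hg a, fun ha => ?_⟩
        have h2 := key g⁻¹ (inv_mem hg) _ ha
        have e : g⁻¹ * (g * a * g⁻¹) * g⁻¹⁻¹ = a := by group
        rwa [e] at h2
    rw [eq_top_iff]
    intro m _
    obtain ⟨n, rfl⟩ := hmk m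
    exact (hUmem n).1 (h1 n.2)
  · exact h.two.comap_of_injective C.subtype C.subtype_injective
  · exact h.syl
  · intro h1
    rw [hx, ← map_one mk, hone] at h1
    exact h.x1 (by simpa using h1)
  · intro h1
    rw [hy, ← map_one mk, hone] at h1
    exact h.p1 (by simpa using h1)
  · intro h1
    rw [hx, hy, hone] at h1
    apply h.xp
    have e : p⁻¹ = p := inv_eq_of_mul_eq_one_left (h.sq p h.pN)
    change x * p⁻¹ ∈ Z at h1
    rwa [e] at h1
  · intro g hg
    have h1 := hnT g hg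
    exact MulAction.mem_stabilizer_iff.1 ((hsx g).2 (mem_inf.2 ⟨h1.1, mem_centralizer_singleton_iff.2 (h.nx g h1.1 h1.2)⟩))
  · intro g hg
    exact MulAction.mem_stabilizer_iff.1 ((hsy g).2 (h.ny (hnT g hg)))
  · -- `|W| = 4`
    have h1 : mk.ker = Z.subgroupOf N := QuotientGroup.ker_mk' _
    rw [hW, ← relIndex_ker, h1, relIndex_subgroupOf h.WN, h.cW]
  · exact ⟨⟨x, h.xN⟩, mem_subgroupOf.2 h.xW, rfl⟩
  · intro a ha
    exact Subtype.ext (h.el a (mem_subgroupOf.1 ha))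
  · exact sub_o2 hsx h.Ax
  · exact sub_o2 hsy h.Ay
  · by_contra hcon
    push Not at hcon
    apply h.mv
    intro a ha
    exact (hker ⟨a, hAC ha⟩).1 fun m => hcon ⟨a, hAC ha⟩ (mem_subgroupOf.2 ha) m

/-- **THEOREM KL: contradiction** -/
theorem false (hML : ML.Final.MLK.{u, u}) (hKL : Quo.NoInp.{u, u}) : False := by
  obtain ⟨M, _, _, _, W', x', y', h'⟩ := h.pre
  exact h'.false hML hKL

end GIn

end Cfsg.Agent.Omega.KL.PlugG
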