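import Cfsg.Agent.Omega.KL.Gen
import Cfsg.Agent.Omega.KL.Quo

/-!
# THEOREM KL for `M = ⟨x^H⟩⟨y^H⟩` (helper561)

The reduction of THEOREM KL (`KL/Gen.lean`, helper909) does not use `M = ⟨x^H⟩` after the first step: in a minimal `R`
with `T ≤ R`, `A ≰ O₂(R)`, the vector `y` is replaced by `y y₀ ∈ [M, ⟨A^R⟩] ≤ ⟨x^R⟩`.

* `noSys_of` : `NoInp → no Sys`;
* `InpT` : `Def.Inp` with `gen : ⟨x^H⟩⟨y^H⟩ = M`; `InpT.exists_pre`, `InpT.false`;
* `no_two` : **(NO) on `M = ⟨x^H⟩⟨y^H⟩`** for `B ≤ O₂(C_H(x)) ∩ O₂(C_H(y))` elementary abelian;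
* `PreT` : `Quo.Pre` with `gen : ⟨x^C⟩⟨y^C⟩ = M`; `PreT.inp`, **`PreT.false`**.
-/

set_option autoImplicit false

namespace Cfsg.Agent.Omega.KL.QuoT

open Subgroup Cfsg Cfsg.Agent.ZN Cfsg.Agent.ClassTwoFusion.Quad Cfsg.Agent.Omega.ML.MinFrame
open Cfsg.Agent.Omega.ML.Final Cfsg.Agent.Omega.KL.Def Cfsg.Agent.Omega.KL.GenTool
open Cfsg.Agent.MinSimple.MinParabolic (IsMinPar)
open Cfsg.Agent.MinSimple.VModule (o2_isPGroup o2_le le_o2 le_normalizer_o2 o2_le_of_sylow)
open Cfsg.Agent.Omega.NOThree.NoOver (relIndex_ne)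
open Cfsg.Agent.Omega.ML.CD (card_eq_relIndex_mul)
open Cfsg.Agent.Omega.KL.Gen (Pre o2_top_le o2_inf_self cv_map orb_inv U0 U0_inv normal_of_sq)
open Cfsg.Agent.Omega.KL.Quo (NoInp exists_minPar norm_lift)

universe u v

/-- a vector of `M` fixed by `H`, `M` irreducible of order `≥ 4` -/
theorem stab_ne_top {H : Type u} [Group H] {M : Type v} [Group M] [MulDistribMulAction H M] {V : Subgroup M} {x : M}
    (sq : ∀ m : M, m * m = 1) (cV : Nat.card V = 4)
    (irr : ∀ W : Subgroup M, (∀ h : H, ∀ w ∈ W, h • w ∈ W) → W = ⊥ ∨ W = ⊤) (x1 : x ≠ 1) :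
    MulAction.stabilizer H x ≠ ⊤ := by
  intro h1
  have hfix : ∀ g : H, g • x = x := fun g => (h1 ▸ mem_top g : g ∈ MulAction.stabilizer H x)
  rcases irr (zpowers x) (fun g w hw => by
    obtain ⟨n, rfl⟩ := hw
    change g • x ^ n ∈ _
    rw [smul_zpow', hfix]
    exact ⟨n, rfl⟩) with h2 | h2
  · exact x1 (zpowers_eq_bot.1 h2)
  · have h3 : V ≤ zpowers x := by rw [h2]; exact le_top
    have h4 : Nat.card (zpowers x) ≤ 2 := by
      rw [Nat.card_zpowers]
      exact orderOf_le_of_pow_eq_one (by norm_num) (by rw [pow_two]; exact sq x)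
    have hfin : Finite (zpowers x) := by
      have h5 : ((zpowers x : Subgroup M) : Set M).Finite := by
        rw [finite_zpowers, isOfFinOrder_iff_pow_eq_one]
        exact ⟨2, by norm_num, by rw [pow_two]; exact sq x⟩
      exact h5.to_subtype
    have h5 : Nat.card V ≤ Nat.card (zpowers x) := Nat.card_le_card_of_injective _ (inclusion_injective h3)
    omega

/-- `NoInp` excludes the middle -/
theorem noSys_of (hKL : NoInp.{u, v}) (H : Type u) [Group H] [Finite H] (M : Type v) [Group M] [Finite M]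
    [MulDistribMulAction H M] (T A : Subgroup H) (V : Subgroup M) (x y : M) : ¬ Sys T A V x y := by
  intro h
  refine hKL H M T A V x y { h with Ax := ?_, Ay := ?_ }
  · exact h.low _ (fun _ ht => h.tx ht) (stab_ne_top h.sq h.cV h.irr h.x1)
  · exact h.low _ (fun _ ht => h.ty ht) (stab_ne_top h.sq h.cV h.irr h.y1)

/-- `Def.Inp` with `M = ⟨x^H⟩⟨y^H⟩` -/
structure InpT {H : Type u} [Group H] {M : Type v} [Group M] [MulDistribMulAction H M] (T A : Subgroup H)
    (V : Subgroup M) (x y : M) : Prop extends Atom M A where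
  sq : ∀ m : M, m * m = 1
  faith : ∀ h : H, (∀ m : M, h • m = m) → h = 1
  gen : orb (⊤ : Subgroup H) x ⊔ orb (⊤ : Subgroup H) y = ⊤
  two : IsPGroup 2 T
  syl : ¬ 2 ∣ T.index
  nx : ∀ g ∈ normalizer (T : Set H), g • x = x
  ny : ∀ g ∈ normalizer (T : Set H), g • y = y
  cV : Nat.card V = 4
  xV : x ∈ V
  uni : ∀ P : Subgroup H, IsMinPar T P → (∃ p ∈ P, p • x ≠ x) →
    (∀ p ∈ P, ∀ w ∈ V, p • w ∈ V) ∧ ∀ p ∈ P, p • y = y
  Ax : A ≤ o2 (MulAction.stabilizer H x)
  Ay : A ≤ o2 (MulAction.stabilizer H y)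
  KH : IsKGroup H

section

variable {H : Type u} [Group H] {M : Type v} [Group M] [MulDistribMulAction H M] {T A : Subgroup H}
  {V : Subgroup M} {x y : M}

theorem InpT.tx (h : InpT T A V x y) {t : H} (ht : t ∈ T) : t • x = x := h.nx t (le_normalizer ht)

theorem InpT.ty (h : InpT T A V x y) {t : H} (ht : t ∈ T) : t • y = y := h.ny t (le_normalizer ht)

/-- an element which fixes the conjugates of `x` and of `y` is trivial -/
theorem fxr_inf_bot [Finite H] (faith : ∀ h : H, (∀ m : M, h • m = m) → h = 1)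
    (gen : orb (⊤ : Subgroup H) x ⊔ orb (⊤ : Subgroup H) y = ⊤) {g : H} (h1 : g ∈ fxr H (orb (⊤ : Subgroup H) x))
    (h2 : g ∈ fxr H (orb (⊤ : Subgroup H) y)) : g = 1 := by
  refine faith g fun m => ?_
  have h3 : orb (⊤ : Subgroup H) x ⊔ orb (⊤ : Subgroup H) y ≤ cv M ({g} : Set H) := by
    refine sup_le (fun m hm => ?_) fun m hm => ?_
    · exact mem_cv_singleton.2 (h1 m hm)
    · exact mem_cv_singleton.2 (h2 m hm)
  rw [gen] at h3
  exact mem_cv_singleton.1 (h3 (mem_top m))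

/-- **(NO) for `M = ⟨x^H⟩⟨y^H⟩`.** -/
theorem no_two [Finite H] [Finite M] (ml : MLK.{u, v}) (KH : IsKGroup H) (sq : ∀ m : M, m * m = 1) {T B : Subgroup H}
    {x y : M} (faith : ∀ h : H, (∀ m : M, h • m = m) → h = 1)
    (gen : orb (⊤ : Subgroup H) x ⊔ orb (⊤ : Subgroup H) y = ⊤)
    (two : IsPGroup 2 T) (syl : ¬ 2 ∣ T.index) (fx : ∀ t ∈ T, t • x = x) (fy : ∀ t ∈ T, t • y = y)
    (el : ∀ b ∈ B, b * b = 1) (hx : B ≤ o2 (MulAction.stabilizer H x)) (hy : B ≤ o2 (MulAction.stabilizer H y)) :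
    Nat.card B ≤ (cv M (B : Set H)).index := by
  set U := orb (⊤ : Subgroup H) x with hU
  set U' := orb (⊤ : Subgroup H) y with hU'
  set B0 : Subgroup H := fxr H U ⊓ B with hB0
  have key1 : (fxr H U).relIndex B ≤ (cv M (B : Set H)).relIndex U := no_orb ml KH sq two syl fx el hx
  have key2 : (fxr H U').relIndex B0 ≤ (cv M (B0 : Set H)).relIndex U' :=
    no_orb ml KH sq two syl fy (fun b hb => el b hb.2) (inf_le_right.trans hy)
  have h1 : (fxr H U').relIndex B0 = Nat.card B0 := by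
    have h2 : (fxr H U' ⊓ B0 : Subgroup H) = ⊥ := by
      rw [eq_bot_iff]
      rintro g ⟨hg', hg, -⟩
      exact mem_bot.2 (fxr_inf_bot faith gen hg hg')
    rw [← inf_relIndex_right, h2, relIndex_bot_left]
  have h2 : Nat.card B = (fxr H U).relIndex B * Nat.card B0 := by
    rw [← inf_relIndex_right, ← hB0]
    exact card_eq_relIndex_mul inf_le_right
  have h3 : cv M (B : Set H) ≤ cv M (B0 : Set H) := cv_anti inf_le_right
  have h4 : (cv M (B : Set H)).relIndex (cv M (B0 : Set H)) * (cv M (B0 : Set H)).index = (cv M (B : Set H)).index :=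
    relIndex_mul_index h3
  have h5 : (cv M (B : Set H)).relIndex U ≤ (cv M (B : Set H)).relIndex (cv M (B0 : Set H)) :=
    relIndex_le_of_le_right (cv_inf_eq_iff.2 inf_le_left) (relIndex_ne _ _)
  have h6 : (cv M (B0 : Set H)).relIndex U' ≤ (cv M (B0 : Set H)).index := by
    rw [← relIndex_top_right]
    exact relIndex_le_of_le_right le_top (relIndex_ne _ _)
  rw [h2, ← h4]
  refine Nat.mul_le_mul (key1.trans h5) ?_
  rw [← h1]
  exact key2.trans h6

/-- Stage 1 of THEOREM KL. -/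
theorem InpT.exists_pre [Finite H] [Finite M] (h : InpT T A V x y) : ∃ R : Subgroup H, T ≤ R ∧
    Pre (H := R) (T.subgroupOf R) (A.subgroupOf R) V x y ∧ Atom M (A.subgroupOf R) := by
  have hTx : ∀ t ∈ T, t • x = x := fun t ht => h.tx ht
  have hTy : ∀ t ∈ T, t • y = y := fun t ht => h.ty ht
  have hAT : A ≤ T := by
    refine h.Ax.trans (o2_le_of_sylow h.two fun h2 => h.syl (h2.trans (relIndex_dvd_index_of_le ?_)))
    exact fun t ht => h.tx ht
  have hne : ({R | T ≤ R ∧ ¬ A ≤ o2 R} : Set (Subgroup H)).Nonempty := by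
    refine ⟨⊤, le_top, fun h1 => h.A1 ?_⟩
    rw [eq_bot_iff]
    intro a ha
    exact mem_bot.2 (fxr_inf_bot h.faith h.gen (o2_top_le h.two h.syl hTx (h1 ha))
      (o2_top_le h.two h.syl hTy (h1 ha)))
  obtain ⟨R, ⟨hTR, hR⟩, hmin⟩ := wellFounded_lt.has_min _ hne
  have hAR : A ≤ R := hAT.trans hTR
  have eA : (A.subgroupOf R).map R.subtype = A := by rw [subgroupOf_map_subtype, inf_eq_left.2 hAR]
  have hmv : ∀ {m : M}, A ≤ o2 (MulAction.stabilizer H m) → ∃ g : R, g • m ≠ m := by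
    intro m hm
    by_contra hc
    push Not at hc
    have h1 : R ≤ MulAction.stabilizer H m := fun g hg => hc ⟨g, hg⟩
    exact hR ((le_inf hm hAR).trans (o2_inf_self h1))
  refine ⟨R, hTR, ?_, ?_⟩
  · refine
      { sq := h.sq
        two := h.two.comap_of_injective _ R.subtype_injective
        syl := fun h2 => h.syl (h2.trans (relIndex_dvd_index_of_le hTR))
        nx := fun g hg => h.nx _ ?_
        ny := fun g hg => h.ny _ ?_
        cV := h.cV
        xV := h.xV
        uni := ?_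
        mx := hmv h.Ax
        my := hmv h.Ay
        el := fun a ha => Subtype.ext (h.el _ ha)
        AT := fun a ha => hAT ha
        low := ?_
        nlow := ?_
        KH := sec_KG.sub H h.KH R }
    · have h1 : (normalizer (T.subgroupOf R : Set R)).map R.subtype ≤ normalizer (T : Set H) := by
        refine le_normalizer_of ?_
        rintro _ ⟨n, hn, rfl⟩ t ht
        exact (mem_normalizer_iff.1 hn ⟨t, hTR ht⟩).1 ht
      exact h1 ⟨g, hg, rfl⟩
    · have h1 : (normalizer (T.subgroupOf R : Set R)).map R.subtype ≤ normalizer (T : Set H) := by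
        refine le_normalizer_of ?_
        rintro _ ⟨n, hn, rfl⟩ t ht
        exact (mem_normalizer_iff.1 hn ⟨t, hTR ht⟩).1 ht
      exact h1 ⟨g, hg, rfl⟩
    · intro P hP hm
      obtain ⟨p, hp, hpx⟩ := hm
      obtain ⟨h1, h2⟩ := h.uni (P.map R.subtype) (minPar_map_subtype hTR hP) ⟨p, ⟨p, hp, rfl⟩, hpx⟩
      exact ⟨fun q hq w hw => h1 q ⟨q, hq, rfl⟩ w hw, fun q hq => h2 q ⟨q, hq, rfl⟩⟩
    · intro S hTS hS
      have h1 : S.map R.subtype < R := by
        refine lt_of_le_of_ne (map_subtype_le S) fun h2 => hS ?_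
        rw [eq_top_iff]
        intro r _
        have h3 : (r : H) ∈ S.map R.subtype := by rw [h2]; exact r.2
        obtain ⟨s, hs, hsr⟩ := h3
        rwa [← (Subtype.ext hsr : s = r)]
      have h2 : T ≤ S.map R.subtype := fun t ht => ⟨⟨t, hTR ht⟩, hTS ht, rfl⟩
      have h3 : A ≤ o2 (S.map R.subtype) := by
        by_contra h4
        exact hmin _ ⟨h2, h4⟩ h1
      exact le_trans (fun a ha => h3 ha) (o2_subgroupOf_le S)
    · intro h1
      apply hR
      have h2 := (map_mono (f := R.subtype) h1).trans (o2_map_le R.subtype ⊤)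
      rwa [eA, ← MonoidHom.range_eq_map, range_subtype] at h2
  · refine ⟨fun a ha => Subtype.ext (h.el _ ha), fun h1 => h.A1 ?_, ?_, fun C hC hC1 hCA => ?_⟩
    · rw [← eA, h1, Subgroup.map_bot]
    · rw [← cv_map, eA, h.exact]
      exact (Nat.card_congr (subgroupOfEquivOfLe hAR).toEquiv).symm
    · have h1 := h.atom (C.map R.subtype) (by rw [← eA]; exact map_mono hC)
        (fun h2 => hC1 ((map_eq_bot_iff_of_injective _ R.subtype_injective).1 h2))
        (fun h2 => hCA (map_subtype_inj.1 (h2.trans eA.symm)))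
      rwa [cv_map, card_map_of_injective R.subtype_injective] at h1

/-- **THEOREM KL kills `InpT`** -/
theorem InpT.false_of [Finite H] [Finite M] (ml : MLK.{u, v})
    (k : ∀ (H' : Type u) [Group H'] [Finite H'] (M' : Type v) [Group M'] [Finite M'] [MulDistribMulAction H' M']
      (T' A' : Subgroup H') (V' : Subgroup M') (x' y' : M'), ¬ Sys T' A' V' x' y') (h : InpT T A V x y) : False := by
  obtain ⟨R, -, hpre, hat⟩ := h.exists_pre
  obtain ⟨y', h2⟩ := hpre.stage2 ml hat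
  let _ := subAct (orb (⊤ : Subgroup R) x) (orb_inv x)
  have _ := normal_of_sq h2.sq (U0 (orb (⊤ : Subgroup R) x) (A.subgroupOf R))
  obtain ⟨h3, irr⟩ := h2.stage3 ml
  let _ := modAct (U0 (orb (⊤ : Subgroup R) x) (A.subgroupOf R))
    (U0_inv (M := orb (⊤ : Subgroup R) x) (A := A.subgroupOf R))
  have _ : (fxr R (⊤ : Subgroup (orb (⊤ : Subgroup R) x ⧸ U0 (orb (⊤ : Subgroup R) x) (A.subgroupOf R)))).Normal :=
    fxr_normal fun _ _ _ => mem_top _
  obtain ⟨h4, faith⟩ := h3.stage4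
  let _ := quoAct (fxr R (⊤ : Subgroup (orb (⊤ : Subgroup R) x ⧸ U0 (orb (⊤ : Subgroup R) x) (A.subgroupOf R))))
    Gen.triv_fxr
  obtain ⟨A', -, h5⟩ := h4.sys ml faith fun W hW => irr W fun g w hw => hW (QuotientGroup.mk g) w hw
  exact k _ _ _ _ _ _ _ h5

end

/-! ### The input for an action which need not be faithful -/

/-- `Quo.Pre` with `M = ⟨x^C⟩⟨y^C⟩`; `A` is exact -/
structure PreT {C : Type u} [Group C] {M : Type v} [Group M] [MulDistribMulAction C M] (T A : Subgroup C)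
    (V : Subgroup M) (x y : M) : Prop where
  sq : ∀ m : M, m * m = 1
  gen : orb (⊤ : Subgroup C) x ⊔ orb (⊤ : Subgroup C) y = ⊤
  two : IsPGroup 2 T
  syl : ¬ 2 ∣ T.index
  nx : ∀ g ∈ normalizer (T : Set C), g • x = x
  ny : ∀ g ∈ normalizer (T : Set C), g • y = y
  cV : Nat.card V = 4
  xV : x ∈ V
  uni : ∀ P : Subgroup C, IsMinPar T P → (∃ p ∈ P, p • x ≠ x) →
    (∀ p ∈ P, ∀ w ∈ V, p • w ∈ V) ∧ ∀ p ∈ P, p • y = y
  el : ∀ a ∈ A, a * a = 1
  Ax : A ≤ o2 (MulAction.stabilizer C x)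
  Ay : A ≤ o2 (MulAction.stabilizer C y)
  mv : ∃ a ∈ A, ∃ m : M, a • m ≠ m
  le : (cv M (A : Set C)).index ≤ (fxr C (⊤ : Subgroup M)).relIndex A
  KC : IsKGroup C

section pre

variable {C : Type u} [Group C] [Finite C] {M : Type v} [Group M] [Finite M] [MulDistribMulAction C M]
  {T A : Subgroup C} {V : Subgroup M} {x y : M}

theorem PreT.inp (hML : MLK.{u, v}) (h : PreT T A V x y) :
    ∃ (H : Type u) (_ : Group H) (_ : Finite H) (_ : MulDistribMulAction H M) (T' A' : Subgroup H),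
      InpT T' A' V x y := by
  have htriv : ∀ k ∈ fxr C (⊤ : Subgroup M), ∀ m : M, k • m = m := fun k hk m => hk m (mem_top m)
  have hN : (fxr C (⊤ : Subgroup M)).Normal := fxr_normal fun _ _ _ => mem_top _
  set N := fxr C (⊤ : Subgroup M) with hNdef
  let _ : MulDistribMulAction (C ⧸ N) M := quoAct N htriv
  let π : C →* C ⧸ N := QuotientGroup.mk' N
  have hπ : Function.Surjective π := QuotientGroup.mk'_surjective N
  have he : ∀ (g : C) (v : M), π g • v = g • v := fun _ _ => rfl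
  have hker : ∀ k : C, (∀ v : M, k • v = v) → π k = 1 := fun k hk =>
    (QuotientGroup.eq_one_iff k).2 fun v _ => hk v
  have hker2 : ∀ k : C, π k = 1 → ∀ v : M, k • v = v := fun k hk v =>
    (QuotientGroup.eq_one_iff k).1 hk v (mem_top v)
  have hst : ∀ z : M, (MulAction.stabilizer C z).map π = MulAction.stabilizer (C ⧸ N) z := by
    intro z
    ext g
    constructor
    · rintro ⟨c, hc, rfl⟩
      exact hc
    · intro hg
      obtain ⟨c, rfl⟩ := hπ g
      exact ⟨c, hg, rfl⟩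
  have ho2 : ∀ z : M, A ≤ o2 (MulAction.stabilizer C z) → A.map π ≤ o2 (MulAction.stabilizer (C ⧸ N) z) := by
    intro z hz
    refine (map_mono hz).trans (le_o2 ?_ ((o2_isPGroup _).map π) ?_)
    · rw [← hst]
      exact map_mono (o2_le _)
    · rw [← hst]
      exact (map_mono (le_normalizer_o2 _)).trans (le_normalizer_map π)
  have hx := ho2 x h.Ax
  have hy := ho2 y h.Ay
  have horb : ∀ z : M, orb (⊤ : Subgroup C) z ≤ orb (⊤ : Subgroup (C ⧸ N)) z := fun z =>
    orb_le fun g _ => smul_mem_orb_self (g := π g) (mem_top _)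
  have hgen : orb (⊤ : Subgroup (C ⧸ N)) x ⊔ orb (⊤ : Subgroup (C ⧸ N)) y = ⊤ := by
    rw [eq_top_iff, ← h.gen]
    exact sup_le_sup (horb x) (horb y)
  have hfaith : ∀ g : C ⧸ N, (∀ m : M, g • m = m) → g = 1 := by
    intro g hg
    obtain ⟨c, rfl⟩ := hπ g
    exact hker c hg
  have hsyl : ¬ 2 ∣ (T.map π).index := fun h2 => h.syl (h2.trans (index_map_dvd T hπ))
  have hKH : IsKGroup (C ⧸ N) := sec_KG.quo C h.KC N
  have htx : ∀ t ∈ T, t • x = x := fun t ht => h.nx t (le_normalizer ht)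
  have hty : ∀ t ∈ T, t • y = y := fun t ht => h.ny t (le_normalizer ht)
  have hel : ∀ a ∈ A.map π, a * a = 1 := by
    rintro _ ⟨a, ha, rfl⟩
    rw [← map_mul, h.el a ha, map_one]
  -- (NO)
  have hno : ∀ B : Subgroup (C ⧸ N), B ≤ A.map π → Nat.card B ≤ (cv M (B : Set (C ⧸ N))).index := by
    intro B hB
    refine no_two hML hKH h.sq (T := T.map π) hfaith hgen (h.two.map π) hsyl ?_ ?_ (fun b hb => hel b (hB hb))
      (hB.trans hx) (hB.trans hy)
    · rintro _ ⟨t, ht, rfl⟩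
      rw [he, htx t ht]
    · rintro _ ⟨t, ht, rfl⟩
      rw [he, hty t ht]
  -- `A` is exact
  have hcv : cv M (A.map π : Set (C ⧸ N)) = cv M (A : Set C) := by
    ext v
    constructor
    · exact fun hv a ha => hv _ ⟨a, ha, rfl⟩
    · rintro hv _ ⟨a, ha, rfl⟩
      exact hv a ha
  have hcard : Nat.card (A.map π) = N.relIndex A := by
    rw [← relIndex_bot_left, ← relIndex_comap, MonoidHom.comap_bot, QuotientGroup.ker_mk']
  have hex : (cv M (A.map π : Set (C ⧸ N))).index = Nat.card (A.map π) := by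
    refine le_antisymm ?_ (hno _ le_rfl)
    rw [hcv, hcard]
    exact h.le
  have hA1 : A.map π ≠ ⊥ := by
    intro h1
    obtain ⟨a, ha, m, ham⟩ := h.mv
    apply ham
    refine hker2 a ?_ m
    rw [← mem_bot, ← h1]
    exact ⟨a, ha, rfl⟩
  -- an atom
  obtain ⟨B, ⟨hBA, hB1, hBe⟩, hmin⟩ : ∃ B : Subgroup (C ⧸ N), (B ≤ A.map π ∧ B ≠ ⊥ ∧
      (cv M (B : Set (C ⧸ N))).index = Nat.card B) ∧ ∀ B' : Subgroup (C ⧸ N), (B' ≤ A.map π ∧ B' ≠ ⊥ ∧
      (cv M (B' : Set (C ⧸ N))).index = Nat.card B') → B' ≤ B → B' = B := by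
    obtain ⟨B, hB⟩ := (Set.toFinite {B : Subgroup (C ⧸ N) | B ≤ A.map π ∧ B ≠ ⊥ ∧
      (cv M (B : Set (C ⧸ N))).index = Nat.card B}).exists_minimal ⟨A.map π, le_rfl, hA1, hex⟩
    exact ⟨B, hB.prop, fun B' hB' hle => le_antisymm hle (hB.le_of_le hB' hle)⟩
  refine ⟨C ⧸ N, inferInstance, inferInstance, inferInstance, T.map π, B, ?_⟩
  refine
    { el := fun a ha => hel a (hBA ha)
      A1 := hB1
      exact := hBe
      atom := ?_
      sq := h.sq
      faith := hfaith
      gen := hgen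
      two := h.two.map π
      syl := hsyl
      nx := ?_
      ny := ?_
      cV := h.cV
      xV := h.xV
      uni := ?_
      Ax := hBA.trans hx
      Ay := hBA.trans hy
      KH := hKH }
  · intro B' hB' hB1' hne
    refine lt_of_le_of_ne (hno B' (hB'.trans hBA)) fun h1 => hne ?_
    exact hmin B' ⟨hB'.trans hBA, hB1', h1.symm⟩ hB'
  · intro g hg
    obtain ⟨t, ht, n, hn, rfl⟩ := norm_lift π hπ h.two h.syl hg
    rw [he, mul_smul, h.nx n hn, h.nx t (le_normalizer ht)]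
  · intro g hg
    obtain ⟨t, ht, n, hn, rfl⟩ := norm_lift π hπ h.two h.syl hg
    rw [he, mul_smul, h.ny n hn, h.ny t (le_normalizer ht)]
  · intro P hP hmv
    obtain ⟨R, hR, rfl⟩ := exists_minPar π hπ hP
    obtain ⟨h1, h2⟩ := h.uni R hR (by
      obtain ⟨_, ⟨r, hr, rfl⟩, hrx⟩ := hmv
      exact ⟨r, hr, hrx⟩)
    refine ⟨?_, ?_⟩
    · rintro _ ⟨r, hr, rfl⟩ w hw
      exact h1 r hr w hw
    · rintro _ ⟨r, hr, rfl⟩
      exact h2 r hr

/-- **THEOREM KL kills `PreT`**, given that there is no `Sys` -/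
theorem PreT.false_of (hML : MLK.{u, v})
    (k : ∀ (H' : Type u) [Group H'] [Finite H'] (M' : Type v) [Group M'] [Finite M'] [MulDistribMulAction H' M']
      (T' A' : Subgroup H') (V' : Subgroup M') (x' y' : M'), ¬ Sys T' A' V' x' y') (h : PreT T A V x y) : False := by
  obtain ⟨H, _, _, _, T', A', hI⟩ := h.inp hML
  exact hI.false_of hML k

/-- **THEOREM KL kills `PreT`** -/
theorem PreT.false (hML : MLK.{u, v}) (hKL : NoInp.{u, v}) (h : PreT T A V x y) : False :=
  h.false_of hML (noSys_of hKL)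

end pre

end Cfsg.Agent.Omega.KL.QuoT
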