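import Cfsg.Agent.Omega.KL.PlugG
import Cfsg.Agent.Omega.KL.QuoT

/-!
# THEOREM KL: the plug at group level, `M` generated by two orbits

`GInT T C N Z W Sy A x p` : `C` acts on `M := N / Z` (`N` elementary abelian, `Z ≤ N` centralised by `C`),
`M = ⟨x̄ ^ C⟩ ⟨p̄ ^ C⟩`, `T` a Sylow 2-subgroup of `C`, `x̄`, `p̄` `N_C(T)`-fixed vectors with stabilisers
`C_C(x)`, `Sy`; every `T`-minimal `R ≤ C` which moves `x` normalises `W` (`x ∈ W`, `|W : Z| = 4`) and fixes `p̄`;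
`A ≤ O₂(C_C(x)) ∩ O₂(Sy)` elementary abelian, exact on `N`, `C_A(⟨x^C⟩) ≤ C(N)`.

* **`GInT.pre`** : `QuoT.PreT` for `C` acting on `N / Z`; **`GInT.false`** : contradiction from THEOREM KL.

(CARD #20012, bb #23086, #23133: `C = Y_j`, `T = B`, `N = W_ij N_j Z_J`, `A = F`.)
-/

set_option autoImplicit false

namespace Cfsg.Agent.Omega.KL.PlugGT

open Subgroup Cfsg Cfsg.Agent.ZN
open Cfsg.Agent.ClassTwoFusion.Quad Cfsg.Agent.Omega.ML.MinFrame
open Cfsg.Agent.MinSimple.MinParabolic (IsMinPar)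
open Cfsg.Agent.MinSimple.VModule (o2_isPGroup o2_le le_o2 le_normalizer_o2 o2_le_of_sylow)
open Cfsg.Agent.Omega.KL.PlugG (comm_of_sq minPar_map sub_o2)

universe u

variable {G : Type u} [Group G]

/-- **The input of THEOREM KL at group level** -/
structure GInT (T C N Z W Sy A : Subgroup G) (x p : G) : Prop where
  TC : T ≤ C
  two : IsPGroup 2 T
  syl : ¬ 2 ∣ T.relIndex C
  sq : ∀ n ∈ N, n * n = 1
  CN : C ≤ normalizer (N : Set G)
  ZN : Z ≤ N
  CZ : ∀ c ∈ C, ∀ z ∈ Z, c * z = z * c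
  xN : x ∈ N
  pN : p ∈ N
  gen : ∀ U : Subgroup G, x ∈ U → p ∈ U → Z ≤ U → C ≤ normalizer (U : Set G) → N ≤ U
  cA : ∀ a ∈ A, (∀ c ∈ C, a * (c * x * c⁻¹) = c * x * c⁻¹ * a) → a ∈ centralizer (N : Set G)
  stx : ∀ c ∈ C, c * x * c⁻¹ * x⁻¹ ∈ Z → c * x = x * c
  sty : ∀ c ∈ C, (c ∈ Sy ↔ c * p * c⁻¹ * p⁻¹ ∈ Z)
  SyC : Sy ≤ C
  x1 : x ∉ Z
  p1 : p ∉ Z
  xp : x * p ∉ Z
  ZW : Z ≤ W
  WN : W ≤ N
  xW : x ∈ W
  cW : Z.relIndex W = 4
  nx : ∀ g ∈ C, g ∈ normalizer (T : Set G) → g * x = x * g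
  ny : C ⊓ normalizer (T : Set G) ≤ Sy
  uni : ∀ R : Subgroup G, IsMinPar T R → R ≤ C → (∃ r ∈ R, r * x ≠ x * r) → R ≤ normalizer (W : Set G) ⊓ Sy
  el : ∀ a ∈ A, a * a = 1
  Ax : A ≤ o2 (C ⊓ centralizer ({x} : Set G))
  Ay : A ≤ o2 Sy
  mv : ¬ A ≤ centralizer (N : Set G)
  ex : (centralizer (A : Set G)).relIndex N ≤ (centralizer (N : Set G)).relIndex A
  KC : IsKGroup C

namespace GInT

variable [Finite G] {T C N Z W Sy A : Subgroup G} {x p : G} (h : GInT T C N Z W Sy A x p)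
include h

/-- **the input of THEOREM KL** -/
theorem pre : ∃ (M : Type u) (_ : Group M) (_ : Finite M) (_ : MulDistribMulAction C M) (W' : Subgroup M) (x' y' : M),
    QuoT.PreT (T.subgroupOf C) (A.subgroupOf C) W' x' y' := by
  have hCZc : ∀ c ∈ C, ∀ z ∈ Z, c * z * c⁻¹ = z := by
    intro c hc z hz
    rw [h.CZ c hc z hz, mul_inv_cancel_right]
  have hCZ : C ≤ normalizer (Z : Set G) := by
    intro c hc
    rw [mem_normalizer_iff]
    intro z
    refine ⟨fun hz => by rw [hCZc c hc z hz]; exact hz, fun hz => ?_⟩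
    have h1 := hCZc c⁻¹ (inv_mem hc) _ hz
    have e : c⁻¹ * (c * z * c⁻¹) * c⁻¹⁻¹ = z := by group
    rw [e] at h1
    rw [h1]
    exact hz
  have hnor : (Z.subgroupOf N).Normal := by
    refine normal_subgroupOf_of_le_normalizer fun n hn => ?_
    rw [mem_normalizer_iff]
    intro z
    have hc : ∀ a ∈ N, ∀ b ∈ N, a * b = b * a := fun a ha b hb =>
      comm_of_sq h.sq ha hb
    constructor
    · intro hz
      rwa [hc n hn z (h.ZN hz), mul_inv_cancel_right]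
    · intro hz
      have h1 := hc n hn _ (h.ZN hz)
      have e : n * z * n⁻¹ = z := by
        have e1 : n * (n * z * n⁻¹) = n * z := by rw [h1]; group
        exact mul_left_cancel e1
      rwa [e] at hz
  let _ := ML.Final.conjAct h.CN hCZ
  let mk : N →* N ⧸ Z.subgroupOf N := QuotientGroup.mk' (Z.subgroupOf N)
  have hmk : Function.Surjective mk := QuotientGroup.mk'_surjective _
  have hmem : ∀ (g : C) (n : N), (g : G) * n * (g : G)⁻¹ ∈ N := fun g n =>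
    (mem_normalizer_iff.1 (h.CN g.2) n).1 n.2
  have hsm : ∀ (g : C) (n : N), g • mk n = mk ⟨(g : G) * n * (g : G)⁻¹, hmem g n⟩ := fun _ _ => rfl
  have hone : ∀ a b : N, mk a = mk b ↔ (a : G) * (b : G)⁻¹ ∈ Z := by
    intro a b
    rw [← mul_inv_eq_one, ← map_inv, ← map_mul, ← MonoidHom.mem_ker, QuotientGroup.ker_mk']
    exact Iff.rfl
  have hfix : ∀ (g : C) (n : N), g • mk n = mk n ↔ (g : G) * n * (g : G)⁻¹ * (n : G)⁻¹ ∈ Z := by
    intro g n
    rw [hsm, hone]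
  set x' : N ⧸ Z.subgroupOf N := mk ⟨x, h.xN⟩ with hx
  set y' : N ⧸ Z.subgroupOf N := mk ⟨p, h.pN⟩ with hy
  set W' : Subgroup (N ⧸ Z.subgroupOf N) := (W.subgroupOf N).map mk with hW
  have hcom : ∀ {a b : G}, a * b = b * a → a * b * a⁻¹ * b⁻¹ ∈ Z := by
    intro a b e
    rw [e, mul_inv_cancel_right, mul_inv_cancel]
    exact one_mem _
  have hsub : ∀ {X : Subgroup G}, T ≤ X → X ≤ C → ¬ 2 ∣ T.relIndex X := fun {X} h1 h2 h3 =>
    h.syl (h3.trans (Dvd.intro _ (relIndex_mul_relIndex T X C h1 h2)))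
  have hTx : T ≤ C ⊓ centralizer ({x} : Set G) := le_inf h.TC fun t ht =>
    mem_centralizer_singleton_iff.2 (h.nx t (h.TC ht) (Subgroup.le_normalizer ht))
  have hAT : A ≤ T := h.Ax.trans (o2_le_of_sylow h.two (hsub hTx inf_le_left))
  have hAC : A ≤ C := hAT.trans h.TC
  -- the kernel
  have hker : ∀ c : C, (c : G) ∈ centralizer (N : Set G) → ∀ m : N ⧸ Z.subgroupOf N, c • m = m := by
    intro c hc m
    obtain ⟨n, rfl⟩ := hmk m
    rw [hfix]
    exact hcom (mem_centralizer_iff.1 hc n n.2).symm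
  have hkA : ∀ (a : G) (haC : a ∈ C), a ∈ A → (∀ m : N ⧸ Z.subgroupOf N, (⟨a, haC⟩ : C) • m = m) →
      a ∈ centralizer (N : Set G) := by
    intro a haC ha hm
    refine h.cA a ha fun c hc => ?_
    -- `a` is trivial on `N / Z`, so is `c⁻¹ a c`
    have h1 : (c⁻¹ * a * c) * x * (c⁻¹ * a * c)⁻¹ * x⁻¹ ∈ Z := by
      have h2 := (hfix ⟨a, haC⟩ ⟨c * x * c⁻¹, (mem_normalizer_iff.1 (h.CN hc) x).1 h.xN⟩).1 (hm _)
      change a * (c * x * c⁻¹) * a⁻¹ * (c * x * c⁻¹)⁻¹ ∈ Z at h2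
      have h3 := (mem_normalizer_iff.1 (hCZ (inv_mem hc)) _).1 h2
      have e : c⁻¹ * (a * (c * x * c⁻¹) * a⁻¹ * (c * x * c⁻¹)⁻¹) * c⁻¹⁻¹ =
          (c⁻¹ * a * c) * x * (c⁻¹ * a * c)⁻¹ * x⁻¹ := by group
      rwa [e] at h3
    have h2 := h.stx _ (mul_mem (mul_mem (inv_mem hc) haC) hc) h1
    calc a * (c * x * c⁻¹) = c * ((c⁻¹ * a * c) * x) * c⁻¹ := by group
      _ = c * (x * (c⁻¹ * a * c)) * c⁻¹ := by rw [h2]
      _ = c * x * c⁻¹ * a := by group
  -- the stabilisers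
  have hsx : ∀ c : C, c ∈ MulAction.stabilizer C x' ↔ (c : G) ∈ C ⊓ centralizer ({x} : Set G) := by
    intro c
    rw [MulAction.mem_stabilizer_iff, hfix, mem_inf, mem_centralizer_singleton_iff]
    exact ⟨fun h1 => ⟨c.2, h.stx c c.2 h1⟩, fun h1 => hcom h1.2⟩
  have hsy : ∀ c : C, c ∈ MulAction.stabilizer C y' ↔ (c : G) ∈ Sy := by
    intro c
    rw [MulAction.mem_stabilizer_iff, hfix]
    exact (h.sty c c.2).symm
  -- `N_C(T)`
  have hnT : ∀ g ∈ normalizer (T.subgroupOf C : Set C), (g : G) ∈ C ⊓ normalizer (T : Set G) := by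
    intro g hg
    refine mem_inf.2 ⟨g.2, ?_⟩
    rw [mem_normalizer_iff]
    intro t
    constructor
    · intro ht
      exact (mem_normalizer_iff.1 hg ⟨t, h.TC ht⟩).1 ht
    · intro ht
      have h1 : (g : G)⁻¹ * ((g : G) * t * (g : G)⁻¹) * (g : G)⁻¹⁻¹ ∈ T :=
        (mem_normalizer_iff.1 (inv_mem hg) ⟨(g : G) * t * (g : G)⁻¹, h.TC ht⟩).1 ht
      have e : (g : G)⁻¹ * ((g : G) * t * (g : G)⁻¹) * (g : G)⁻¹⁻¹ = t := by group
      rwa [e] at h1
  -- the index of the fixed space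
  have hcvle : (centralizer (A : Set G)).subgroupOf N ≤ (cv (N ⧸ Z.subgroupOf N) (A.subgroupOf C : Set C)).comap mk := by
    intro n hn a ha
    refine (hfix a n).2 ?_
    exact hcom (mem_centralizer_iff.1 (mem_subgroupOf.1 hn) a (mem_subgroupOf.1 ha))
  have hfxr : (fxr C (⊤ : Subgroup (N ⧸ Z.subgroupOf N))).relIndex (A.subgroupOf C) =
      ((centralizer (N : Set G)).subgroupOf C).relIndex (A.subgroupOf C) := by
    rw [← inf_relIndex_right, ← inf_relIndex_right ((centralizer (N : Set G)).subgroupOf C)]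
    congr 1
    ext c
    rw [mem_inf, mem_inf]
    constructor
    · rintro ⟨h1, h2⟩
      exact ⟨mem_subgroupOf.2 (hkA c c.2 (mem_subgroupOf.1 h2) fun m => h1 m (mem_top m)), h2⟩
    · rintro ⟨h1, h2⟩
      exact ⟨fun m _ => hker c (mem_subgroupOf.1 h1) m, h2⟩
  have hle : (cv (N ⧸ Z.subgroupOf N) (A.subgroupOf C : Set C)).index ≤
      (fxr C (⊤ : Subgroup (N ⧸ Z.subgroupOf N))).relIndex (A.subgroupOf C) := by
    rw [hfxr, relIndex_subgroupOf hAC, ← index_comap_of_surjective _ hmk]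
    exact (index_antitone hcvle).trans h.ex
  have huni : ∀ R : Subgroup C, IsMinPar (T.subgroupOf C) R → (∃ r ∈ R, r • x' ≠ x') →
      (∀ r ∈ R, ∀ w ∈ W', r • w ∈ W') ∧ ∀ r ∈ R, r • y' = y' := by
    intro R hR hmv
    have hR' := minPar_map h.TC hR
    have hRC : R.map C.subtype ≤ C := map_subtype_le R
    obtain ⟨r, hr, hrx⟩ := hmv
    have hRm : ∃ r ∈ R.map C.subtype, r * x ≠ x * r :=
      ⟨r, mem_map_of_mem C.subtype hr, fun e => hrx ((hfix r _).2 (hcom e))⟩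
    have h1 := h.uni _ hR' hRC hRm
    refine ⟨?_, ?_⟩
    · rintro r hr _ ⟨w, hw, rfl⟩
      rw [hsm]
      refine ⟨_, ?_, rfl⟩
      exact mem_subgroupOf.2 ((mem_normalizer_iff.1 (h1 (mem_map_of_mem C.subtype hr)).1 _).1 (mem_subgroupOf.1 hw))
    · intro r hr
      exact MulAction.mem_stabilizer_iff.1 ((hsy r).2 (h1 (mem_map_of_mem C.subtype hr)).2)
  refine ⟨N ⧸ Z.subgroupOf N, inferInstance, inferInstance, inferInstance, W', x', y', ?_⟩
  refine QuoT.PreT.mk ?_ ?_ ?_ ?_ ?_ ?_ ?_ ?_ huni ?_ ?_ ?_ ?_ hle h.KC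
  · intro m
    obtain ⟨n, rfl⟩ := hmk m
    rw [← map_mul, ← map_one mk, hone]
    have h1 : (n : G) * n = 1 := h.sq n n.2
    simp [h1]
  · -- generation
    set U : Subgroup G := ((orb (⊤ : Subgroup C) x' ⊔ orb (⊤ : Subgroup C) y').comap mk).map N.subtype with hUd
    have hUmem : ∀ a : N, (a : G) ∈ U ↔ mk a ∈ orb (⊤ : Subgroup C) x' ⊔ orb (⊤ : Subgroup C) y' := by
      intro a
      constructor
      · rintro ⟨b, hb, hba⟩
        rw [← (Subtype.ext hba : b = a)]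
        exact hb
      · exact fun ha => ⟨a, ha, rfl⟩
    have hinv : ∀ (g : C) (m : N ⧸ Z.subgroupOf N), m ∈ orb (⊤ : Subgroup C) x' ⊔ orb (⊤ : Subgroup C) y' →
        g • m ∈ orb (⊤ : Subgroup C) x' ⊔ orb (⊤ : Subgroup C) y' := by
      intro g m hm
      have h1 : orb (⊤ : Subgroup C) x' ⊔ orb (⊤ : Subgroup C) y' ≤
          (orb (⊤ : Subgroup C) x' ⊔ orb (⊤ : Subgroup C) y').comap (MulDistribMulAction.toMonoidHom _ g) := by
        refine sup_le (fun m hm => ?_) fun m hm => ?_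
        · exact mem_comap.2 (mem_sup_left (smul_mem_orb (mem_top _) hm))
        · exact mem_comap.2 (mem_sup_right (smul_mem_orb (mem_top _) hm))
      exact h1 hm
    have h1 : N ≤ U := by
      refine h.gen U ((hUmem ⟨x, h.xN⟩).2 (mem_sup_left (mem_orb_self _ x')))
        ((hUmem ⟨p, h.pN⟩).2 (mem_sup_right (mem_orb_self _ y'))) ?_ ?_
      · intro z hz
        refine (hUmem ⟨z, h.ZN hz⟩).2 ?_
        have e : mk ⟨z, h.ZN hz⟩ = 1 := by
          rw [← map_one mk, hone]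
          simpa using hz
        rw [e]
        exact one_mem _
      · have key : ∀ g ∈ C, ∀ a ∈ U, g * a * g⁻¹ ∈ U := by
          rintro g hg a ⟨b, hb, rfl⟩
          have h2 := hinv (⟨g, hg⟩ : C) _ hb
          rw [hsm ⟨g, hg⟩ b] at h2
          exact (hUmem ⟨_, hmem ⟨g, hg⟩ b⟩).2 h2
        intro g hg
        rw [mem_normalizer_iff]
        intro a
        refine ⟨key g hg a, fun ha => ?_⟩
        have h2 := key g⁻¹ (inv_mem hg) _ ha
        have e : g⁻¹ * (g * a * g⁻¹) * g⁻¹⁻¹ = a := by group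
        rwa [e] at h2
    rw [eq_top_iff]
    intro m _
    obtain ⟨n, rfl⟩ := hmk m
    exact (hUmem n).1 (h1 n.2)
  · exact h.two.comap_of_injective C.subtype C.subtype_injective
  · exact h.syl
  · intro g hg
    have h1 := hnT g hg
    exact MulAction.mem_stabilizer_iff.1 ((hsx g).2 (mem_inf.2 ⟨h1.1, mem_centralizer_singleton_iff.2 (h.nx g h1.1 h1.2)⟩))
  · intro g hg
    exact MulAction.mem_stabilizer_iff.1 ((hsy g).2 (h.ny (hnT g hg)))
  · -- `|W| = 4`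
    have h1 : mk.ker = Z.subgroupOf N := QuotientGroup.ker_mk' _
    rw [hW, ← relIndex_ker, h1, relIndex_subgroupOf h.WN, h.cW]
  · exact ⟨⟨x, h.xN⟩, mem_subgroupOf.2 h.xW, rfl⟩
  · intro a ha
    exact Subtype.ext (h.el a (mem_subgroupOf.1 ha))
  · exact sub_o2 hsx h.Ax
  · exact sub_o2 hsy h.Ay
  · by_contra hcon
    push Not at hcon
    apply h.mv
    intro a ha
    exact hkA a (hAC ha) ha fun m => hcon ⟨a, hAC ha⟩ (mem_subgroupOf.2 ha) m

/-- **THEOREM KL: contradiction** -/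
theorem false (hML : ML.Final.MLK.{u, u}) (hKL : Quo.NoInp.{u, u}) : False := by
  obtain ⟨M, _, _, _, W', x', y', h'⟩ := h.pre
  exact h'.false hML hKL

end GInT

end Cfsg.Agent.Omega.KL.PlugGT
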