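import Cfsg.Agent.Omega.KL.Gen

/-!
# (NO) for a module generated by the orbits of several `T`-fixed vectors (helper561)

* `no_add` : (NO) on `U` for `B` and on `U'` for `C_B(U)` gives (NO) on `U U'`;
* **`no_fam`** : `B` elementary abelian, `B ≤ O₂(C_H(x))` and `T ≤ C_H(x)` for all `x ∈ s` (`s` a set of vectors): (NO) on
  `⟨x^H : x ∈ s⟩`;
* `no_fam_top` : the same if these orbits generate `M`; `no_X_Y` : the form `⟨m^H⟩⟨Y^H⟩ = M`;
* `o2_top_le_fam` : `O₂(H)` centralises `⟨x^H : x ∈ s⟩`.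
-/

set_option autoImplicit false

namespace Cfsg.Agent.Omega.KL.NoFam

open Subgroup Cfsg Cfsg.Agent.ZN Cfsg.Agent.ClassTwoFusion.Quad Cfsg.Agent.Omega.ML.MinFrame
open Cfsg.Agent.Omega.ML.Final Cfsg.Agent.Omega.KL.GenTool
open Cfsg.Agent.Omega.NOThree.NoOver (relIndex_ne)
open Cfsg.Agent.Omega.KL.Gen (o2_top_le)

universe u v

variable {H : Type u} [Group H] {M : Type v} [Group M] [MulDistribMulAction H M]

/-- (NO) on `U` for `B` and on `U'` for `C_B(U)` -/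
theorem no_add [Finite H] [Finite M] {B : Subgroup H} {U U' : Subgroup M}
    (h1 : (fxr H U).relIndex B ≤ (cv M (B : Set H)).relIndex U)
    (h2 : (fxr H U').relIndex (fxr H U ⊓ B) ≤ (cv M ((fxr H U ⊓ B : Subgroup H) : Set H)).relIndex U') :
    (fxr H (U ⊔ U')).relIndex B ≤ (cv M (B : Set H)).relIndex (U ⊔ U') := by
  set B0 : Subgroup H := fxr H U ⊓ B with hB0
  have hf : fxr H (U ⊔ U') = fxr H U ⊓ fxr H U' := by
    apply le_antisymm
    · exact le_inf (fun g hg m hm => hg m (mem_sup_left hm)) fun g hg m hm => hg m (mem_sup_right hm)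
    · rintro g ⟨hg, hg'⟩ m hm
      have h3 : U ⊔ U' ≤ cv M ({g} : Set H) :=
        sup_le (fun m hm => mem_cv_singleton.2 (hg m hm)) fun m hm => mem_cv_singleton.2 (hg' m hm)
      exact mem_cv_singleton.1 (h3 hm)
  have e1 : (fxr H (U ⊔ U')).relIndex B = (fxr H U').relIndex B0 * (fxr H U).relIndex B := by
    have h3 : fxr H (U ⊔ U') ⊓ B ≤ B0 := by
      rw [hf]
      exact inf_le_inf_right _ inf_le_left
    have h4 := relIndex_mul_relIndex (fxr H (U ⊔ U') ⊓ B) B0 B h3 inf_le_right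
    rw [inf_relIndex_right, hB0, inf_relIndex_right, ← hB0] at h4
    rw [← h4]
    congr 1
    rw [← inf_relIndex_right (fxr H (U ⊔ U') ⊓ B), ← inf_relIndex_right (fxr H U')]
    congr 1
    rw [hf, hB0]
    apply le_antisymm
    · rintro g ⟨⟨⟨hg, hg'⟩, hb⟩, -⟩
      exact ⟨hg', hg, hb⟩
    · rintro g ⟨hg', hg, hb⟩
      exact ⟨⟨⟨hg, hg'⟩, hb⟩, hg, hb⟩
  have h3 : cv M (B : Set H) ≤ cv M (B0 : Set H) := cv_anti inf_le_right
  have e2 : (cv M (B : Set H)).relIndex (cv M (B0 : Set H) ⊓ (U ⊔ U')) * (cv M (B0 : Set H)).relIndex (U ⊔ U') =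
      (cv M (B : Set H)).relIndex (U ⊔ U') := by
    have h4 := relIndex_mul_relIndex (cv M (B : Set H) ⊓ (U ⊔ U')) (cv M (B0 : Set H) ⊓ (U ⊔ U')) (U ⊔ U')
      (inf_le_inf_right _ h3) inf_le_right
    rw [inf_relIndex_right, inf_relIndex_right] at h4
    rw [← h4]
    congr 1
    rw [← inf_relIndex_right (cv M (B : Set H)), ← inf_relIndex_right (cv M (B : Set H) ⊓ (U ⊔ U'))]
    congr 1
    apply le_antisymm
    · rintro m ⟨hm, hm', hm''⟩
      exact ⟨⟨hm, hm''⟩, hm', hm''⟩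
    · rintro m ⟨⟨hm, hm''⟩, hm', -⟩
      exact ⟨hm, hm', hm''⟩
  rw [e1, ← e2, mul_comm]
  refine Nat.mul_le_mul (h1.trans ?_) (h2.trans ?_)
  · exact relIndex_le_of_le_right (le_inf (cv_inf_eq_iff.2 inf_le_left) le_sup_left) (relIndex_ne _ _)
  · exact relIndex_le_of_le_right le_sup_right (relIndex_ne _ _)

/-- **(NO) on `⟨x^H : x ∈ s⟩`** -/
theorem no_fam [Finite H] [Finite M] (ml : MLK.{u, v}) (KH : IsKGroup H) (sq : ∀ m : M, m * m = 1)
    {T : Subgroup H} (two : IsPGroup 2 T) (syl : ¬ 2 ∣ T.index) (s : Set M)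
    (fx : ∀ x ∈ s, ∀ t ∈ T, t • x = x) {B : Subgroup H} (el : ∀ b ∈ B, b * b = 1)
    (hB : ∀ x ∈ s, B ≤ o2 (MulAction.stabilizer H x)) :
    (fxr H (⨆ x : s, orb (⊤ : Subgroup H) (x : M))).relIndex B ≤
      (cv M (B : Set H)).relIndex (⨆ x : s, orb (⊤ : Subgroup H) (x : M)) := by
  classical
  have key : ∀ (n : ℕ) (t : Finset M), t.card = n → (∀ x ∈ t, x ∈ s) → ∀ B' : Subgroup H, B' ≤ B →
      (fxr H (⨆ x : t, orb (⊤ : Subgroup H) (x : M))).relIndex B' ≤
        (cv M (B' : Set H)).relIndex (⨆ x : t, orb (⊤ : Subgroup H) (x : M)) := by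
    intro n
    induction n with
    | zero =>
      intro t ht _ B' _
      have h0 : (⨆ x : t, orb (⊤ : Subgroup H) (x : M)) = ⊥ := by
        rw [Finset.card_eq_zero] at ht
        subst ht
        simp
      rw [h0]
      have h1 : fxr H (⊥ : Subgroup M) = ⊤ := by
        rw [eq_top_iff]
        intro g _ m hm
        rw [mem_bot.1 hm, smul_one]
      rw [h1, relIndex_top_left]
      exact Nat.one_le_iff_ne_zero.2 (relIndex_ne _ _)
    | succ n ih =>
      intro t ht hts B' hB'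
      obtain ⟨x, hx⟩ := Finset.card_pos.1 (by omega : 0 < t.card)
      have h1 : (⨆ y : t, orb (⊤ : Subgroup H) (y : M)) =
          (⨆ y : (t.erase x : Finset M), orb (⊤ : Subgroup H) (y : M)) ⊔ orb (⊤ : Subgroup H) x := by
        apply le_antisymm
        · refine iSup_le fun y => ?_
          by_cases hy : (y : M) = x
          · rw [hy]; exact le_sup_right
          · exact le_sup_of_le_left (le_iSup (fun y : (t.erase x : Finset M) => orb (⊤ : Subgroup H) (y : M))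
              ⟨y, Finset.mem_erase.2 ⟨hy, y.2⟩⟩)
        · refine sup_le (iSup_le fun y => ?_) ?_
          · exact le_iSup (fun y : t => orb (⊤ : Subgroup H) (y : M)) ⟨y, Finset.mem_of_mem_erase y.2⟩
          · exact le_iSup (fun y : t => orb (⊤ : Subgroup H) (y : M)) ⟨x, hx⟩
      rw [h1]
      have hc : (t.erase x).card = n := by rw [Finset.card_erase_of_mem hx, ht]; rfl
      refine no_add (ih _ hc (fun y hy => hts y (Finset.mem_of_mem_erase hy)) B' hB') ?_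
      exact no_orb ml KH sq two syl (fx x (hts x hx)) (fun b hb => el b (hB' hb.2))
        ((inf_le_right.trans hB').trans (hB x (hts x hx)))
  have hs : s.Finite := Set.toFinite s
  have h2 : (⨆ x : s, orb (⊤ : Subgroup H) (x : M)) = ⨆ x : hs.toFinset, orb (⊤ : Subgroup H) (x : M) := by
    apply le_antisymm
    · exact iSup_le fun x => le_iSup (fun x : hs.toFinset => orb (⊤ : Subgroup H) (x : M))
        ⟨x, hs.mem_toFinset.2 x.2⟩
    · exact iSup_le fun x => le_iSup (fun x : s => orb (⊤ : Subgroup H) (x : M)) ⟨x, hs.mem_toFinset.1 x.2⟩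
  rw [h2]
  exact key _ _ rfl (fun x hx => hs.mem_toFinset.1 hx) B le_rfl

/-- **(NO) on `M = ⟨x^H : x ∈ s⟩`** -/
theorem no_fam_top [Finite H] [Finite M] (ml : MLK.{u, v}) (KH : IsKGroup H) (sq : ∀ m : M, m * m = 1)
    {T : Subgroup H} (two : IsPGroup 2 T) (syl : ¬ 2 ∣ T.index) {s : Set M}
    (gen : (⨆ x : s, orb (⊤ : Subgroup H) (x : M)) = ⊤)
    (fx : ∀ x ∈ s, ∀ t ∈ T, t • x = x) {B : Subgroup H} (el : ∀ b ∈ B, b * b = 1)
    (hB : ∀ x ∈ s, B ≤ o2 (MulAction.stabilizer H x)) :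
    (fxr H (⊤ : Subgroup M)).relIndex B ≤ (cv M (B : Set H)).index := by
  have h1 := no_fam ml KH sq two syl s fx el hB
  rwa [gen, relIndex_top_right] at h1

/-- **(NO) on `M = ⟨m^H⟩⟨Y^H⟩`**, `T` fixes `m` and `Y` pointwise -/
theorem no_X_Y [Finite H] [Finite M] (ml : MLK.{u, v}) (KH : IsKGroup H) (sq : ∀ m : M, m * m = 1)
    {T : Subgroup H} (two : IsPGroup 2 T) (syl : ¬ 2 ∣ T.index) {m : M} {Y : Subgroup M}
    (gen : orb (⊤ : Subgroup H) m ⊔ (⨆ y : Y, orb (⊤ : Subgroup H) (y : M)) = ⊤)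
    (fm : ∀ t ∈ T, t • m = m) (fY : T ≤ fxr H Y) {B : Subgroup H} (el : ∀ b ∈ B, b * b = 1)
    (hm : B ≤ o2 (MulAction.stabilizer H m)) (hY : ∀ y ∈ Y, y ≠ 1 → B ≤ o2 (MulAction.stabilizer H y)) :
    (fxr H (⊤ : Subgroup M)).relIndex B ≤ (cv M (B : Set H)).index := by
  have h1 : (⨆ x : ({x | x = m ∨ (x ∈ Y ∧ x ≠ 1)} : Set M), orb (⊤ : Subgroup H) (x : M)) = ⊤ := by
    rw [eq_top_iff, ← gen]
    refine sup_le ?_ (iSup_le fun y => ?_)
    · exact le_iSup (fun x : ({x | x = m ∨ (x ∈ Y ∧ x ≠ 1)} : Set M) => orb (⊤ : Subgroup H) (x : M)) ⟨m, Or.inl rfl⟩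
    · by_cases hy : (y : M) = 1
      · refine orb_le fun g _ => ?_
        rw [hy, smul_one]
        exact one_mem _
      · exact le_iSup (fun x : ({x | x = m ∨ (x ∈ Y ∧ x ≠ 1)} : Set M) => orb (⊤ : Subgroup H) (x : M))
          ⟨y, Or.inr ⟨y.2, hy⟩⟩
  refine no_fam_top ml KH sq two syl h1 ?_ el ?_
  · rintro x (rfl | ⟨hx, -⟩)
    · exact fm
    · exact fun t ht => fY ht x hx
  · rintro x (rfl | ⟨hx, hx1⟩)
    · exact hm
    · exact hY x hx hx1

/-- `O₂(H)` centralises `⟨x^H : x ∈ s⟩` -/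
theorem o2_top_le_fam [Finite H] {T : Subgroup H} (two : IsPGroup 2 T) (syl : ¬ 2 ∣ T.index) (s : Set M)
    (fx : ∀ x ∈ s, ∀ t ∈ T, t • x = x) : o2 (⊤ : Subgroup H) ≤ fxr H (⨆ x : s, orb (⊤ : Subgroup H) (x : M)) := by
  intro g hg m hm
  have h1 : (⨆ x : s, orb (⊤ : Subgroup H) (x : M)) ≤ cv M ({g} : Set H) :=
    iSup_le fun x m hm => mem_cv_singleton.2 (o2_top_le two syl (fx x x.2) hg m hm)
  exact mem_cv_singleton.1 (h1 hm)

end Cfsg.Agent.Omega.KL.NoFam
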