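import Mathlib

/-!
# THEOREM KL (bb #21261), (3): one component  (text: helper903, after helper815's AV and helper946)

`X` is finite and acts on the elementary abelian 2-group `M`, `T` a Sylow 2-subgroup of `X`, `V ≤ M` a four-group,
`x ∈ V` and `y` fixed by `T`; `X` is generated by the stabiliser of `x` and the elements which normalise `V` and fix `y`
(`Fr`).

* `Fr.av` : `K` normal, `T ∩ K` centralises `V` ==> `T ∩ K = 1`;
* `Fr.moves` : `E = L₁ × .. × Lᵣ` normal of even order, `T` transitive on the factors: `T ∩ Lᵢ` moves `V` for all `i`;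
* `Fr.comp` : if in addition an element of `E` normalises `V` and moves `x` then `r = 1`.
-/

set_option autoImplicit false

namespace Cfsg.Agent.Omega.KL.Comp

open Subgroup

universe u v

variable {X : Type u} [Group X] {M : Type v} [Group M] [MulDistribMulAction X M]

/-! ### Sylow subgroups of normal subgroups -/

section syl

variable [Finite X]

theorem relIndex_normal (T K : Subgroup X) [K.Normal] : T.relIndex K = T.relIndex (T ⊔ K) := by
  have h1 : K.relIndex (T ⊔ K) = K.relIndex T := relIndex_sup_right T K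
  have rc : ∀ {A B : Subgroup X}, A ≤ B → A.relIndex B * Nat.card A = Nat.card B := fun {A B} h => by
    have h2 := relIndex_mul_relIndex ⊥ A B bot_le h
    rw [relIndex_bot_left, relIndex_bot_left] at h2
    rw [mul_comm]
    exact h2
  have c1 : T.relIndex K * Nat.card ↥(T ⊓ K) = Nat.card K := by
    rw [← inf_relIndex_right]
    exact rc inf_le_right
  have c2 : T.relIndex (T ⊔ K) * Nat.card T = Nat.card ↥(T ⊔ K) := rc le_sup_left
  have c3 : K.relIndex (T ⊔ K) * Nat.card K = Nat.card ↥(T ⊔ K) := rc le_sup_right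
  have c4 : K.relIndex T * Nat.card ↥(T ⊓ K) = Nat.card T := by
    rw [inf_comm, ← inf_relIndex_right]
    exact rc inf_le_right
  have p1 : 0 < Nat.card T := Nat.card_pos
  have p2 : 0 < Nat.card ↥(T ⊓ K) := Nat.card_pos
  have key : T.relIndex K * (Nat.card T * Nat.card ↥(T ⊓ K)) =
      T.relIndex (T ⊔ K) * (Nat.card T * Nat.card ↥(T ⊓ K)) := by
    calc T.relIndex K * (Nat.card T * Nat.card ↥(T ⊓ K))
        = (T.relIndex K * Nat.card ↥(T ⊓ K)) * Nat.card T := by ring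
      _ = Nat.card K * (K.relIndex T * Nat.card ↥(T ⊓ K)) := by rw [c1, c4]
      _ = (K.relIndex (T ⊔ K) * Nat.card K) * Nat.card ↥(T ⊓ K) := by rw [h1]; ring
      _ = (T.relIndex (T ⊔ K) * Nat.card T) * Nat.card ↥(T ⊓ K) := by rw [c3, c2]
      _ = _ := by ring
  exact Nat.eq_of_mul_eq_mul_right (Nat.mul_pos p1 p2) key

theorem not_dvd_relIndex {T : Subgroup X} (h : ¬ 2 ∣ T.index) (K : Subgroup X) [K.Normal] : ¬ 2 ∣ T.relIndex K := by
  rw [relIndex_normal]
  exact fun h1 => h (h1.trans (relIndex_dvd_index_of_le le_sup_left))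

end syl

/-! ### Four-groups -/

/-- `V = {1, x, u, xu}` -/
theorem four {V : Subgroup M} (hc : Nat.card V = 4) (hsq : ∀ m : M, m * m = 1) {x u : M} (hx : x ∈ V) (hu : u ∈ V)
    (hx1 : x ≠ 1) (hu1 : u ≠ 1) (hxu : u ≠ x) {v : M} (hv : v ∈ V) : v = 1 ∨ v = x ∨ v = u ∨ v = x * u := by
  classical
  by_contra hcon
  push Not at hcon
  obtain ⟨h1, h2, h3, h4⟩ := hcon
  have : Finite V := Nat.finite_of_card_ne_zero (by rw [hc]; norm_num)
  have := Fintype.ofFinite V
  rw [Nat.card_eq_fintype_card] at hc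
  have hxu1 : x * u ≠ 1 := fun h => hxu (by
    have := hsq x
    rw [← this] at h
    exact mul_left_cancel h)
  have hne : ({⟨1, one_mem V⟩, ⟨x, hx⟩, ⟨u, hu⟩, ⟨x * u, mul_mem hx hu⟩, ⟨v, hv⟩} : Finset V).card = 5 := by
    rw [Finset.card_insert_of_notMem, Finset.card_insert_of_notMem, Finset.card_insert_of_notMem,
      Finset.card_insert_of_notMem, Finset.card_singleton]
    · simp only [Finset.mem_singleton, Subtype.mk.injEq]
      exact Ne.symm h4
    · simp only [Finset.mem_insert, Finset.mem_singleton, Subtype.mk.injEq, not_or]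
      exact ⟨fun h => hx1 (by
        have h' : 1 * u = x * u := by rw [one_mul]; exact h
        exact (mul_right_cancel h').symm), Ne.symm h3⟩
    · simp only [Finset.mem_insert, Finset.mem_singleton, Subtype.mk.injEq, not_or]
      exact ⟨Ne.symm hxu, fun h => hu1 (by
        have h' : x * 1 = x * u := by rw [mul_one]; exact h
        exact (mul_left_cancel h').symm), Ne.symm h2⟩
    · simp only [Finset.mem_insert, Finset.mem_singleton, Subtype.mk.injEq, not_or]
      exact ⟨Ne.symm hx1, Ne.symm hu1, Ne.symm hxu1, Ne.symm h1⟩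
  have h5 := Finset.card_le_univ ({⟨1, one_mem V⟩, ⟨x, hx⟩, ⟨u, hu⟩, ⟨x * u, mul_mem hx hu⟩, ⟨v, hv⟩} : Finset V)
  rw [hne, hc] at h5
  omega

/-- an element which fixes two nontrivial elements of a four-group centralises it -/
theorem four_fix {V : Subgroup M} (hc : Nat.card V = 4) (hsq : ∀ m : M, m * m = 1) {x u : M} (hx : x ∈ V)
    (hu : u ∈ V) (hx1 : x ≠ 1) (hu1 : u ≠ 1) (hxu : u ≠ x) {h : X} (h1 : h • x = x) (h2 : h • u = u) {v : M}
    (hv : v ∈ V) : h • v = v := by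
  rcases four hc hsq hx hu hx1 hu1 hxu hv with rfl | rfl | rfl | rfl
  · exact smul_one h
  · exact h1
  · exact h2
  · rw [smul_mul', h1, h2]

/-! ### Products over finite sets -/

section prod

variable {N : Type v} [CommGroup N] [MulDistribMulAction X N]

theorem prod_image_smul [DecidableEq N] (h : X) (A : Finset N) :
    ∏ w ∈ A.image (fun w => h • w), w = h • ∏ w ∈ A, w := by
  rw [Finset.prod_image fun a _ b _ hab => smul_left_cancel h hab, Finset.smul_prod']

theorem prod_image_mul [DecidableEq N] (a : N) (A : Finset N) (ha : a * a = 1) (hodd : Odd A.card) :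
    ∏ w ∈ A.image (fun w => w * a), w = (∏ w ∈ A, w) * a := by
  rw [Finset.prod_image fun b _ c _ hbc => mul_right_cancel hbc, Finset.prod_mul_distrib, Finset.prod_const]
  obtain ⟨m, hm⟩ := hodd
  rw [hm, pow_succ, pow_mul, pow_two, ha, one_pow, one_mul]

end prod

/-! ### The frame -/

/-- the frame -/
structure Fr (T : Subgroup X) (V : Subgroup M) (x y : M) : Prop where
  sq : ∀ m : M, m * m = 1
  two : IsPGroup 2 T
  syl : ¬ 2 ∣ T.index
  xT : ∀ t ∈ T, t • x = x
  yT : ∀ t ∈ T, t • y = y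
  xV : x ∈ V
  x1 : x ≠ 1
  card : Nat.card V = 4
  VT : ∀ t ∈ T, ∀ v ∈ V, t • v ∈ V
  mv : ∃ t ∈ T, ∃ v ∈ V, t • v ≠ v
  /-- (FIX) -/
  fix : ∀ m : M, (∀ t ∈ T, (∀ v ∈ V, t • v = v) → t • m = m) → m ∈ V ∨ m * y ∈ V
  /-- (C) -/
  stab : ∀ h : X, h • (x * y) = x * y → h • x = x
  gen : ∀ K : Subgroup X, (∀ h : X, h • x = x → h ∈ K) →
    (∀ h : X, (∀ v ∈ V, h • v ∈ V) → h • y = y → h ∈ K) → K = ⊤
  tr : ∀ v ∈ V, v ≠ 1 → ∃ h : X, (∀ w ∈ V, h • w ∈ V) ∧ h • y = y ∧ h • v = x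
  span : ∀ h : X, (∀ g : X, h • g • x = g • x) → h = 1

/-- the elements which normalise a finite `V` -/
theorem inv_smul_mem {V : Subgroup M} [Finite V] {h : X} (hh : ∀ v ∈ V, h • v ∈ V) {v : M} (hv : v ∈ V) :
    h⁻¹ • v ∈ V := by
  have hinj : Function.Injective (fun w : V => (⟨h • (w : M), hh w w.2⟩ : V)) := fun a b hab =>
    Subtype.ext (smul_left_cancel h (congrArg Subtype.val hab))
  obtain ⟨w, hw⟩ := Finite.surjective_of_injective hinj ⟨v, hv⟩
  have h1 : h • (w : M) = v := congrArg Subtype.val hw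
  rw [← h1, inv_smul_smul]
  exact w.2

namespace Fr

variable {T : Subgroup X} {V : Subgroup M} {x y : M} (D : Fr T V x y)

include D

theorem comm (a b : M) : a * b = b * a := by
  have h1 := D.sq (a * b)
  have h2 := D.sq a
  have h3 := D.sq b
  calc a * b = a * ((a * b) * (a * b)) * b := by rw [h1, mul_one]
    _ = (a * a) * b * a * (b * b) := by group
    _ = b * a := by rw [h2, h3]; group

omit D [Group M] [MulDistribMulAction X M] in
/-- **AV, the vector `τ`** : commutative form -/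
theorem av_aux {N : Type v} [CommGroup N] [MulDistribMulAction X N] [Finite X] {T : Subgroup X} {V : Subgroup N}
    {x y : N} (D : Fr T V x y) {K : Subgroup X} (hK : K.Normal)
    (hTK : ∀ t ∈ T, t ∈ K → ∀ v ∈ V, t • v = v) {h : X} (hh : h ∈ K) (hx : h • x = x) {v : N} (hv : v ∈ V) :
    h • v = v := by
  classical
  -- a moved vector
  obtain ⟨t₀, ht₀, u, hu, hu₀⟩ := D.mv
  have hu1 : u ≠ 1 := fun h1 => hu₀ (by rw [h1, smul_one])
  have hux : u ≠ x := fun h1 => hu₀ (by rw [h1]; exact D.xT t₀ ht₀)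
  have htu : t₀ • u = u * x := by
    rcases four D.card D.sq D.xV hu D.x1 hu1 hux (D.VT t₀ ht₀ u hu) with h1 | h1 | h1 | h1
    · exact absurd (smul_left_cancel t₀ (h1.trans (smul_one t₀).symm)) hu1
    · exfalso
      refine hux (smul_left_cancel t₀ ?_)
      rw [h1, D.xT t₀ ht₀]
    · exact absurd h1 hu₀
    · rw [h1, mul_comm]
  -- the stabiliser and the orbit
  set Kx : Subgroup X := K ⊓ MulAction.stabilizer X x with hKx
  have hmem : ∀ {k : X}, k ∈ Kx ↔ k ∈ K ∧ k • x = x := fun {k} => by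
    rw [hKx, mem_inf, MulAction.mem_stabilizer_iff]
  have hfin : ∀ w : N, (Set.range fun k : Kx => (k : X) • w).Finite := fun w => Set.finite_range _
  let O : N → Finset N := fun w => (hfin w).toFinset
  have hO : ∀ w z : N, z ∈ O w ↔ ∃ k ∈ Kx, k • w = z := fun w z => by
    rw [Set.Finite.mem_toFinset]
    constructor
    · rintro ⟨k, rfl⟩; exact ⟨k, k.2, rfl⟩
    · rintro ⟨k, hk, rfl⟩; exact ⟨⟨k, hk⟩, rfl⟩
  have hTx : ∀ t ∈ T, ∀ k ∈ Kx, t * k * t⁻¹ ∈ Kx := fun t ht k hk => by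
    rw [hmem] at hk ⊢
    refine ⟨hK.conj_mem k hk.1 t, ?_⟩
    rw [mul_smul, mul_smul, D.xT t⁻¹ (inv_mem ht), hk.2, D.xT t ht]
  -- `T` acts on the orbits
  have hTO : ∀ t ∈ T, ∀ w : N, (O w).image (fun z => t • z) = O (t • w) := by
    intro t ht w
    ext z
    rw [Finset.mem_image]
    constructor
    · rintro ⟨a, ha, rfl⟩
      obtain ⟨k, hk, rfl⟩ := (hO _ _).1 ha
      refine (hO _ _).2 ⟨t * k * t⁻¹, hTx t ht k hk, ?_⟩
      rw [mul_smul, mul_smul, inv_smul_smul]
    · intro hz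
      obtain ⟨k, hk, rfl⟩ := (hO _ _).1 hz
      have h1 := hTx t⁻¹ (inv_mem ht) k hk
      rw [inv_inv] at h1
      refine ⟨(t⁻¹ * k * t) • w, (hO _ _).2 ⟨_, h1, rfl⟩, ?_⟩
      rw [← mul_smul, ← mul_smul]
      congr 1
      group
  have hKO : ∀ k ∈ Kx, ∀ w : N, (O w).image (fun z => k • z) = O w := by
    intro k hk w
    ext z
    rw [Finset.mem_image]
    constructor
    · rintro ⟨a, ha, rfl⟩
      obtain ⟨l, hl, rfl⟩ := (hO _ _).1 ha
      exact (hO _ _).2 ⟨k * l, mul_mem hk hl, mul_smul _ _ _⟩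
    · intro hz
      obtain ⟨l, hl, rfl⟩ := (hO _ _).1 hz
      refine ⟨(k⁻¹ * l) • w, (hO _ _).2 ⟨_, mul_mem (inv_mem hk) hl, rfl⟩, ?_⟩
      rw [← mul_smul, mul_inv_cancel_left]
  have hxO : ∀ w : N, (O w).image (fun z => z * x) = O (w * x) := by
    intro w
    ext z
    rw [Finset.mem_image]
    constructor
    · rintro ⟨a, ha, rfl⟩
      obtain ⟨k, hk, rfl⟩ := (hO _ _).1 ha
      exact (hO _ _).2 ⟨k, hk, by rw [smul_mul', (hmem.1 hk).2]⟩
    · intro hz
      obtain ⟨k, hk, rfl⟩ := (hO _ _).1 hz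
      exact ⟨k • w, (hO _ _).2 ⟨k, hk, rfl⟩, by rw [smul_mul', (hmem.1 hk).2]⟩
  -- the orbit of `u` is odd
  have hodd : Odd (O u).card := by
    have h1 : (O u).card = Nat.card (MulAction.orbit Kx u) := by
      rw [Nat.card_coe_set_eq, ← Set.ncard_coe_finset]
      congr 1
      ext z
      rw [Finset.mem_coe, hO, MulAction.mem_orbit_iff]
      constructor
      · rintro ⟨k, hk, rfl⟩; exact ⟨⟨k, hk⟩, rfl⟩
      · rintro ⟨k, rfl⟩; exact ⟨k, k.2, rfl⟩
    rw [h1, Nat.card_coe_set_eq, ← MulAction.index_stabilizer, ← Nat.not_even_iff_odd, even_iff_two_dvd]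
    intro h2
    have h3 : (T ⊓ K).subgroupOf Kx ≤ MulAction.stabilizer Kx u := by
      intro k hk
      rw [mem_subgroupOf, mem_inf] at hk
      rw [MulAction.mem_stabilizer_iff]
      exact hTK k hk.1 hk.2 u hu
    have h4 : ¬ 2 ∣ (T ⊓ K).relIndex Kx := by
      intro h5
      have h6 : (T ⊓ K).relIndex Kx ∣ (T ⊓ K).relIndex K := by
        have h7 : T ⊓ K ≤ Kx := fun k hk => hmem.2 ⟨hk.2, D.xT k hk.1⟩
        have h8 : Kx ≤ K := inf_le_left
        rw [← relIndex_mul_relIndex (T ⊓ K) Kx K h7 h8]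
        exact dvd_mul_right _ _
      rw [inf_relIndex_right] at h6
      exact not_dvd_relIndex D.syl K (h5.trans h6)
    exact h4 (h2.trans (index_dvd_of_le h3))
  -- `τ`
  set τ : N := ∏ w ∈ O u, w with hτ
  have hTτ : ∀ t ∈ T, t • u = u → t • τ = τ := by
    intro t ht htu'
    rw [hτ, ← prod_image_smul, hTO t ht u, htu']
  have htτ : t₀ • τ = τ * x := by
    rw [hτ, ← prod_image_smul, hTO t₀ ht₀ u, htu, ← hxO, prod_image_mul x _ (D.sq x) hodd]
  have hKτ : ∀ k ∈ Kx, k • τ = τ := by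
    intro k hk
    rw [hτ, ← prod_image_smul, hKO k hk u]
  have hτx : ∀ w : N, t₀ • w = w → w ≠ τ := by
    rintro w hw rfl
    rw [htτ] at hw
    exact D.x1 (mul_eq_left.1 hw)
  have hhx : h ∈ Kx := hmem.2 ⟨hh, hx⟩
  rcases D.fix τ fun t ht hc => hTτ t ht (hc u hu) with h1 | h1
  · -- `τ ∈ V`
    refine four_fix D.card D.sq D.xV h1 D.x1 ?_ ?_ hx (hKτ h hhx) hv
    · exact (hτx 1 (smul_one _)).symm
    · exact (hτx x (D.xT t₀ ht₀)).symm
  · -- `τ y ∈ V`
    have hy2 : τ * y * y = τ := by rw [mul_assoc, D.sq y, mul_one]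
    have hne : τ * y ≠ 1 := by
      intro h2
      refine hτx y (D.yT t₀ ht₀) ?_
      rw [← hy2, h2, one_mul]
    have hnx : τ * y ≠ x := by
      intro h2
      refine hτx (x * y) ?_ ?_
      · rw [smul_mul', D.xT t₀ ht₀, D.yT t₀ ht₀]
      · rw [← h2, hy2]
    obtain ⟨g, hgV, hgy, hgx⟩ := D.tr (τ * y) h1 hne
    -- every element of `K` which fixes `g x` centralises `V`
    have key : ∀ k ∈ K, k • g • x = g • x → ∀ w ∈ V, k • w = w := by
      intro k hk hkg w hw
      have h2 : g⁻¹ * k * g ∈ Kx := by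
        refine hmem.2 ⟨?_, ?_⟩
        · have := hK.conj_mem k hk g⁻¹
          rwa [inv_inv] at this
        · rw [mul_smul, mul_smul, hkg, inv_smul_smul]
      have h3 := hKτ _ h2
      have h4 : k • (x * y) = x * y := by
        have h5 : g • τ = x * y := by
          rw [← hy2, smul_mul', hgx, hgy]
        rw [← h5]
        have h6 := congrArg (fun z => g • z) h3
        simp only [← mul_smul] at h6
        rw [← mul_smul]
        rw [← h6]
        congr 1
        group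
      have h5 := D.stab k h4
      refine four_fix D.card D.sq D.xV (hgV x D.xV) D.x1 ?_ ?_ h5 hkg hw
      · intro h6
        exact D.x1 (smul_left_cancel g (h6.trans (smul_one g).symm))
      · intro h6
        refine hnx (smul_left_cancel g ?_)
        rw [hgx, h6]
    have : Finite V := Nat.finite_of_card_ne_zero (by rw [D.card]; norm_num)
    have h2 := key (g * h * g⁻¹) (hK.conj_mem h hh g)
      (by rw [mul_smul, mul_smul, inv_smul_smul, hx]) (g • v) (hgV v hv)
    rw [mul_smul, mul_smul, inv_smul_smul] at h2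
    exact smul_left_cancel g h2

/-- **AV** : an element of `K` which fixes `x` centralises `V` -/
theorem av_mem [Finite X] {K : Subgroup X} (hK : K.Normal) (hTK : ∀ t ∈ T, t ∈ K → ∀ v ∈ V, t • v = v)
    {h : X} (hh : h ∈ K) (hx : h • x = x) {v : M} (hv : v ∈ V) : h • v = v := by
  letI : CommGroup M := { ‹Group M› with mul_comm := D.comm }
  have D' : Fr (M := M) T V x y := D
  exact av_aux D' hK hTK hh hx hv

/-- **AV** : `K` normal, `T ∩ K` centralises `V` ==> the stabiliser of `x` in `K` is trivial -/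
theorem av_one [Finite X] {K : Subgroup X} (hK : K.Normal) (hTK : ∀ t ∈ T, t ∈ K → ∀ v ∈ V, t • v = v)
    {h : X} (hh : h ∈ K) (hx : h • x = x) : h = 1 := by
  have : Finite V := Nat.finite_of_card_ne_zero (by rw [D.card]; norm_num)
  set N : Subgroup X := K ⊓ MulAction.stabilizer X x with hN
  have hmem : ∀ {k : X}, k ∈ N ↔ k ∈ K ∧ k • x = x := fun {k} => by
    rw [hN, mem_inf, MulAction.mem_stabilizer_iff]
  have hmem' : ∀ {k : X}, k ∈ N ↔ k ∈ K ∧ ∀ v ∈ V, k • v = v := fun {k} => by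
    rw [hmem]
    exact ⟨fun h => ⟨h.1, fun v hv => D.av_mem hK hTK h.1 h.2 hv⟩, fun h => ⟨h.1, h.2 x D.xV⟩⟩
  -- the elements which normalise `N`
  let Q : Subgroup X :=
    { carrier := {g | (∀ k ∈ N, g * k * g⁻¹ ∈ N) ∧ ∀ k ∈ N, g⁻¹ * k * g ∈ N}
      mul_mem' := by
        rintro a b ⟨ha, ha'⟩ ⟨hb, hb'⟩
        refine ⟨fun k hk => ?_, fun k hk => ?_⟩
        · have e : a * b * k * (a * b)⁻¹ = a * (b * k * b⁻¹) * a⁻¹ := by group
          rw [e]
          exact ha _ (hb k hk)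
        · have e : (a * b)⁻¹ * k * (a * b) = b⁻¹ * (a⁻¹ * k * a) * b := by group
          rw [e]
          exact hb' _ (ha' k hk)
      one_mem' := ⟨fun k hk => by simpa using hk, fun k hk => by simpa using hk⟩
      inv_mem' := by
        rintro a ⟨ha, ha'⟩
        exact ⟨fun k hk => by rw [inv_inv]; exact ha' k hk, fun k hk => by rw [inv_inv]; exact ha k hk⟩ }
  have hQ : Q = ⊤ := by
    refine D.gen Q (fun g hg => ⟨fun k hk => ?_, fun k hk => ?_⟩) fun g hgV hgy => ⟨fun k hk => ?_, fun k hk => ?_⟩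
    · rw [hmem] at hk ⊢
      refine ⟨hK.conj_mem k hk.1 g, ?_⟩
      have h1 : g⁻¹ • x = x := by rw [inv_smul_eq_iff, hg]
      rw [mul_smul, mul_smul, h1, hk.2, hg]
    · rw [hmem] at hk ⊢
      have h1 : g⁻¹ • x = x := by rw [inv_smul_eq_iff, hg]
      refine ⟨by have := hK.conj_mem k hk.1 g⁻¹; rwa [inv_inv] at this, ?_⟩
      rw [mul_smul, mul_smul, hg, hk.2, h1]
    · rw [hmem'] at hk ⊢
      refine ⟨hK.conj_mem k hk.1 g, fun v hv => ?_⟩
      rw [mul_smul, mul_smul, hk.2 _ (inv_smul_mem hgV hv), smul_inv_smul]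
    · rw [hmem'] at hk ⊢
      refine ⟨by have := hK.conj_mem k hk.1 g⁻¹; rwa [inv_inv] at this, fun v hv => ?_⟩
      rw [mul_smul, mul_smul, hk.2 _ (hgV v hv), inv_smul_smul]
  refine D.span h fun g => ?_
  have h1 : g ∈ Q := by rw [hQ]; exact mem_top g
  have h2 := (hmem.1 (h1.2 h (hmem.2 ⟨hh, hx⟩))).2
  rw [mul_smul, mul_smul, inv_smul_eq_iff] at h2
  exact h2

/-- **AV** -/
theorem av [Finite X] {K : Subgroup X} (hK : K.Normal) (hTK : ∀ t ∈ T, t ∈ K → ∀ v ∈ V, t • v = v) :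
    T ⊓ K = ⊥ := by
  rw [eq_bot_iff]
  intro t ht
  exact D.av_one hK hTK ht.2 (D.xT t ht.1)

end Fr

/-! ### The factors -/

section factors

variable {ι : Type*} [Fintype ι] {L : ι → Subgroup X}

/-- pairwise commuting subgroups with trivial centres are independent -/
theorem indep_of_center (hcomm : Pairwise fun i j : ι => ∀ a b : X, a ∈ L i → b ∈ L j → Commute a b)
    (hz : ∀ i, ∀ a ∈ L i, (∀ b ∈ L i, a * b = b * a) → a = 1) : iSupIndep L := by
  intro i
  rw [disjoint_iff_inf_le]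
  rintro a ⟨ha, ha'⟩
  refine mem_bot.2 (hz i a ha fun b hb => ?_)
  have h1 : (⨆ (j : ι) (_ : j ≠ i), L j) ≤ centralizer ({b} : Set X) := by
    refine iSup_le fun j => iSup_le fun hj => fun c hc => ?_
    rw [mem_centralizer_singleton_iff]
    exact hcomm hj c b hc hb
  exact mem_centralizer_singleton_iff.1 (h1 ha')

theorem factor_norm (hcomm : Pairwise fun i j : ι => ∀ a b : X, a ∈ L i → b ∈ L j → Commute a b) (i : ι) :
    (⨆ j, L j) ≤ normalizer (L i : Set X) := by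
  refine iSup_le fun j => ?_
  by_cases hj : j = i
  · subst hj; exact le_normalizer
  · intro b hb
    rw [mem_normalizer_iff]
    intro a
    constructor
    · intro ha
      have h1 := (hcomm hj b a hb ha).eq
      have h2 : b * a * b⁻¹ = a := by rw [h1]; group
      rw [h2]; exact ha
    · intro ha
      have h1 := (hcomm hj b _ hb ha).eq
      have h2 : a = b * a * b⁻¹ := by
        calc a = b⁻¹ * (b * a * b⁻¹ * b) := by group
          _ = b⁻¹ * (b * (b * a * b⁻¹)) := by rw [h1]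
          _ = b * a * b⁻¹ := by group
      rw [h2]; exact ha

variable [Finite X]

/-- **the Sylow subgroup of a direct product is a product** -/
theorem comp_mem {T : Subgroup X} (h2 : IsPGroup 2 T) (hs : ¬ 2 ∣ T.index)
    (hcomm : Pairwise fun i j : ι => ∀ a b : X, a ∈ L i → b ∈ L j → Commute a b) (hind : iSupIndep L)
    (hE : (⨆ i, L i).Normal) {f : (i : ι) → L i} (hf : noncommPiCoprod hcomm f ∈ T) (j : ι) : (f j : X) ∈ T := by
  classical
  have hinj := injective_noncommPiCoprod_of_iSupIndep (hcomm := hcomm) hind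
  set Q : Subgroup X := ((T.comap (noncommPiCoprod hcomm)).map (Pi.evalMonoidHom (fun i => L i) j)).map (L j).subtype
    with hQ
  have hQ2 : IsPGroup 2 Q := ((h2.comap_of_injective _ hinj).map _).map _
  have hTQ : T ⊓ L j ≤ Q := by
    rintro a ⟨ha, haL⟩
    refine ⟨⟨a, haL⟩, ⟨Pi.mulSingle j ⟨a, haL⟩, ?_, ?_⟩, rfl⟩
    · rw [SetLike.mem_coe, mem_comap, noncommPiCoprod_mulSingle]
      exact ha
    · simp
  have hQL : Q ≤ L j := map_subtype_le _
  -- `T ∩ L j` is a Sylow 2-subgroup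
  have hE' : ¬ 2 ∣ (T.subgroupOf (⨆ i, L i)).index := not_dvd_relIndex hs (⨆ i, L i)
  have hLE : L j ≤ ⨆ i, L i := le_iSup L j
  have hLn : ((L j).subgroupOf (⨆ i, L i)).Normal := (normal_subgroupOf_iff_le_normalizer hLE).2 (factor_norm hcomm j)
  have hLj : ¬ 2 ∣ T.relIndex (L j) := by
    have := not_dvd_relIndex hE' ((L j).subgroupOf (⨆ i, L i))
    rwa [relIndex_subgroupOf hLE] at this
  have h1 : (T ⊓ L j).relIndex Q ∣ (T ⊓ L j).relIndex (L j) := by
    rw [← relIndex_mul_relIndex (T ⊓ L j) Q (L j) hTQ hQL]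
    exact dvd_mul_right _ _
  rw [inf_relIndex_right] at h1
  have h3 : (T ⊓ L j).relIndex Q = 1 := by
    obtain ⟨n, hn⟩ := hQ2.index ((T ⊓ L j).subgroupOf Q)
    have hn' : (T ⊓ L j).relIndex Q = 2 ^ n := hn
    rcases Nat.eq_zero_or_pos n with h0 | h0
    · rw [hn', h0, pow_zero]
    · exfalso
      refine hLj (Dvd.dvd.trans ?_ h1)
      rw [hn']
      exact dvd_pow_self 2 h0.ne'
  have h4 : Q ≤ T ⊓ L j := relIndex_eq_one.1 h3
  exact (h4 ⟨f j, ⟨f, hf, rfl⟩, rfl⟩).1

end factors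

namespace Fr

variable {T : Subgroup X} {V : Subgroup M} {x y : M} (D : Fr T V x y)

include D

variable {ι : Type*} [Fintype ι] {L : ι → Subgroup X}

/-- **`T ∩ Lᵢ` moves `V`** -/
theorem moves [Finite X] (hcomm : Pairwise fun i j : ι => ∀ a b : X, a ∈ L i → b ∈ L j → Commute a b)
    (hind : iSupIndep L) (hE : (⨆ i, L i).Normal) (hT : ∀ i j, ∃ t ∈ T, ∀ a ∈ L i, t * a * t⁻¹ ∈ L j)
    (hev : T ⊓ ⨆ i, L i ≠ ⊥) (i : ι) : ∃ t ∈ T, t ∈ L i ∧ ∃ v ∈ V, t • v ≠ v := by
  by_contra hcon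
  push Not at hcon
  -- all `T ∩ L j` centralise `V`
  have h1 : ∀ j, ∀ t ∈ T, t ∈ L j → ∀ v ∈ V, t • v = v := by
    intro j t ht htL v hv
    obtain ⟨s, hs, hsL⟩ := hT j i
    have h2 := hcon (s * t * s⁻¹) (mul_mem (mul_mem hs ht) (inv_mem hs)) (hsL t htL) (s • v) (D.VT s hs v hv)
    rw [mul_smul, mul_smul, inv_smul_smul] at h2
    exact smul_left_cancel s h2
  refine hev (D.av hE fun t ht htE v hv => ?_)
  rw [← noncommPiCoprod_range (hcomm := hcomm)] at htE
  obtain ⟨f, rfl⟩ := htE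
  have h2 : ∀ j, (f j : X) • v = v := fun j =>
    h1 j _ (comp_mem D.two D.syl hcomm hind hE ht j) (f j).2 v hv
  have h3 : noncommPiCoprod hcomm f ∈ MulAction.stabilizer X v := by
    rw [noncommPiCoprod_apply]
    exact Subgroup.noncommProd_mem _ _ fun j _ => h2 j
  exact h3

/-- `t ∈ T` which moves `V` moves `a` to `x a` -/
theorem smul_eq {t : X} (ht : t ∈ T) (hm : ∃ v ∈ V, t • v ≠ v) {a : M} (ha : a ∈ V) (ha1 : a ≠ 1) (hax : a ≠ x) :
    t • a = x * a := by
  rcases four D.card D.sq D.xV ha D.x1 ha1 hax (D.VT t ht a ha) with h1 | h1 | h1 | h1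
  · exact absurd (smul_left_cancel t (h1.trans (smul_one t).symm)) ha1
  · exact absurd (smul_left_cancel t (h1.trans (D.xT t ht).symm)) hax
  · obtain ⟨v, hv, hv'⟩ := hm
    exact absurd (four_fix D.card D.sq D.xV ha D.x1 ha1 hax (D.xT t ht) h1 hv) hv'
  · exact h1

/-- **LEMMA COMP** : one factor -/
theorem comp [Finite X] (hcomm : Pairwise fun i j : ι => ∀ a b : X, a ∈ L i → b ∈ L j → Commute a b)
    (hind : iSupIndep L) (hE : (⨆ i, L i).Normal) (hT : ∀ i j, ∃ t ∈ T, ∀ a ∈ L i, t * a * t⁻¹ ∈ L j)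
    (hev : T ⊓ ⨆ i, L i ≠ ⊥) (hg : ∃ e ∈ ⨆ i, L i, (∀ v ∈ V, e • v ∈ V) ∧ e • x ≠ x) {i j : ι} (hij : i ≠ j) :
    False := by
  obtain ⟨e, heE, heV, hex⟩ := hg
  obtain ⟨t₁, ht₁, ht₁L, hm₁⟩ := D.moves hcomm hind hE hT hev i
  obtain ⟨t₂, ht₂, ht₂L, hm₂⟩ := D.moves hcomm hind hE hT hev j
  have heV' := heV
  set a := e • x with ha
  have haV : a ∈ V := heV x D.xV
  have ha1 : a ≠ 1 := fun h => D.x1 (smul_left_cancel e (h.trans (smul_one e).symm))
  have hxa : x * a ≠ 1 := fun h => hex (by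
    have h1 := D.sq x
    rw [← h1] at h
    exact mul_left_cancel h)
  have hxax : x * a ≠ x := fun h => ha1 (mul_eq_left.1 h)
  have hxaa : x * a ≠ a := fun h => D.x1 (mul_eq_right.1 h)
  have hxaV : x * a ∈ V := mul_mem D.xV haV
  have hxxa : x * (x * a) = a := by rw [← mul_assoc, D.sq x, one_mul]
  -- a 3-cycle
  obtain ⟨g, hgE, hgx, hga, hgxa⟩ : ∃ g ∈ ⨆ i, L i, g • x = a ∧ g • a = x * a ∧ g • (x * a) = x := by
    rcases four D.card D.sq D.xV haV D.x1 ha1 hex (heV a haV) with h1 | h1 | h1 | h1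
    · exact absurd (smul_left_cancel e (h1.trans (smul_one e).symm)) ha1
    · -- `e` is a transposition
      refine ⟨e * t₁, mul_mem heE (le_iSup L i ht₁L), ?_, ?_, ?_⟩
      · rw [mul_smul, D.xT t₁ ht₁]
      · rw [mul_smul, D.smul_eq ht₁ hm₁ haV ha1 hex, smul_mul', ← ha, h1, D.comm]
      · rw [mul_smul, smul_mul', D.xT t₁ ht₁, D.smul_eq ht₁ hm₁ haV ha1 hex, hxxa, h1]
    · exact absurd (smul_left_cancel e (h1.trans ha)) hex
    · refine ⟨e, heE, rfl, h1, ?_⟩
      rw [smul_mul', ← ha, h1, D.comm, mul_assoc, D.sq a, mul_one]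
  -- the commutator
  have hc : t₁ * (g * t₁⁻¹ * g⁻¹) ∈ L i :=
    mul_mem ht₁L ((mem_normalizer_iff.1 (factor_norm hcomm i hgE) _).1 (inv_mem ht₁L))
  have hcx : (t₁ * (g * t₁⁻¹ * g⁻¹)) • x = a := by
    have h1 : g⁻¹ • x = x * a := by rw [inv_smul_eq_iff, hgxa]
    have h2 : t₁⁻¹ • (x * a) = a := by
      rw [inv_smul_eq_iff, D.smul_eq ht₁ hm₁ haV ha1 hex]
    rw [mul_smul, mul_smul, mul_smul, h1, h2, hga, smul_mul', D.xT t₁ ht₁, D.smul_eq ht₁ hm₁ haV ha1 hex, hxxa]
  have hcm := (hcomm hij _ t₂ hc ht₂L).eq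
  have h1 : t₂ • a = a := by
    rw [← hcx, ← mul_smul, ← hcm, mul_smul, D.xT t₂ ht₂]
  rw [D.smul_eq ht₂ hm₂ haV ha1 hex] at h1
  exact hxaa h1

end Fr

end Cfsg.Agent.Omega.KL.Comp
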