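import Cfsg.Agent.Omega.KL.CompPG

/-!
# CARD #18791 [A], THEOREM KL, LEMMA COMP (helper969, #21261 (3); helper185, streamlined)

`X` acts on the set `Ω`, `T` Sylow, `x ∈ V ⊆ Ω`, `|V| = 3`; every minimal parabolic `P` over `T` fixes `x` or has orbit `V`
on `x`; `N_X(T)` fixes `x`; `Ls` is an `X`-invariant set of perfect subgroups with trivial centre which commute pairwise, `T` is
transitive on it, `⟨Ls⟩ T = X`. **Then `X` fixes `x` or `|Ls| = 1`.**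
-/

set_option autoImplicit false
set_option linter.unusedSectionVars false
set_option linter.style.haveILetI false

namespace Cfsg.Agent.Omega.KL

open Subgroup Cfsg Cfsg.Agent.StdEven.Syl Cfsg.Agent.MinSimple.MinParabolic

variable {X : Type*} [Group X] {Ω : Type*} [MulAction X Ω]

/-- `g H g⁻¹` -/
def cg (g : X) (H : Subgroup X) : Subgroup X := H.map (MulAut.conj g).toMonoidHom

theorem mem_cg {g a : X} {H : Subgroup X} : a ∈ cg g H ↔ g⁻¹ * a * g ∈ H := by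
  constructor
  · rintro ⟨y, hy, rfl⟩
    have : g⁻¹ * (g * y * g⁻¹) * g = y := by group
    show g⁻¹ * (g * y * g⁻¹) * g ∈ H
    rw [this]; exact hy
  · intro h
    refine ⟨_, h, ?_⟩
    show g * (g⁻¹ * a * g) * g⁻¹ = a
    group

theorem conj_mem_cg {g a : X} {H : Subgroup X} (h : a ∈ H) : g * a * g⁻¹ ∈ cg g H := ⟨a, h, rfl⟩

theorem cg_mul (g k : X) (H : Subgroup X) : cg (g * k) H = cg g (cg k H) := by
  ext a
  rw [mem_cg, mem_cg, mem_cg]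
  have : (g * k)⁻¹ * a * (g * k) = k⁻¹ * (g⁻¹ * a * g) * k := by group
  rw [this]

theorem cg_inv {g : X} {H K : Subgroup X} (h : cg g H = K) : cg g⁻¹ K = H := by
  rw [← h, ← cg_mul, inv_mul_cancel]
  ext a
  rw [mem_cg]
  simp

structure CH (T : Subgroup X) (x : Ω) (V : Set Ω) (Ls : Set (Subgroup X)) : Prop where
  syl : IsSyl T ⊤
  card : V.ncard = 3
  mem : x ∈ V
  U : ∀ P, IsMinPar T P → (∀ g ∈ P, g • x = x) ∨
    ((∀ g ∈ P, ∀ v ∈ V, g • v ∈ V) ∧ ∀ v ∈ V, ∃ g ∈ P, g • x = v)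
  nor : ∀ g ∈ normalizer (T : Set X), g • x = x
  com : ∀ L ∈ Ls, ∀ L' ∈ Ls, L ≠ L' → ∀ a ∈ L, ∀ b ∈ L', a * b = b * a
  cen : ∀ L ∈ Ls, ∀ a ∈ L, (∀ b ∈ L, a * b = b * a) → a = 1
  perf : ∀ L ∈ Ls, L ≤ ⁅L, L⁆
  conj : ∀ L ∈ Ls, ∀ g : X, cg g L ∈ Ls
  trans : ∀ L ∈ Ls, ∀ L' ∈ Ls, ∃ t ∈ T, cg t L = L'
  gen : sSup Ls ⊔ T = ⊤

/-- the others -/
def CC (Ls : Set (Subgroup X)) (L : Subgroup X) : Subgroup X := sSup (Ls \ {L})

/-- products of two subgroups, one normalises the other -/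
theorem exists_mul {A B : Subgroup X} (h : ∀ a ∈ A, ∀ b ∈ B, a * b * a⁻¹ ∈ B) {g : X} (hg : g ∈ A ⊔ B) :
    ∃ a ∈ A, ∃ b ∈ B, a * b = g := by
  let D : Subgroup X :=
    { carrier := {g | ∃ a ∈ A, ∃ b ∈ B, a * b = g}
      mul_mem' := by
        rintro _ _ ⟨a, ha, b, hb, rfl⟩ ⟨c, hc, d, hd, rfl⟩
        refine ⟨a * c, mul_mem ha hc, c⁻¹ * b * c * d, mul_mem ?_ hd, by group⟩
        have := h c⁻¹ (inv_mem hc) b hb
        rwa [inv_inv] at this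
      one_mem' := ⟨1, one_mem _, 1, one_mem _, by group⟩
      inv_mem' := by
        rintro _ ⟨a, ha, b, hb, rfl⟩
        exact ⟨a⁻¹, inv_mem ha, a * b⁻¹ * a⁻¹, h a ha _ (inv_mem hb), by group⟩ }
  have h1 : A ⊔ B ≤ D := sup_le (fun a ha => ⟨a, ha, 1, one_mem _, by group⟩)
    (fun b hb => ⟨1, one_mem _, b, hb, by group⟩)
  exact h1 hg

namespace CH

variable {T : Subgroup X} {x : Ω} {V : Set Ω} {Ls : Set (Subgroup X)} {L L' Y Z Y0 P A : Subgroup X} {a b c g s t y z : X}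
  {v w : Ω}

section NoFin

variable (h : CH T x V Ls)

include h

theorem fixT (ht : t ∈ T) : t • x = x := h.nor t (le_normalizer ht)

theorem CC_comm (hL : L ∈ Ls) (ha : a ∈ L) (hc : c ∈ CC Ls L) : a * c = c * a := by
  have h1 : CC Ls L ≤ centralizer {a} := sSup_le fun M hM b hb => by
    rw [mem_centralizer_singleton_iff]
    exact (h.com L hL M hM.1 (fun e => hM.2 e.symm) a ha b hb).symm
  exact (mem_centralizer_singleton_iff.1 (h1 hc)).symm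

theorem inf_CC (hL : L ∈ Ls) (ha : a ∈ L) (hc : a ∈ CC Ls L) : a = 1 :=
  h.cen L hL a ha fun b hb => (h.CC_comm hL hb hc).symm

omit h in
theorem CC_le : CC Ls L ≤ sSup Ls := sSup_le_sSup Set.sdiff_subset

omit h in
theorem le_CC (hL' : L' ∈ Ls) (hne : L' ≠ L) : L' ≤ CC Ls L := le_sSup ⟨hL', hne⟩

theorem uniq (hL : L ∈ Ls) (ha : a ∈ L) (hc : c ∈ CC Ls L) (hb : b ∈ L) (hg : g ∈ CC Ls L) (he : a * c = b * g) :
    a = b ∧ c = g := by
  have h1 : b⁻¹ * a = g * c⁻¹ := by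
    calc b⁻¹ * a = b⁻¹ * (a * c) * c⁻¹ := by group
      _ = g * c⁻¹ := by rw [he]; group
  have h2 := h.inf_CC hL (mul_mem (inv_mem hb) ha) (by rw [h1]; exact mul_mem hg (inv_mem hc))
  have h3 : a = b := (inv_mul_eq_one.1 h2).symm
  refine ⟨h3, ?_⟩
  rw [h3] at he
  exact mul_left_cancel he

/-- elements of `Y × C` -/
theorem mem_YC (hL : L ∈ Ls) (hY : Y ≤ L) : g ∈ Y ⊔ CC Ls L ↔ ∃ y ∈ Y, ∃ c ∈ CC Ls L, y * c = g := by
  constructor
  · intro hg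
    exact exists_mul (fun a ha b hb => by rw [h.CC_comm hL (hY ha) hb]; simpa using hb) hg
  · rintro ⟨y, hy, c, hc, rfl⟩
    exact mul_mem ((le_sup_left : Y ≤ Y ⊔ CC Ls L) hy) ((le_sup_right : CC Ls L ≤ Y ⊔ CC Ls L) hc)

omit h in
theorem E_le (L : Subgroup X) : sSup Ls ≤ L ⊔ CC Ls L := sSup_le fun M hM => by
  by_cases h1 : M = L
  · rw [h1]; exact le_sup_left
  · exact (le_CC hM h1).trans le_sup_right

theorem mem_E (hL : L ∈ Ls) (hg : g ∈ sSup Ls) : ∃ a ∈ L, ∃ c ∈ CC Ls L, a * c = g :=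
  (h.mem_YC hL le_rfl).1 (E_le L hg)

theorem YC_le_E (hL : L ∈ Ls) (hY : Y ≤ L) : Y ⊔ CC Ls L ≤ sSup Ls := sup_le (hY.trans (le_sSup hL)) CC_le

/-- `Y C ∩ L = Y` -/
theorem mem_of_YC (hL : L ∈ Ls) (hY : Y ≤ L) (hg : g ∈ Y ⊔ CC Ls L) (ha : a ∈ L) (hc : c ∈ CC Ls L)
    (he : a * c = g) : a ∈ Y := by
  obtain ⟨y, hy, d, hd, h1⟩ := (h.mem_YC hL hY).1 hg
  have h2 := (h.uniq hL ha hc (hY hy) hd (he.trans h1.symm)).1
  rw [h2]; exact hy

theorem E_conj (hg : g ∈ sSup Ls) (k : X) : k * g * k⁻¹ ∈ sSup Ls := by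
  have h1 : sSup Ls ≤ cg k⁻¹ (sSup Ls) := sSup_le fun M hM b hb => by
    rw [mem_cg, inv_inv]
    exact (le_sSup (h.conj M hM k) : cg k M ≤ sSup Ls) (conj_mem_cg hb)
  have h2 := h1 hg
  rwa [mem_cg, inv_inv] at h2

theorem CC_conj (hc : c ∈ CC Ls L) (k : X) : k * c * k⁻¹ ∈ CC Ls (cg k L) := by
  have h1 : CC Ls L ≤ cg k⁻¹ (CC Ls (cg k L)) := sSup_le fun M hM b hb => by
    rw [mem_cg, inv_inv]
    refine (le_CC (h.conj M hM.1 k) ?_ : cg k M ≤ CC Ls (cg k L)) (conj_mem_cg hb)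
    intro h3
    apply hM.2
    have h4 := cg_inv h3
    rw [← cg_mul, inv_mul_cancel] at h4
    rw [Set.mem_singleton_iff, ← h4]
    ext a
    rw [mem_cg]
    simp
  have h2 := h1 hc
  rwa [mem_cg, inv_inv] at h2

/-- `E` normalises `L` -/
theorem E_norm (hL : L ∈ Ls) (hg : g ∈ sSup Ls) (ha : a ∈ L) : g * a * g⁻¹ ∈ L := by
  obtain ⟨b, hb, c, hc, rfl⟩ := h.mem_E hL hg
  have h1 : b * c * a * (b * c)⁻¹ = b * a * b⁻¹ := by
    calc b * c * a * (b * c)⁻¹ = b * (c * a) * c⁻¹ * b⁻¹ := by group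
      _ = b * a * b⁻¹ := by rw [← h.CC_comm hL ha hc]; group
  rw [h1]
  exact mul_mem (mul_mem hb ha) (inv_mem hb)

/-- components of an element -/
theorem dec_aux {H : Subgroup X} (Fs : Set (Subgroup X)) (hfin : Fs.Finite) :
    Fs ⊆ Ls → ∀ g, g ∈ sSup Fs → (∀ L ∈ Fs, ∃ a ∈ L, a ∈ H ∧ a⁻¹ * g ∈ CC Ls L) → g ∈ H := by
  induction Fs, hfin using Set.Finite.induction_on with
  | empty =>
    intro _ g hg _
    rw [sSup_empty, mem_bot] at hg
    rw [hg]; exact one_mem _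
  | @insert L Fs hLF _ ih =>
    intro hsub g hg hcomp
    have hL := hsub (Set.mem_insert L Fs)
    have hsub' : Fs ⊆ Ls := (Set.subset_insert L Fs).trans hsub
    have hle : sSup Fs ≤ CC Ls L := sSup_le fun M hM => le_CC (hsub' hM) (fun e => hLF (e ▸ hM))
    rw [sSup_insert] at hg
    obtain ⟨b, hb, g', hg', h1⟩ := exists_mul (fun a ha b hb => by
      rw [h.CC_comm hL ha (hle hb)]; simpa using hb) hg
    obtain ⟨a, ha, haH, h2⟩ := hcomp L (Set.mem_insert L Fs)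
    have h3 : b * g' = a * (a⁻¹ * g) := by rw [h1]; group
    obtain ⟨h4, h5⟩ := h.uniq hL hb (hle hg') ha h2 h3
    have h6 : g' ∈ H := by
      apply ih hsub' g' hg'
      intro M hM
      obtain ⟨m, hm, hmH, h7⟩ := hcomp M (Set.mem_insert_of_mem L hM)
      refine ⟨m, hm, hmH, ?_⟩
      have hne : L ≠ M := fun e => hLF (e ▸ hM)
      have h8 : a ∈ CC Ls M := (le_CC hL hne : L ≤ CC Ls M) ha
      have h9 : m⁻¹ * g' = a⁻¹ * (m⁻¹ * g) := by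
        have h10 := h.CC_comm (hsub' hM) (inv_mem hm) (inv_mem h8)
        calc m⁻¹ * g' = m⁻¹ * a⁻¹ * g := by rw [h5]; group
          _ = a⁻¹ * (m⁻¹ * g) := by rw [h10]; group
      rw [h9]
      exact mul_mem (inv_mem h8) h7
    rw [← h1, h4]
    exact mul_mem haH h6

/-- **decomposition** : an element of `E` all components of which are in `H` is in `H` -/
theorem dec [Finite X] {H : Subgroup X} (hg : g ∈ sSup Ls)
    (hcomp : ∀ L ∈ Ls, ∀ a ∈ L, ∀ c ∈ CC Ls L, a * c = g → a ∈ H) : g ∈ H := by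
  apply h.dec_aux Ls (Set.toFinite _) le_rfl g hg
  intro L hL
  obtain ⟨a, ha, c, hc, h1⟩ := h.mem_E hL hg
  exact ⟨a, ha, hcomp L hL a ha c hc h1, by rw [← h1]; simpa using hc⟩

/-- `pr P` : the projection of `P ∩ E` to `L` -/
def pr (hL : L ∈ Ls) (P : Subgroup X) : Subgroup X where
  carrier := {a | a ∈ L ∧ ∃ c ∈ CC Ls L, a * c ∈ P}
  mul_mem' := by
    rintro a b ⟨ha, c, hc, h1⟩ ⟨hb, d, hd, h2⟩
    refine ⟨mul_mem ha hb, c * d, mul_mem hc hd, ?_⟩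
    have h3 : a * b * (c * d) = (a * c) * (b * d) := by
      calc a * b * (c * d) = a * (b * c) * d := by group
        _ = (a * c) * (b * d) := by rw [h.CC_comm hL hb hc]; group
    rw [h3]
    exact mul_mem h1 h2
  one_mem' := ⟨one_mem _, 1, one_mem _, by rw [one_mul]; exact one_mem _⟩
  inv_mem' := by
    rintro a ⟨ha, c, hc, h1⟩
    refine ⟨inv_mem ha, c⁻¹, inv_mem hc, ?_⟩
    have h3 : a⁻¹ * c⁻¹ = (a * c)⁻¹ := by rw [h.CC_comm hL ha hc]; group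
    rw [h3]
    exact inv_mem h1

theorem mem_pr (hL : L ∈ Ls) : a ∈ h.pr hL P ↔ a ∈ L ∧ ∃ c ∈ CC Ls L, a * c ∈ P := Iff.rfl

theorem pr_le (hL : L ∈ Ls) : h.pr hL P ≤ L := fun _ ha => ha.1

theorem inf_le_pr (hL : L ∈ Ls) : P ⊓ L ≤ h.pr hL P := fun a ha => ⟨ha.2, 1, one_mem _, by rw [mul_one]; exact ha.1⟩

theorem mem_pr_of (hL : L ∈ Ls) (hg : g ∈ P) (ha : a ∈ L) (hc : c ∈ CC Ls L) (he : a * c = g) : a ∈ h.pr hL P :=
  ⟨ha, c, hc, by rw [he]; exact hg⟩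

end NoFin

end CH

end Cfsg.Agent.Omega.KL
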