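import Cfsg.Agent.MinSimple.MinParabolic
import Cfsg.Agent.StdEven.Syl

/-!
# CARD #18791 [A], THEOREM KL (helper969, #21261 (3)): the commutator lemma (PG) for LEMMA COMP

`S ⊴ G`, `S ≤ Y`, `|Y : S|` odd, `T` a 2-group normalising `Y`, all `T`-invariant `Z < Y` over `S` lie in one `Y₀ < Y`:
`[Y, Y] ≤ Y₀`.
-/

set_option autoImplicit false
set_option linter.unusedSectionVars false
set_option linter.style.haveILetI false

namespace Cfsg.Agent.Omega.KL

open Subgroup Cfsg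

theorem map_le_card {G : Type*} [Group G] {Y Z : Subgroup G} {q : ℕ} (D : Sylow q Y)
    (h : (D : Subgroup Y).map Y.subtype ≤ Z) : Nat.card (D : Subgroup Y) ∣ Nat.card Z := by
  have h1 : Nat.card ((D : Subgroup Y).map Y.subtype) = Nat.card (D : Subgroup Y) :=
    (Nat.card_congr ((D : Subgroup Y).equivMapOfInjective Y.subtype Y.subtype_injective).toEquiv).symm
  rw [← h1]
  exact card_dvd_of_le h

/-- (PG) for `S = 1` -/
theorem exists_pgroup {G : Type*} [Group G] [Finite G] {Y T Y0 : Subgroup G} (hodd : ¬ 2 ∣ Nat.card Y)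
    (hT : IsPGroup 2 T) (hinv : ∀ t ∈ T, ∀ y ∈ Y, t * y * t⁻¹ ∈ Y)
    (hY0 : ∀ Z ≤ Y, (∀ t ∈ T, ∀ z ∈ Z, t * z * t⁻¹ ∈ Z) → Z ≠ Y → Z ≤ Y0) (hne : ¬ Y ≤ Y0) :
    ∃ q : ℕ, q.Prime ∧ IsPGroup q Y := by
  haveI : Fact (Nat.Prime 2) := ⟨Nat.prime_two⟩
  by_contra hcon
  push Not at hcon
  apply hne
  have key : ∀ (q : ℕ) [Fact q.Prime], ∀ D : Sylow q Y, Nat.card (D : Subgroup Y) ∣ Nat.card (Y0 ⊓ Y : Subgroup G) := by
    intro q hq D
    obtain ⟨Z, ⟨D', hD'⟩, hZ⟩ := Lib.PGroupCoprimeAction.exists_invariant_sylow hT hodd hinv q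
    have h1 : Z ≤ Y := by
      rw [← hD']
      rintro _ ⟨y, -, rfl⟩
      exact y.2
    have h2 : Z ≠ Y := by
      intro h2
      apply hcon q hq.out
      have h3 : IsPGroup q Z := by rw [← hD']; exact D'.isPGroup'.map _
      rwa [h2] at h3
    have h3 : Z ≤ Y0 ⊓ Y := le_inf (hY0 Z h1 hZ h2) h1
    have h4 := map_le_card D' (Z := Y0 ⊓ Y) (by rw [hD']; exact h3)
    have h5 : Nat.card (D : Subgroup Y) = Nat.card (D' : Subgroup Y) := D.card_eq_multiplicity.trans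
      D'.card_eq_multiplicity.symm
    rwa [h5]
  have hcard : Nat.card Y ∣ Nat.card (Y0 ⊓ Y : Subgroup G) := by
    rw [Nat.dvd_iff_prime_pow_dvd_dvd]
    intro q k hq hk
    haveI : Fact q.Prime := ⟨hq⟩
    obtain ⟨D⟩ : Nonempty (Sylow q Y) := inferInstance
    refine dvd_trans ?_ (key q D)
    rw [D.card_eq_multiplicity]
    exact pow_dvd_pow q ((hq.pow_dvd_iff_le_factorization Nat.card_pos.ne').1 hk)
  have h1 : Y0 ⊓ Y = Y := by
    apply Subgroup.eq_of_le_of_card_ge inf_le_right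
    exact Nat.le_of_dvd Nat.card_pos hcard
  rw [← h1]
  exact inf_le_left

/-- (PG) for `S = 1` -/
theorem comm_le_aux {G : Type*} [Group G] [Finite G] {Y T Y0 : Subgroup G} (hodd : ¬ 2 ∣ Nat.card Y)
    (hT : IsPGroup 2 T) (hinv : ∀ t ∈ T, ∀ y ∈ Y, t * y * t⁻¹ ∈ Y)
    (hY0 : ∀ Z ≤ Y, (∀ t ∈ T, ∀ z ∈ Z, t * z * t⁻¹ ∈ Z) → Z ≠ Y → Z ≤ Y0) (hne : ¬ Y ≤ Y0) :
    ⁅Y, Y⁆ ≤ Y0 := by
  obtain ⟨q, hq, hp⟩ := exists_pgroup hodd hT hinv hY0 hne
  haveI : Fact q.Prime := ⟨hq⟩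
  apply hY0
  · rw [commutator_le]
    intro a ha b hb
    exact mul_mem (mul_mem (mul_mem ha hb) (inv_mem ha)) (inv_mem hb)
  · intro t ht z hz
    have h1 : Y.map (MulAut.conj t).toMonoidHom ≤ Y := by
      rintro _ ⟨y, hy, rfl⟩
      exact hinv t ht y hy
    have h2 : (⁅Y, Y⁆).map (MulAut.conj t).toMonoidHom ≤ ⁅Y, Y⁆ := by
      rw [map_commutator]
      exact commutator_mono h1 h1
    exact h2 ⟨z, hz, rfl⟩
  · intro h1
    have hnt : Nontrivial Y := by
      by_contra h2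
      rw [not_nontrivial_iff_subsingleton] at h2
      apply hne
      intro y hy
      have h3 : (⟨y, hy⟩ : Y) = 1 := Subsingleton.elim _ _
      have h4 : y = 1 := congrArg Subtype.val h3
      rw [h4]
      exact one_mem _
    haveI : Group.IsNilpotent Y := hp.isNilpotent
    have h2 := Group.IsSolvable.commutator_lt_top_of_nontrivial Y
    apply h2.ne
    rw [eq_top_iff]
    intro y _
    have h3 : (y : G) ∈ ⁅Y, Y⁆ := by rw [h1]; exact y.2
    have h4 : (_root_.commutator Y).map Y.subtype = ⁅Y, Y⁆ := map_subtype_commutator Y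
    rw [← h4] at h3
    obtain ⟨y', hy', h5⟩ := h3
    have h6 : y' = y := Subtype.ext h5
    rw [← h6]
    exact hy'

/-- **(PG)** -/
theorem comm_le {G : Type*} [Group G] [Finite G] {S Y T Y0 : Subgroup G} [hS : S.Normal] (hSY : S ≤ Y)
    (hodd : ¬ 2 ∣ S.relIndex Y) (hT : IsPGroup 2 T) (hinv : ∀ t ∈ T, ∀ y ∈ Y, t * y * t⁻¹ ∈ Y)
    (hY0 : ∀ Z ≤ Y, S ≤ Z → (∀ t ∈ T, ∀ z ∈ Z, t * z * t⁻¹ ∈ Z) → Z ≠ Y → Z ≤ Y0) (hne : ¬ Y ≤ Y0)
    (hS0 : S ≤ Y0) : ⁅Y, Y⁆ ≤ Y0 := by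
  have hker : ∀ {Z : Subgroup G}, S ≤ Z → (Z.map (QuotientGroup.mk' S)).comap (QuotientGroup.mk' S) = Z := by
    intro Z hZ
    rw [comap_map_eq, QuotientGroup.ker_mk']
    exact sup_eq_left.2 hZ
  have h1 : ⁅Y.map (QuotientGroup.mk' S), Y.map (QuotientGroup.mk' S)⁆ ≤ Y0.map (QuotientGroup.mk' S) := by
    apply comm_le_aux (T := T.map (QuotientGroup.mk' S))
    · have h2 : Nat.card (Y.map (QuotientGroup.mk' S)) = S.relIndex Y := by
        have h3 := Subgroup.relIndex_map_map (QuotientGroup.mk' S) S Y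
        rw [QuotientGroup.map_mk'_self, relIndex_bot_left, QuotientGroup.ker_mk', sup_idem,
          sup_eq_left.2 hSY] at h3
        exact h3
      rw [h2]
      exact hodd
    · exact hT.map _
    · rintro _ ⟨t, ht, rfl⟩ _ ⟨y, hy, rfl⟩
      exact ⟨t * y * t⁻¹, hinv t ht y hy, by simp⟩
    · intro Z hZ hZi hne'
      have h2 : Z.comap (QuotientGroup.mk' S) ≤ Y0 := by
        apply hY0
        · rw [← hker hSY]
          exact comap_mono hZ
        · intro s hs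
          rw [mem_comap]
          have h3 : (QuotientGroup.mk' S) s = 1 := (QuotientGroup.eq_one_iff s).2 hs
          rw [h3]
          exact one_mem _
        · intro t ht z hz
          rw [mem_comap] at hz ⊢
          rw [map_mul, map_mul, map_inv]
          exact hZi _ ⟨t, ht, rfl⟩ _ hz
        · intro h3
          apply hne'
          rw [← h3, map_comap_eq_self_of_surjective (QuotientGroup.mk'_surjective _)]
      rw [← map_comap_eq_self_of_surjective (QuotientGroup.mk'_surjective S) Z]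
      exact map_mono h2
    · intro h2
      apply hne
      rw [← hker hSY, ← hker hS0]
      exact comap_mono h2
  rw [← map_commutator] at h1
  have h2 := comap_mono (f := QuotientGroup.mk' S) h1
  rw [hker hS0] at h2
  exact (le_comap_map _ _).trans h2

end Cfsg.Agent.Omega.KL
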