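import Cfsg.Agent.Omega.KL.CompBase

/-!
# CARD #18791 [A], THEOREM KL, LEMMA COMP : the Sylow facts, `Y*`, the movers (helper185)
-/

set_option autoImplicit false
set_option linter.unusedSectionVars false
set_option linter.unusedVariables false
set_option linter.style.haveILetI false

namespace Cfsg.Agent.Omega.KL

open Subgroup Cfsg Cfsg.Agent.StdEven.Syl Cfsg.Agent.MinSimple.MinParabolic

open scoped Pointwise

variable {X : Type*} [Group X] {Ω : Type*} [MulAction X Ω]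

/-- a point of a 3-set -/
theorem third {V : Set Ω} (hV : V.ncard = 3) {a b c d : Ω} (ha : a ∈ V) (hb : b ∈ V) (hc : c ∈ V) (hd : d ∈ V)
    (hab : a ≠ b) (hac : a ≠ c) (hbc : b ≠ c) : d = a ∨ d = b ∨ d = c := by
  have hfin : V.Finite := Set.finite_of_ncard_ne_zero (by rw [hV]; norm_num)
  have h1 : ({a, b, c} : Set Ω) ⊆ V := by
    intro z hz
    simp only [Set.mem_insert_iff, Set.mem_singleton_iff] at hz
    rcases hz with rfl | rfl | rfl <;> assumption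
  have h2 : ({a, b, c} : Set Ω).ncard = 3 := Set.ncard_eq_three.2 ⟨a, b, c, hab, hac, hbc, rfl⟩
  have h3 : ({a, b, c} : Set Ω) = V := Set.eq_of_subset_of_ncard_le h1 (by rw [hV, h2]) hfin
  rw [← h3] at hd
  simpa using hd

/-- `A T` for `T`-invariant `A` -/
theorem exists_mul_T {A T : Subgroup X} (hA : ∀ t ∈ T, ∀ a ∈ A, t * a * t⁻¹ ∈ A) {g : X} (hg : g ∈ A ⊔ T) :
    ∃ a ∈ A, ∃ t ∈ T, a * t = g := by
  rw [sup_comm] at hg
  obtain ⟨t, ht, a, ha, h1⟩ := exists_mul hA hg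
  exact ⟨t * a * t⁻¹, hA t ht a ha, t, ht, by rw [← h1]; group⟩

namespace CH

variable {T : Subgroup X} {x : Ω} {V : Set Ω} {Ls : Set (Subgroup X)} {L L' Y Z Y0 P A : Subgroup X} {a b c g s t y z : X}
  {v w : Ω}

/-- `Y*` -/
def st (T : Subgroup X) (Ls : Set (Subgroup X)) (L Y : Subgroup X) : Subgroup X where
  carrier := {g | ∀ t ∈ T, t⁻¹ * g * t ∈ Y ⊔ CC Ls L}
  mul_mem' := by
    intro a b ha hb t ht
    have : t⁻¹ * (a * b) * t = (t⁻¹ * a * t) * (t⁻¹ * b * t) := by group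
    rw [this]
    exact mul_mem (ha t ht) (hb t ht)
  one_mem' := by
    intro t ht
    have : t⁻¹ * 1 * t = 1 := by group
    rw [this]
    exact one_mem _
  inv_mem' := by
    intro a ha t ht
    have : t⁻¹ * a⁻¹ * t = (t⁻¹ * a * t)⁻¹ := by group
    rw [this]
    exact inv_mem (ha t ht)

theorem mem_st : g ∈ st T Ls L Y ↔ ∀ t ∈ T, t⁻¹ * g * t ∈ Y ⊔ CC Ls L := Iff.rfl

theorem st_conj (ht : t ∈ T) (hg : g ∈ st T Ls L Y) : t * g * t⁻¹ ∈ st T Ls L Y := by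
  intro s hs
  have h1 := hg (t⁻¹ * s) (mul_mem (inv_mem ht) hs)
  have h2 : (t⁻¹ * s)⁻¹ * g * (t⁻¹ * s) = s⁻¹ * (t * g * t⁻¹) * s := by group
  rwa [h2] at h1

theorem st_le : st T Ls L Y ≤ Y ⊔ CC Ls L := by
  intro g hg
  have h1 := hg 1 (one_mem _)
  simpa using h1

theorem st_mono (h : Y ≤ Z) : st T Ls L Y ≤ st T Ls L Z := fun g hg t ht =>
  (sup_le_sup_right h (CC Ls L) : Y ⊔ CC Ls L ≤ Z ⊔ CC Ls L) (hg t ht)

/-- `Y` is invariant under `N_T(L)` -/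
def Inv (T L Y : Subgroup X) : Prop := ∀ t ∈ T, cg t L = L → ∀ y ∈ Y, t * y * t⁻¹ ∈ Y

section NoFin

variable (h : CH T x V Ls)

include h

theorem st_le_E (hL : L ∈ Ls) (hY : Y ≤ L) : st T Ls L Y ≤ sSup Ls := st_le.trans (h.YC_le_E hL hY)

theorem st_inf (hL : L ∈ Ls) (hY : Y ≤ L) (hg : g ∈ st T Ls L Y) (hgL : g ∈ L) : g ∈ Y :=
  h.mem_of_YC hL hY (st_le hg) hgL (one_mem (CC Ls L)) (mul_one g)

theorem st_comp (hL : L ∈ Ls) (hY : Y ≤ L) (hg : g ∈ st T Ls L Y) (ha : a ∈ L) (hc : c ∈ CC Ls L) (he : a * c = g) :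
    a ∈ Y := h.mem_of_YC hL hY (st_le hg) ha hc he

/-- `Y ≤ Y*` -/
theorem le_st (hL : L ∈ Ls) (hY : Y ≤ L) (hi : Inv T L Y) : Y ≤ st T Ls L Y := by
  intro y hy t ht
  by_cases h1 : cg t⁻¹ L = L
  · have h2 := hi t⁻¹ (inv_mem ht) h1 y hy
    rw [inv_inv] at h2
    exact (le_sup_left : Y ≤ Y ⊔ CC Ls L) h2
  · have h2 : t⁻¹ * y * t⁻¹⁻¹ ∈ cg t⁻¹ L := conj_mem_cg (hY hy)
    rw [inv_inv] at h2
    exact (le_sup_right : CC Ls L ≤ Y ⊔ CC Ls L) (le_CC (h.conj L hL t⁻¹) h1 h2)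

/-- `[Y*, Y*] ≤ Y₀*` -/
theorem st_comm (hL : L ∈ Ls) (hY : Y ≤ L) (hYY : ∀ a ∈ Y, ∀ b ∈ Y, a * b * a⁻¹ * b⁻¹ ∈ Y0)
    (ha : a ∈ st T Ls L Y) (hb : b ∈ st T Ls L Y) : a * b * a⁻¹ * b⁻¹ ∈ st T Ls L Y0 := by
  intro t ht
  obtain ⟨y, hy, c, hc, h1⟩ := (h.mem_YC hL hY).1 (ha t ht)
  obtain ⟨z, hz, d, hd, h2⟩ := (h.mem_YC hL hY).1 (hb t ht)
  have h3 : t⁻¹ * (a * b * a⁻¹ * b⁻¹) * t = (y * z * y⁻¹ * z⁻¹) * (c * d * c⁻¹ * d⁻¹) := by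
    have e1 : y * c = c * y := h.CC_comm hL (hY hy) hc
    have e2 : z * c = c * z := h.CC_comm hL (hY hz) hc
    have e3 : y⁻¹ * d = d * y⁻¹ := h.CC_comm hL (inv_mem (hY hy)) hd
    have e4 : z⁻¹ * (c * d * c⁻¹ * d⁻¹) = (c * d * c⁻¹ * d⁻¹) * z⁻¹ :=
      h.CC_comm hL (inv_mem (hY hz)) (mul_mem (mul_mem (mul_mem hc hd) (inv_mem hc)) (inv_mem hd))
    have e5 : y⁻¹ * (c * d * c⁻¹) = (c * d * c⁻¹) * y⁻¹ :=
      h.CC_comm hL (inv_mem (hY hy)) (mul_mem (mul_mem hc hd) (inv_mem hc))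
    calc t⁻¹ * (a * b * a⁻¹ * b⁻¹) * t
        = (t⁻¹ * a * t) * (t⁻¹ * b * t) * (t⁻¹ * a * t)⁻¹ * (t⁻¹ * b * t)⁻¹ := by group
      _ = (y * c) * (z * d) * (y * c)⁻¹ * (z * d)⁻¹ := by rw [h1, h2]
      _ = y * (c * z) * d * c⁻¹ * y⁻¹ * d⁻¹ * z⁻¹ := by group
      _ = y * z * ((c * d * c⁻¹) * y⁻¹) * d⁻¹ * z⁻¹ := by rw [← e2]; group
      _ = y * z * y⁻¹ * ((c * d * c⁻¹ * d⁻¹) * z⁻¹) := by rw [← e5]; group
      _ = (y * z * y⁻¹ * z⁻¹) * (c * d * c⁻¹ * d⁻¹) := by rw [← e4]; group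
  rw [h3]
  exact mul_mem ((le_sup_left : Y0 ≤ Y0 ⊔ CC Ls L) (hYY y hy z hz))
    ((le_sup_right : CC Ls L ≤ Y0 ⊔ CC Ls L) (mul_mem (mul_mem (mul_mem hc hd) (inv_mem hc)) (inv_mem hd)))

/-- `Y₀` fixes `x` : `Y₀*` fixes `x` -/
theorem st_fix [Finite X] (hL : L ∈ Ls) (hY : Y ≤ L) (hfix : ∀ y ∈ Y, y • x = x) (hg : g ∈ st T Ls L Y) : g • x = x := by
  have h1 : g ∈ MulAction.stabilizer X x := by
    apply h.dec (h.st_le_E hL hY hg)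
    intro M hM a ha c hc h2
    obtain ⟨t, ht, h3⟩ := h.trans L hL M hM
    have h4 : cg t⁻¹ M = L := cg_inv h3
    have h5 : t⁻¹ * a * t⁻¹⁻¹ ∈ L := by rw [← h4]; exact conj_mem_cg ha
    have h6 : t⁻¹ * c * t⁻¹⁻¹ ∈ CC Ls L := by
      have := h.CC_conj hc t⁻¹
      rwa [h4] at this
    rw [inv_inv] at h5 h6
    have h7 : t⁻¹ * a * t ∈ Y := h.mem_of_YC hL hY (hg t ht) h5 h6 (by rw [← h2]; group)
    have h8 := hfix _ h7
    rw [MulAction.mem_stabilizer_iff]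
    calc a • x = t • (t⁻¹ * a * t) • t⁻¹ • x := by rw [← mul_smul, ← mul_smul]; congr 1; group
      _ = x := by rw [h.fixT (inv_mem ht), h8, h.fixT ht]
  exact h1

omit h in
theorem mem_stV [hfin : Fact (V.ncard = 3)] : g ∈ MulAction.stabilizer X V ↔ ∀ v ∈ V, g • v ∈ V := by
  have h1 : V.Finite := Set.finite_of_ncard_ne_zero (by rw [hfin.out]; norm_num)
  rw [MulAction.mem_stabilizer_set_iff_smul_set_subset h1]
  constructor
  · intro h2 v hv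
    exact h2 ⟨v, hv, rfl⟩
  · rintro h2 _ ⟨v, hv, rfl⟩
    exact h2 v hv

omit h in
theorem stV_mem (hg : g ∈ MulAction.stabilizer X V) (hv : v ∈ V) : g • v ∈ V := by
  rw [MulAction.mem_stabilizer_iff] at hg
  have h1 : g • v ∈ g • V := Set.smul_mem_smul_set hv
  rwa [hg] at h1

theorem mem_stV' : g ∈ MulAction.stabilizer X V ↔ ∀ v ∈ V, g • v ∈ V :=
  haveI : Fact (V.ncard = 3) := ⟨h.card⟩
  mem_stV

/-- a mover preserves `V` -/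
theorem mover_le (hP : IsMinPar T P) (hm : ∃ g ∈ P, g • x ≠ x) : P ≤ MulAction.stabilizer X V := by
  rcases h.U P hP with h1 | ⟨h1, -⟩
  · obtain ⟨g, hg, h2⟩ := hm
    exact absurd (h1 g hg) h2
  · intro g hg
    exact h.mem_stV'.2 fun v hv => h1 g hg v hv

theorem mover_trans (hP : IsMinPar T P) (hm : ∃ g ∈ P, g • x ≠ x) (hv : v ∈ V) : ∃ g ∈ P, g • x = v := by
  rcases h.U P hP with h1 | ⟨-, h1⟩
  · obtain ⟨g, hg, h2⟩ := hm
    exact absurd (h1 g hg) h2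
  · exact h1 v hv

theorem T_norm (hg : g ∈ A) (ht : t ∈ T) (hTA : T ≤ A) : t * g * t⁻¹ ∈ A :=
  mul_mem (mul_mem (hTA ht) hg) (inv_mem (hTA ht))

/-- a mover in `A T` -/
theorem exists_mover [Finite X] (hA : ∀ t ∈ T, ∀ a ∈ A, t * a * t⁻¹ ∈ A) (hm : ∃ a ∈ A, a • x ≠ x) :
    ∃ P, IsMinPar T P ∧ P ≤ A ⊔ T ∧ ∃ g ∈ P, g • x ≠ x := by
  by_contra hcon
  push Not at hcon
  have h1 : A ⊔ T ≤ MulAction.stabilizer X x := by
    apply le_of_forall (S := T) le_sup_right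
    · intro g hg
      exact h.nor g hg.2
    · intro P hP hPA g hg
      exact hcon P hP hPA g hg
  obtain ⟨a, ha, h2⟩ := hm
  exact h2 (h1 ((le_sup_left : A ≤ A ⊔ T) ha))

/-- the orbit of `x` under `P ∩ A` is `V` -/
theorem mover_elt (hA : ∀ t ∈ T, ∀ a ∈ A, t * a * t⁻¹ ∈ A) (hP : IsMinPar T P) (hPA : P ≤ A ⊔ T)
    (hm : ∃ g ∈ P, g • x ≠ x) (hv : v ∈ V) : ∃ a ∈ A, a ∈ P ∧ a • x = v := by
  obtain ⟨g, hg, h1⟩ := h.mover_trans hP hm hv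
  obtain ⟨a, ha, t, ht, h2⟩ := exists_mul_T hA (hPA hg)
  have h3 : a = g * t⁻¹ := by rw [← h2]; group
  refine ⟨a, ha, ?_, ?_⟩
  · rw [h3]; exact mul_mem hg (inv_mem (hP.le ht))
  · rw [h3, mul_smul, h.fixT (inv_mem ht), h1]

theorem exists_elt [Finite X] (hA : ∀ t ∈ T, ∀ a ∈ A, t * a * t⁻¹ ∈ A) (hm : ∃ a ∈ A, a • x ≠ x) (hv : v ∈ V) :
    ∃ a ∈ A, a • x = v := by
  obtain ⟨P, hP, hPA, hm'⟩ := h.exists_mover hA hm
  obtain ⟨a, ha, -, h1⟩ := h.mover_elt hA hP hPA hm' hv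
  exact ⟨a, ha, h1⟩

theorem gen' (g : X) : ∃ e ∈ sSup Ls, ∃ t ∈ T, e * t = g :=
  exists_mul_T (fun t _ a ha => h.E_conj ha t) (by rw [h.gen]; exact mem_top g)

/-- `T` preserves `V` -/
theorem T_le_stV [Finite X] (hx : ∃ g : X, g • x ≠ x) : T ≤ MulAction.stabilizer X V := by
  obtain ⟨g, hg⟩ := hx
  obtain ⟨P, hP, -, hm⟩ := h.exists_mover (A := ⊤) (fun _ _ _ _ => mem_top _) ⟨g, mem_top g, hg⟩
  exact hP.le.trans (h.mover_le hP hm)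

/-- **(G)** -/
theorem le_stV [Finite X] (hx : ∃ g : X, g • x ≠ x) (hA : ∀ t ∈ T, ∀ a ∈ A, t * a * t⁻¹ ∈ A)
    (hW : ∀ W ≤ A, (∀ w ∈ W, w • x = x) → W ≤ MulAction.stabilizer X V) : A ≤ MulAction.stabilizer X V := by
  have hR : ∀ R : Subgroup X, T ≤ R → R ≤ A ⊔ T → (∀ g ∈ R, g • x = x) → R ≤ MulAction.stabilizer X V := by
    intro R hTR hRA hfix g hg
    obtain ⟨a, ha, t, ht, h2⟩ := exists_mul_T hA (hRA hg)
    have h3 : a ∈ R := by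
      have : a = g * t⁻¹ := by rw [← h2]; group
      rw [this]; exact mul_mem hg (inv_mem (hTR ht))
    rw [← h2]
    exact mul_mem (hW (R ⊓ A) inf_le_right (fun w hw => hfix w hw.1) ⟨h3, ha⟩) (h.T_le_stV hx ht)
  refine le_trans le_sup_left (le_of_forall (S := T) (X := A ⊔ T) le_sup_right ?_ ?_)
  · exact hR _ (le_inf le_sup_right le_normalizer) inf_le_left fun g hg => h.nor g hg.2
  · intro P hP hPA
    by_cases hm : ∃ g ∈ P, g • x ≠ x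
    · exact h.mover_le hP hm
    · push Not at hm
      exact hR P hP.le hPA hm

end NoFin

section Fin

variable [Finite X] (h : CH T x V Ls)

include h

theorem sylE : IsSyl (T ⊓ sSup Ls) (sSup Ls) :=
  h.syl.inf_normal le_top fun g _ => mem_normalizer_of_conj_le fun a ha => h.E_conj ha g

theorem sylL (hL : L ∈ Ls) : IsSyl (T ⊓ L) L := by
  have h1 := h.sylE.inf_normal (le_sSup hL) fun g hg => mem_normalizer_of_conj_le fun a ha => h.E_norm hL hg ha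
  have h2 : T ⊓ sSup Ls ⊓ L = T ⊓ L := by
    rw [inf_assoc, inf_eq_right.2 (le_sSup hL)]
  rwa [h2] at h1

theorem prT (hL : L ∈ Ls) : h.pr hL T = T ⊓ L := by
  apply (h.sylL hL).max
  · rw [IsPGroup]
    rintro ⟨a, ha, c, hc, hac⟩
    obtain ⟨k, hk⟩ := h.syl.two ⟨a * c, hac⟩
    refine ⟨k, Subtype.ext ?_⟩
    have h1 : (a * c) ^ 2 ^ k = 1 := congrArg Subtype.val hk
    have h2 : Commute a c := h.CC_comm hL ha hc
    rw [h2.mul_pow] at h1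
    show a ^ 2 ^ k = 1
    apply h.inf_CC hL (pow_mem ha _)
    have h3 : a ^ 2 ^ k = (c ^ 2 ^ k)⁻¹ := eq_inv_of_mul_eq_one_left h1
    rw [h3]
    exact inv_mem (pow_mem hc _)
  · exact h.pr_le hL
  · exact h.inf_le_pr hL

theorem TE_comp (hL : L ∈ Ls) (hg : g ∈ T) (ha : a ∈ L) (hc : c ∈ CC Ls L) (he : a * c = g) : a ∈ T ⊓ L := by
  rw [← h.prT hL]
  exact h.mem_pr_of hL hg ha hc he

/-- `T ∩ E ≤ Y*` -/
theorem TE_le_st (hL : L ∈ Ls) (hY : T ⊓ L ≤ Y) : T ⊓ sSup Ls ≤ st T Ls L Y := by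
  rintro g ⟨hg, hgE⟩ t ht
  have h1 : t⁻¹ * g * t ∈ sSup Ls := by
    have := h.E_conj hgE t⁻¹
    rwa [inv_inv] at this
  obtain ⟨a, ha, c, hc, h2⟩ := h.mem_E hL h1
  rw [← h2]
  exact mul_mem ((le_sup_left : Y ≤ Y ⊔ CC Ls L) (hY (h.TE_comp hL (mul_mem (mul_mem (inv_mem ht) hg) ht) ha hc h2)))
    ((le_sup_right : CC Ls L ≤ Y ⊔ CC Ls L) hc)

end Fin

end CH

end Cfsg.Agent.Omega.KL
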