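import Cfsg.Agent.Omega.KL.CompSt
import Cfsg.Agent.Omega.KL.CompPG

/-!
# CARD #18791 [A], THEOREM KL (helper969, #21261 (3)), LEMMA COMP (helper185)

`CH.main` : `X` acts on the set `Ω`, `T` Sylow, `x ∈ V ⊆ Ω`, `|V| = 3`; every minimal parabolic `P` over `T` fixes `x` or has
orbit `V` on `x`; `N_X(T)` fixes `x`; `Ls` is an `X`-invariant set of perfect subgroups with trivial centre which commute
pairwise, `T` is transitive on it, `⟨Ls⟩ T = X`. **Then `X` fixes `x` or `|Ls| ≤ 1`.**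
-/

set_option autoImplicit false
set_option linter.unusedSectionVars false
set_option linter.unusedVariables false
set_option linter.style.haveILetI false

namespace Cfsg.Agent.Omega.KL

open Subgroup Cfsg Cfsg.Agent.StdEven.Syl Cfsg.Agent.MinSimple.MinParabolic

open scoped Pointwise

variable {X : Type*} [Group X] {Ω : Type*} [MulAction X Ω]

namespace CH

variable {T : Subgroup X} {x : Ω} {V : Set Ω} {Ls : Set (Subgroup X)} {L L' Y Z Y0 P A : Subgroup X} {a b c g s t y z : X}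
  {v w : Ω}

variable [Finite X] (h : CH T x V Ls)

include h

/-- (3.1) (a) : `T ∩ L` fixes `V` pointwise -/
theorem TL_fix (hL : L ∈ Ls) (hL' : L' ∈ Ls) (hne : L' ≠ L) (hx : ∃ g : X, g • x ≠ x) (hs : s ∈ T ⊓ L) (hv : v ∈ V) :
    s • v = v := by
  by_contra hsv
  obtain ⟨t, ht, h1⟩ := h.trans L hL L' hL'
  have hTV := h.T_le_stV hx
  have hsV := hTV hs.1
  have htV := hTV ht
  have hvx : v ≠ x := fun e => hsv (by rw [e]; exact h.fixT hs.1)
  have hwV : s • v ∈ V := stV_mem hsV hv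
  have hwx : s • v ≠ x := fun e => hvx (by
    have : v = s⁻¹ • s • v := (inv_smul_smul s v).symm
    rw [this, e]; exact h.fixT (inv_mem hs.1))
  -- the third point
  have h3 : ∀ u ∈ V, u ≠ x → u = v ∨ u = s • v := by
    intro u hu hux
    rcases third h.card h.mem hv hwV hu hvx.symm hwx.symm (Ne.symm hsv) with h4 | h4
    · exact absurd h4 hux
    · exact h4
  have hssv : s • s • v = v := by
    rcases h3 (s • s • v) (stV_mem hsV hwV) (fun e => hwx (by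
      have : s • v = s⁻¹ • s • s • v := (inv_smul_smul s _).symm
      rw [this, e]; exact h.fixT (inv_mem hs.1))) with h4 | h4
    · exact h4
    · exact absurd (smul_left_cancel s h4) hsv
  have htx : ∀ u ∈ V, u ≠ x → t • u ≠ x := fun u _ hux e => hux (by
    have : u = t⁻¹ • t • u := (inv_smul_smul t u).symm
    rw [this, e]; exact h.fixT (inv_mem ht))
  -- s' = t s t⁻¹ moves v to s v
  have hs' : (t * s * t⁻¹) • v = s • v := by
    have h5 : t • v = v ∨ t • v = s • v := h3 _ (stV_mem htV hv) (htx v hv hvx)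
    have h6 : t • s • v = v ∨ t • s • v = s • v := h3 _ (stV_mem htV hwV) (htx _ hwV hwx)
    rcases h5 with h5 | h5
    · have h7 : t⁻¹ • v = v := by rw [inv_smul_eq_iff]; exact h5.symm
      rw [mul_smul, mul_smul, h7]
      rcases h6 with h6 | h6
      · exact absurd (smul_left_cancel t (h6.trans h5.symm)) hsv
      · exact h6
    · have h6' : t • s • v = v := by
        rcases h6 with h6 | h6
        · exact h6
        · exact absurd (smul_left_cancel t (h6.trans h5.symm)) hsv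
      have h7 : t⁻¹ • v = s • v := by rw [inv_smul_eq_iff]; exact h6'.symm
      rw [mul_smul, mul_smul, h7, hssv, h5]
  -- e ∈ P ∩ E, e x = v
  obtain ⟨P, hP, hPE, hm⟩ := h.exists_mover (A := sSup Ls) (fun t _ a ha => h.E_conj ha t) (by
    by_contra hcon
    push Not at hcon
    obtain ⟨g, hg⟩ := hx
    obtain ⟨e, he, t, ht, h8⟩ := h.gen' g
    apply hg
    rw [← h8, mul_smul, h.fixT ht, hcon e he])
  obtain ⟨e, he, heP, hev⟩ := h.mover_elt (fun t _ a ha => h.E_conj ha t) hP hPE hm hv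
  have heV := h.mover_le hP hm heP
  -- k = e s e⁻¹ ∈ L fixes v
  have hkL : e * s * e⁻¹ ∈ L := h.E_norm hL he hs.2
  have hkv : (e * s * e⁻¹) • v = v := by
    have : e⁻¹ • v = x := by rw [inv_smul_eq_iff]; exact hev.symm
    rw [mul_smul, mul_smul, this, h.fixT hs.1, hev]
  have hs'L : t * s * t⁻¹ ∈ L' := by rw [← h1]; exact conj_mem_cg hs.2
  have hcomm := h.com L hL L' hL' (Ne.symm hne) _ hkL _ hs'L
  have hkw : (e * s * e⁻¹) • s • v = s • v := by
    rw [← hs', ← mul_smul, hcomm, mul_smul, hkv]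
  have hkV : e * s * e⁻¹ ∈ MulAction.stabilizer X V := mul_mem (mul_mem heV hsV) (inv_mem heV)
  have hkx : (e * s * e⁻¹) • x = x := by
    rcases third h.card h.mem hv hwV (stV_mem hkV h.mem) hvx.symm hwx.symm (Ne.symm hsv) with h4 | h4 | h4
    · exact h4
    · exact absurd (smul_left_cancel (e * s * e⁻¹) (h4.trans hkv.symm)) hvx.symm
    · exact absurd (smul_left_cancel (e * s * e⁻¹) (h4.trans hkw.symm)) hwx.symm
  have hk : ∀ u ∈ V, (e * s * e⁻¹) • u = u := by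
    intro u hu
    rcases third h.card h.mem hv hwV hu hvx.symm hwx.symm (Ne.symm hsv) with h4 | h4 | h4
    · rw [h4]; exact hkx
    · rw [h4]; exact hkv
    · rw [h4]; exact hkw
  apply hsv
  have h9 := hk (e • v) (stV_mem heV hv)
  rw [mul_smul, mul_smul, inv_smul_smul] at h9
  exact smul_left_cancel e h9

/-- (3.1) (b) : the elements of `E` in a mover normalise `T ∩ L` -/
theorem mover_norm (hL : L ∈ Ls) (hL' : L' ∈ Ls) (hne : L' ≠ L) (hP : IsMinPar T P) (hm : ∃ g ∈ P, g • x ≠ x)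
    (hg : g ∈ P) (hgE : g ∈ sSup Ls) (hs : s ∈ T ⊓ L) : g * s * g⁻¹ ∈ T ⊓ L := by
  haveI : Fact (Nat.Prime 2) := ⟨Nat.prime_two⟩
  have hx : ∃ g : X, g • x ≠ x := by
    obtain ⟨g, -, h1⟩ := hm
    exact ⟨g, h1⟩
  have hPV := h.mover_le hP hm
  -- the pointwise stabiliser of `V` in `P`
  let N : Subgroup X :=
    { carrier := {g | g ∈ P ∧ ∀ v ∈ V, g • v = v}
      mul_mem' := fun {a b} ha hb => ⟨mul_mem ha.1 hb.1, fun v hv => by rw [mul_smul, hb.2 v hv, ha.2 v hv]⟩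
      one_mem' := ⟨one_mem _, fun v _ => one_smul _ v⟩
      inv_mem' := fun {a} ha => ⟨inv_mem ha.1, fun v hv => by rw [inv_smul_eq_iff]; exact (ha.2 v hv).symm⟩ }
  have hN : ∀ n, n ∈ N ↔ n ∈ P ∧ ∀ v ∈ V, n • v = v := fun n => Iff.rfl
  have hNP : N ≤ P := fun n hn => hn.1
  have hPN : P ≤ normalizer (N : Set X) := by
    intro p hp
    apply mem_normalizer_of_conj_le
    intro n hn
    refine ⟨mul_mem (mul_mem hp hn.1) (inv_mem hp), fun v hv => ?_⟩
    rw [mul_smul, mul_smul, hn.2 _ (stV_mem (inv_mem (hPV hp)) hv), smul_inv_smul]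
  have hodd : ¬ 2 ∣ T.relIndex P := by
    have h1 := (h.syl.mono hP.le le_top).odd_relIndex
    rw [← Nat.not_even_iff_odd, even_iff_two_dvd] at h1
    exact h1
  rcases hP.sup_eq_or_inf_le (p := 2) h.syl.two hodd hNP hPN with h1 | h1
  · exfalso
    obtain ⟨g, hg, h2⟩ := hm
    have h3 : P ≤ MulAction.stabilizer X x := by
      rw [← h1]
      exact sup_le (fun n hn => hn.2 x h.mem) (fun t ht => h.fixT ht)
    exact h2 (h3 hg)
  · have h2 : s ∈ (pCore 2 P).map P.subtype := h1 ⟨hs.1, hP.le hs.1, fun v hv => h.TL_fix hL hL' hne hx hs hv⟩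
    obtain ⟨s', hs', h3⟩ := h2
    have h4 : (⟨g, hg⟩ : P) * s' * (⟨g, hg⟩ : P)⁻¹ ∈ pCore 2 P := (inferInstance : (pCore 2 P).Normal).conj_mem s' hs' _
    have h5 : g * s * g⁻¹ ∈ (pCore 2 P).map P.subtype := ⟨_, h4, by rw [← h3]; rfl⟩
    have h6 : (pCore 2 P).map P.subtype ≤ T := by
      rintro _ ⟨q, hq, rfl⟩
      have h7 := Lib.Cores.pCore_le_sylow (h.syl.mono hP.le le_top).toSylow hq
      rw [IsSyl.coe_toSylow] at h7
      exact h7
    exact ⟨h6 h5, h.E_norm hL hgE hs.2⟩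

/-- `S₁ = T ∩ L` and the subgroups `Y` of `L` over `S₁` -/
theorem inv_TL : Inv T L (T ⊓ L) := by
  intro t ht h1 y hy
  refine ⟨T.mul_mem (T.mul_mem ht hy.1) (T.inv_mem ht), ?_⟩
  have h2 : t * y * t⁻¹ ∈ cg t L := conj_mem_cg hy.2
  rwa [h1] at h2

/-- (3.2) -/
theorem norm_of_max (hL : L ∈ Ls) (hL' : L' ∈ Ls) (hne : L' ≠ L) (hY : Y ≤ L) (hi : Inv T L Y) (hSY : T ⊓ L ≤ Y)
    (hm : ∃ y ∈ Y, y • x ≠ x) (hY0 : Y0 ≤ L) (hnot : ¬ Y ≤ Y0)
    (hmax : ∀ Z ≤ Y, T ⊓ L ≤ Z → Inv T L Z → Z ≠ Y → Z ≤ Y0) : ∀ y ∈ Y, ∀ s ∈ T ⊓ L, y * s * y⁻¹ ∈ T ⊓ L := by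
  have hSne : T ⊓ L ≠ Y := by
    intro h1
    obtain ⟨y, hy, h2⟩ := hm
    rw [← h1] at hy
    exact h2 (h.fixT hy.1)
  have hS0 : T ⊓ L ≤ Y0 := hmax _ hSY le_rfl h.inv_TL hSne
  -- the members
  have hprle : ∀ P : Subgroup X, P ≤ st T Ls L Y ⊔ T → h.pr hL P ≤ Y := by
    intro P hP a ha
    obtain ⟨haL, c, hc, hac⟩ := ha
    obtain ⟨g, hg, t, ht, h1⟩ := exists_mul_T (fun t ht a ha => st_conj ht ha) (hP hac)
    have h2 : t ∈ sSup Ls := by
      have h3 : t = g⁻¹ * (a * c) := by rw [← h1]; group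
      rw [h3]
      exact mul_mem (inv_mem (h.st_le_E hL hY hg)) (mul_mem (le_sSup hL haL) (CC_le hc))
    have h4 : a * c ∈ st T Ls L Y := by
      rw [← h1]
      exact mul_mem hg (h.TE_le_st hL hSY ⟨ht, h2⟩)
    exact h.st_comp hL hY h4 haL hc rfl
  have hprinv : ∀ P : Subgroup X, T ≤ P ∨ (∀ t ∈ T, ∀ g ∈ P, t * g * t⁻¹ ∈ P) → Inv T L (h.pr hL P) := by
    rintro P hP t ht h1 a ⟨haL, c, hc, hac⟩
    have h2 : t * a * t⁻¹ ∈ cg t L := conj_mem_cg haL
    have h3 := h.CC_conj hc t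
    rw [h1] at h2 h3
    refine ⟨h2, _, h3, ?_⟩
    have h4 : t * a * t⁻¹ * (t * c * t⁻¹) = t * (a * c) * t⁻¹ := by group
    rw [h4]
    rcases hP with hP | hP
    · exact h.T_norm hac ht hP
    · exact hP t ht _ hac
  have hprS : ∀ P : Subgroup X, T ≤ P → T ⊓ L ≤ h.pr hL P := fun P hP => (inf_le_inf_right L hP).trans (h.inf_le_pr hL)
  -- small projections
  have hsmall : ∀ P : Subgroup X, T ≤ P → P ≤ st T Ls L Y ⊔ T → h.pr hL P ≤ Y0 → P ≤ st T Ls L Y0 ⊔ T := by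
    intro P hTP hP h0 g hg
    obtain ⟨e, he, t, ht, h1⟩ := h.gen' g
    have h2 : e ∈ P := by
      have : e = g * t⁻¹ := by rw [← h1]; group
      rw [this]; exact mul_mem hg (inv_mem (hTP ht))
    have h3 : e ∈ st T Ls L Y0 := by
      intro r hr
      have h4 : r⁻¹ * e * r ∈ sSup Ls := by
        have := h.E_conj he r⁻¹
        rwa [inv_inv] at this
      have h5 : r⁻¹ * e * r ∈ P := mul_mem (mul_mem (inv_mem (hTP hr)) h2) (hTP hr)
      obtain ⟨a, ha, c, hc, h6⟩ := h.mem_E hL h4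
      rw [← h6]
      exact mul_mem ((le_sup_left : Y0 ≤ Y0 ⊔ CC Ls L) (h0 (h.mem_pr_of hL h5 ha hc h6)))
        ((le_sup_right : CC Ls L ≤ Y0 ⊔ CC Ls L) hc)
    rw [← h1]
    exact mul_mem ((le_sup_left : st T Ls L Y0 ≤ st T Ls L Y0 ⊔ T) h3)
      ((le_sup_right : T ≤ st T Ls L Y0 ⊔ T) ht)
  -- a member with projection `Y`
  have hex : ∃ P : Subgroup X, T ≤ P ∧ P ≤ st T Ls L Y ⊔ T ∧ h.pr hL P = Y ∧
      ((∀ g ∈ P, g ∈ normalizer (T : Set X)) ∨ IsMinPar T P) := by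
    by_contra hcon
    push Not at hcon
    have h1 : st T Ls L Y ⊔ T ≤ st T Ls L Y0 ⊔ T := by
      have hall : ∀ P : Subgroup X, T ≤ P → P ≤ st T Ls L Y ⊔ T →
          ((∀ g ∈ P, g ∈ normalizer (T : Set X)) ∨ IsMinPar T P) → P ≤ st T Ls L Y0 ⊔ T := by
        intro P hTP hP hor
        apply hsmall P hTP hP
        apply hmax _ (hprle P hP) (hprS P hTP) (hprinv P (Or.inl hTP))
        intro h2
        have h3 := hcon P hTP hP h2
        rcases hor with h4 | h4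
        · obtain ⟨g, hg, hg'⟩ := h3.1
          exact hg' (h4 g hg)
        · exact h3.2 h4
      apply le_of_forall (S := T) le_sup_right
      · exact hall _ (le_inf le_sup_right le_normalizer) inf_le_left (Or.inl fun g hg => hg.2)
      · intro P hP hPle
        exact hall P hP.le hPle (Or.inr hP)
    apply hnot
    intro y hy
    have h2 := h1 ((le_sup_left : st T Ls L Y ≤ st T Ls L Y ⊔ T) (h.le_st hL hY hi hy))
    obtain ⟨g, hg, t, ht, h3⟩ := exists_mul_T (fun t ht a ha => st_conj ht ha) h2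
    have h4 : t ∈ sSup Ls := by
      have h5 : t = g⁻¹ * y := by rw [← h3]; group
      rw [h5]
      exact mul_mem (inv_mem (h.st_le_E hL hY0 hg)) (le_sSup hL (hY hy))
    have h6 : y ∈ st T Ls L Y0 := by
      rw [← h3]
      exact mul_mem hg (h.TE_le_st hL hS0 ⟨ht, h4⟩)
    exact h.st_inf hL hY0 h6 (hY hy)
  obtain ⟨P, hTP, hPle, hpr, hor⟩ := hex
  have hconj : ∀ y c s : X, c ∈ CC Ls L → s ∈ L → y * s * y⁻¹ = (y * c) * s * (y * c)⁻¹ := by
    intro y c s hc hs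
    have h2 := h.CC_comm hL hs hc
    calc y * s * y⁻¹ = y * (s * c) * c⁻¹ * y⁻¹ := by group
      _ = (y * c) * s * (y * c)⁻¹ := by rw [h2]; group
  rcases hor with hN | hmin
  · intro y hy s hs
    rw [← hpr] at hy
    obtain ⟨hyL, c, hc, hyc⟩ := hy
    refine ⟨?_, L.mul_mem (L.mul_mem hyL hs.2) (L.inv_mem hyL)⟩
    rw [hconj y c s hc hs.2]
    exact conj_mem_of_mem_normalizer (hN _ hyc) hs.1
  by_cases hmov : ∃ g ∈ P, g • x ≠ x
  · intro y hy s hs
    rw [← hpr] at hy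
    obtain ⟨hyL, c, hc, hyc⟩ := hy
    rw [hconj y c s hc hs.2]
    exact h.mover_norm hL hL' hne hmin hmov hyc (mul_mem (le_sSup hL hyL) (CC_le hc)) hs
  push Not at hmov
  -- `P` fixes `x`
  have h00 : P ⊓ L ≤ Y0 := by
    apply hmax
    · rw [← hpr]; exact h.inf_le_pr hL
    · exact inf_le_inf_right L hTP
    · intro t ht h1 y hy
      refine ⟨h.T_norm hy.1 ht hTP, ?_⟩
      have h2 : t * y * t⁻¹ ∈ cg t L := conj_mem_cg hy.2
      rwa [h1] at h2
    · intro h1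
      obtain ⟨y, hy, h2⟩ := hm
      rw [← h1] at hy
      exact h2 (hmov y hy.1)
  have h00n : ∀ y ∈ Y, y ∈ normalizer ((P ⊓ L : Subgroup X) : Set X) := by
    intro y hy
    rw [← hpr] at hy
    obtain ⟨hyL, c, hc, hyc⟩ := hy
    apply mem_normalizer_of_conj_le
    intro a ha
    refine ⟨?_, L.mul_mem (L.mul_mem hyL ha.2) (L.inv_mem hyL)⟩
    rw [hconj y c a hc ha.2]
    exact P.mul_mem (P.mul_mem hyc ha.1) (P.inv_mem hyc)
  have hsyl00 : IsSyl (T ⊓ L) (P ⊓ L) := (h.sylL hL).mono (inf_le_inf_right L hTP) inf_le_right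
  -- `N_Y(S₁)`
  by_cases hNY : Y ≤ normalizer ((T ⊓ L : Subgroup X) : Set X)
  · intro y hy s hs
    exact conj_mem_of_mem_normalizer (hNY hy) hs
  · exfalso
    have h5 : Y ⊓ normalizer ((T ⊓ L : Subgroup X) : Set X) ≤ Y0 := by
      apply hmax _ inf_le_left (le_inf hSY le_normalizer)
      · intro t ht h1 y hy
        refine ⟨hi t ht h1 y hy.1, ?_⟩
        have h6 : t ∈ normalizer ((T ⊓ L : Subgroup X) : Set X) :=
          mem_normalizer_of_conj_le fun s hs => h.inv_TL t ht h1 s hs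
        exact Subgroup.mul_mem _ (Subgroup.mul_mem _ h6 hy.2) (Subgroup.inv_mem _ h6)
      · intro h1
        exact hNY (inf_eq_left.1 h1)
    apply hnot
    intro y hy
    obtain ⟨n, hn, h6⟩ := hsyl00.frattini (h00n y hy)
    have h7 : n ∈ Y := by
      have : P ⊓ L ≤ Y := by rw [← hpr]; exact h.inf_le_pr hL
      exact this hn
    have h8 : y = n⁻¹ * (n * y) := by group
    rw [h8]
    exact mul_mem (inv_mem (h00 hn)) (h5 ⟨mul_mem h7 hy, h6⟩)

/-- (PG) : `[Y, Y] ≤ Y₀` -/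
theorem comm_of_max (hL : L ∈ Ls) (hL' : L' ∈ Ls) (hne : L' ≠ L) (hY : Y ≤ L) (hi : Inv T L Y) (hSY : T ⊓ L ≤ Y)
    (hm : ∃ y ∈ Y, y • x ≠ x) (hY0 : Y0 ≤ L) (hnot : ¬ Y ≤ Y0)
    (hmax : ∀ Z ≤ Y, T ⊓ L ≤ Z → Inv T L Z → Z ≠ Y → Z ≤ Y0) : ∀ a ∈ Y, ∀ b ∈ Y, a * b * a⁻¹ * b⁻¹ ∈ Y0 := by
  have hnorm := h.norm_of_max hL hL' hne hY hi hSY hm hY0 hnot hmax
  have hSne : T ⊓ L ≠ Y := by
    intro h1
    obtain ⟨y, hy, h2⟩ := hm
    rw [← h1] at hy
    exact h2 (h.fixT hy.1)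
  have hS0 : T ⊓ L ≤ Y0 := hmax _ hSY le_rfl h.inv_TL hSne
  let N : Subgroup X := normalizer ((T ⊓ L : Subgroup X) : Set X)
  have hSN : T ⊓ L ≤ N := le_normalizer
  have hYN : Y ≤ N := fun y hy => mem_normalizer_of_conj_le fun s hs => hnorm y hy s hs
  let T1 : Subgroup X :=
    { carrier := {t | t ∈ T ∧ cg t L = L}
      mul_mem' := fun {a b} ha hb => ⟨mul_mem ha.1 hb.1, by rw [cg_mul, hb.2, ha.2]⟩
      one_mem' := ⟨one_mem _, by ext a; rw [mem_cg]; simp⟩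
      inv_mem' := fun {a} ha => ⟨inv_mem ha.1, cg_inv ha.2⟩ }
  haveI hn : ((T ⊓ L).subgroupOf N).Normal := Subgroup.normal_in_normalizer
  have hT1 : ∀ t, t ∈ T1 → t ∈ T ∧ cg t L = L := fun t ht => ht
  have key := comm_le (S := (T ⊓ L).subgroupOf N) (Y := Y.subgroupOf N) (T := T1.subgroupOf N) (Y0 := Y0.subgroupOf N)
    (fun s hs => hSY hs) (by
      rw [relIndex_subgroupOf hYN]
      have h1 := ((h.sylL hL).mono hSY hY).odd_relIndex
      rw [← Nat.not_even_iff_odd, even_iff_two_dvd] at h1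
      exact h1) (by
      rw [IsPGroup]
      rintro ⟨⟨t, htN⟩, ht⟩
      obtain ⟨k, hk⟩ := h.syl.two ⟨t, (hT1 t ht).1⟩
      refine ⟨k, ?_⟩
      have h1 : t ^ 2 ^ k = 1 := congrArg Subtype.val hk
      apply Subtype.ext
      apply Subtype.ext
      exact h1) (by
      intro t ht y hy
      exact hi t.1 (hT1 _ ht).1 (hT1 _ ht).2 y.1 hy) (by
      intro Z hZ hSZ hZi hne'
      have h1 : Z.map N.subtype ≤ Y0 := by
        apply hmax
        · rintro _ ⟨z, hz, rfl⟩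
          exact hZ hz
        · intro s hs
          exact ⟨⟨s, hSN hs⟩, hSZ hs, rfl⟩
        · rintro t ht h1 _ ⟨z, hz, rfl⟩
          have h6 : t ∈ N := mem_normalizer_of_conj_le fun s hs => h.inv_TL t ht h1 s hs
          exact ⟨_, hZi ⟨t, h6⟩ ⟨ht, h1⟩ z hz, rfl⟩
        · intro h1
          apply hne'
          rw [← h1]
          ext z
          rw [mem_subgroupOf]
          constructor
          · intro hz; exact ⟨z, hz, rfl⟩
          · rintro ⟨z', hz', h2⟩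
            have : z' = z := Subtype.ext h2
            rwa [← this]
      intro z hz
      exact h1 ⟨z, hz, rfl⟩) (by
      intro h1
      apply hnot
      intro y hy
      exact h1 (show (⟨y, hYN hy⟩ : N) ∈ Y.subgroupOf N from hy)) (fun s hs => hS0 hs)
  intro a ha b hb
  have h1 : (⟨a, hYN ha⟩ : N) * ⟨b, hYN hb⟩ * (⟨a, hYN ha⟩ : N)⁻¹ * (⟨b, hYN hb⟩ : N)⁻¹ ∈ Y0.subgroupOf N :=
    key (commutator_mem_commutator (show (⟨a, hYN ha⟩ : N) ∈ Y.subgroupOf N from ha)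
      (show (⟨b, hYN hb⟩ : N) ∈ Y.subgroupOf N from hb))
  exact h1

/-- (3.3') -/
theorem le_of_fix (hL : L ∈ Ls) (hx : ∃ g : X, g • x ≠ x) (hY : Y ≤ L) (hi : Inv T L Y)
    (hm : ∃ y ∈ Y, y • x ≠ x) (hY0 : Y0 ≤ L) (hYY : ∀ a ∈ Y, ∀ b ∈ Y, a * b * a⁻¹ * b⁻¹ ∈ Y0)
    (hfix : ∀ y ∈ Y0, y • x = x) : Y ≤ MulAction.stabilizer X V := by
  refine (h.le_st hL hY hi).trans (h.le_stV hx (fun t ht a ha => st_conj ht ha) ?_)
  intro W hW hWx w hw
  rw [h.mem_stV']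
  intro v hv
  obtain ⟨k, hk, h1⟩ := h.exists_elt (A := st T Ls L Y) (fun t ht a ha => st_conj ht ha) (by
    obtain ⟨y, hy, h2⟩ := hm
    exact ⟨y, h.le_st hL hY hi hy, h2⟩) hv
  have h3 : w * k = k * w * (w⁻¹ * k⁻¹ * w * k) := by group
  have h4 : w⁻¹ * k⁻¹ * w * k ∈ st T Ls L Y0 := by
    have := h.st_comm hL hY hYY (inv_mem (hW hw)) (inv_mem hk)
    rwa [inv_inv, inv_inv] at this
  have h5 : (w⁻¹ * k⁻¹ * w * k) • x = x := h.st_fix hL hY0 hfix h4
  have h6 : w • v = v := by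
    rw [← h1, ← mul_smul, h3, mul_smul, h5, mul_smul, hWx w hw]
  rw [h6]
  exact hv

/-- an orbit of odd size in `V` -/
theorem orbit_eq (hL : L ∈ Ls) (hY : Y ≤ L) (hSY : T ⊓ L ≤ Y) (hYV : Y ≤ MulAction.stabilizer X V)
    (hm : ∃ y ∈ Y, y • x ≠ x) (hv : v ∈ V) : ∃ y ∈ Y, y • x = v := by
  have hfin : V.Finite := Set.finite_of_ncard_ne_zero (by rw [h.card]; norm_num)
  have hO : (MulAction.orbit Y x) ⊆ V := by
    rintro _ ⟨⟨y, hy⟩, rfl⟩
    exact stV_mem (hYV hy) h.mem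
  have h1 : (MulAction.stabilizer Y x).index = (MulAction.orbit Y x).ncard := MulAction.index_stabilizer Y x
  have h2 : Odd ((T ⊓ L).relIndex Y) := ((h.sylL hL).mono hSY hY).odd_relIndex
  have h3 : (MulAction.stabilizer Y x).index ∣ (T ⊓ L).relIndex Y := by
    apply index_dvd_of_le
    intro s hs
    exact h.fixT hs.1
  have h4 : Odd (MulAction.orbit Y x).ncard := by
    rw [← h1]
    exact Odd.of_dvd_nat h2 h3
  have h5 : (MulAction.orbit Y x).ncard ≤ 3 := by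
    rw [← h.card]
    exact Set.ncard_le_ncard hO hfin
  have h6 : (MulAction.orbit Y x).ncard ≠ 1 := by
    intro h7
    obtain ⟨u, hu⟩ := Set.ncard_eq_one.1 h7
    obtain ⟨y, hy, h8⟩ := hm
    have h9 : x ∈ MulAction.orbit Y x := MulAction.mem_orbit_self x
    have h10 : y • x ∈ MulAction.orbit Y x := ⟨⟨y, hy⟩, rfl⟩
    rw [hu, Set.mem_singleton_iff] at h9 h10
    exact h8 (h10.trans h9.symm)
  have h7 : (MulAction.orbit Y x).ncard = 3 := by
    obtain ⟨k, hk⟩ := h4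
    omega
  have h8 : MulAction.orbit Y x = V := Set.eq_of_subset_of_ncard_le hO (by rw [h7, h.card]) hfin
  rw [← h8] at hv
  obtain ⟨⟨y, hy⟩, h9⟩ := hv
  exact ⟨y, hy, h9⟩

theorem L_moves (hL : L ∈ Ls) (hx : ∃ g : X, g • x ≠ x) : ∃ a ∈ L, a • x ≠ x := by
  by_contra hcon
  push Not at hcon
  obtain ⟨g, hg⟩ := hx
  obtain ⟨e, he, t, ht, h1⟩ := h.gen' g
  apply hg
  have h2 : sSup Ls ≤ MulAction.stabilizer X x := by
    apply sSup_le
    intro M hM a ha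
    obtain ⟨t, ht, h3⟩ := h.trans L hL M hM
    rw [← h3, mem_cg] at ha
    rw [MulAction.mem_stabilizer_iff]
    calc a • x = t • (t⁻¹ * a * t) • t⁻¹ • x := by rw [← mul_smul, ← mul_smul]; congr 1; group
      _ = x := by rw [h.fixT (inv_mem ht), hcon _ ha, h.fixT ht]
  rw [← h1, mul_smul, h.fixT ht]
  exact h2 he

/-- a minimal `N_T(L)`-invariant subgroup of `L` over `S₁` with a monotone property -/
theorem exists_min (Pr : Subgroup X → Prop) (hL : Pr L) :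
    ∃ Y ≤ L, T ⊓ L ≤ Y ∧ Inv T L Y ∧ Pr Y ∧ ∀ Z ≤ Y, T ⊓ L ≤ Z → Inv T L Z → Z ≠ Y → ¬ Pr Z := by
  have hLi : Inv T L L := by
    intro t ht h1 y hy
    have h2 : t * y * t⁻¹ ∈ cg t L := conj_mem_cg hy
    rwa [h1] at h2
  obtain ⟨Y, ⟨h1, h2, h3, h4⟩, h5⟩ := Set.Finite.exists_minimal (s := {Y : Subgroup X | Y ≤ L ∧ T ⊓ L ≤ Y ∧ Inv T L Y ∧ Pr Y})
    (Set.toFinite _) ⟨L, le_rfl, inf_le_right, hLi, hL⟩
  refine ⟨Y, h1, h2, h3, h4, fun Z hZ hSZ hZi hne hPr => ?_⟩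
  exact hne (le_antisymm hZ (h5 ⟨hZ.trans h1, hSZ, hZi, hPr⟩ hZ))

/-- every `L` is transitive on `V` -/
theorem L_trans (hL : L ∈ Ls) (hL' : L' ∈ Ls) (hne : L' ≠ L) (hx : ∃ g : X, g • x ≠ x) (hv : v ∈ V) :
    ∃ y ∈ L, y • x = v := by
  obtain ⟨Y, hY, hSY, hi, hm, hmin⟩ := h.exists_min (L := L) (fun Y => ∃ y ∈ Y, y • x ≠ x) (h.L_moves hL hx)
  have hY0 : Y ⊓ MulAction.stabilizer X x ≤ L := inf_le_left.trans hY
  have hnot : ¬ Y ≤ Y ⊓ MulAction.stabilizer X x := by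
    intro h1
    obtain ⟨y, hy, h2⟩ := hm
    exact h2 (h1 hy).2
  have hmax : ∀ Z ≤ Y, T ⊓ L ≤ Z → Inv T L Z → Z ≠ Y → Z ≤ Y ⊓ MulAction.stabilizer X x := by
    intro Z hZ hSZ hZi hne' z hz
    have h1 := hmin Z hZ hSZ hZi hne'
    push Not at h1
    exact ⟨hZ hz, h1 z hz⟩
  have hYY := h.comm_of_max hL hL' hne hY hi hSY hm hY0 hnot hmax
  have hYV := h.le_of_fix hL hx hY hi hm hY0 hYY (fun y hy => hy.2)
  obtain ⟨y, hy, h1⟩ := h.orbit_eq hL hY hSY hYV hm hv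
  exact ⟨y, hY hy, h1⟩

/-- (3.4) -/
theorem fix_ptw (hL : L ∈ Ls) (hL' : L' ∈ Ls) (hne : L' ≠ L) (hx : ∃ g : X, g • x ≠ x) (ha : a ∈ L) (hax : a • x = x)
    (hv : v ∈ V) : a • v = v := by
  obtain ⟨y, hy, h1⟩ := h.L_trans hL' hL (Ne.symm hne) hx hv
  have h2 := h.com L hL L' hL' (Ne.symm hne) a ha y hy
  rw [← h1, ← mul_smul, h2, mul_smul, hax]

/-- (3.5') -/
theorem le_of_mov (hL : L ∈ Ls) (hx : ∃ g : X, g • x ≠ x) (hY : Y ≤ L) (hi : Inv T L Y)
    (hY0 : Y0 ≤ L) (hSY0 : T ⊓ L ≤ Y0) (hm : ∃ y ∈ Y0, y • x ≠ x) (hY0V : Y0 ≤ MulAction.stabilizer X V)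
    (hn : ∀ y ∈ Y, ∀ z ∈ Y0, y * z * y⁻¹ ∈ Y0) : Y ≤ MulAction.stabilizer X V := by
  refine (h.le_st hL hY hi).trans (h.le_stV hx (fun t ht a ha => st_conj ht ha) ?_)
  intro W hW hWx w hw
  rw [h.mem_stV']
  intro v hv
  obtain ⟨k, hk, h1⟩ := h.orbit_eq hL hY0 hSY0 hY0V hm hv
  obtain ⟨y, hy, c, hc, h2⟩ := (h.mem_YC hL hY).1 (st_le (hW hw))
  have h3 : w * k = (y * k * y⁻¹) * w := by
    have h4 := h.CC_comm hL (hY0 hk) hc
    rw [← h2]
    calc y * c * k = y * (k * c) := by rw [h4]; group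
      _ = y * k * y⁻¹ * (y * c) := by group
  have h5 : w • v = (y * k * y⁻¹) • x := by
    rw [← h1, ← mul_smul, h3, mul_smul, hWx w hw]
  rw [h5]
  exact stV_mem (hY0V (hn y hy k hk)) h.mem

/-- every `L` preserves `V` -/
theorem L_le_stV (hL : L ∈ Ls) (hL' : L' ∈ Ls) (hne : L' ≠ L) (hx : ∃ g : X, g • x ≠ x) :
    L ≤ MulAction.stabilizer X V := by
  by_contra hcon
  obtain ⟨Y, hY, hSY, hi, hnV, hmin⟩ := h.exists_min (L := L) (fun Y => ¬ Y ≤ MulAction.stabilizer X V) hcon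
  apply hnV
  have hm : ∃ y ∈ Y, y • x ≠ x := by
    by_contra hcon'
    push Not at hcon'
    apply hnV
    intro y hy
    rw [h.mem_stV']
    intro v hv
    rw [h.fix_ptw hL hL' hne hx (hY hy) (hcon' y hy) hv]
    exact hv
  have hY0 : Y ⊓ MulAction.stabilizer X V ≤ L := inf_le_left.trans hY
  have hnot : ¬ Y ≤ Y ⊓ MulAction.stabilizer X V := fun h1 => hnV (h1.trans inf_le_right)
  have hmax : ∀ Z ≤ Y, T ⊓ L ≤ Z → Inv T L Z → Z ≠ Y → Z ≤ Y ⊓ MulAction.stabilizer X V := by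
    intro Z hZ hSZ hZi hne'
    exact le_inf hZ (not_not.1 (hmin Z hZ hSZ hZi hne'))
  have hYY := h.comm_of_max hL hL' hne hY hi hSY hm hY0 hnot hmax
  by_cases h1 : ∃ y ∈ Y ⊓ MulAction.stabilizer X V, y • x ≠ x
  · refine h.le_of_mov hL hx hY hi hY0 (le_inf hSY fun s hs => h.T_le_stV hx hs.1) h1 inf_le_right ?_
    intro y hy z hz
    have h2 : y * z * y⁻¹ = (y * z * y⁻¹ * z⁻¹) * z := by group
    rw [h2]
    exact mul_mem (hYY y hy z hz.1) hz
  · push Not at h1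
    exact h.le_of_fix hL hx hY hi hm hY0 hYY h1

/-- **LEMMA COMP** -/
theorem main (hx : ∃ g : X, g • x ≠ x) (hL : L ∈ Ls) (hL' : L' ∈ Ls) : L' = L := by
  by_contra hne
  obtain ⟨a, ha, hax⟩ := h.L_moves hL hx
  apply hax
  have hLV := h.L_le_stV hL hL' hne hx
  have hLV' := h.L_le_stV hL' hL (Ne.symm hne) hx
  -- a power basis of `V`
  obtain ⟨e, he, hex⟩ := h.L_moves hL' hx
  have hfp : ∀ {u : Ω}, u ∈ V → ∀ f ∈ L', f • u = u → f • x = x := by
    intro u hu f hf hfu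
    obtain ⟨b, hb, h1⟩ := h.L_trans hL hL' hne hx hu
    have h2 := h.com L hL L' hL' (Ne.symm hne) b hb f hf
    rw [← h1, ← mul_smul, ← h2, mul_smul] at hfu
    exact smul_left_cancel b hfu
  have heV : e • x ∈ V := stV_mem (hLV' he) h.mem
  have heeV : e • e • x ∈ V := stV_mem (hLV' he) heV
  have h2 : e • e • x ≠ e • x := fun h3 => hex (smul_left_cancel e h3)
  have h3 : e • e • x ≠ x := by
    intro h4
    -- the third point is fixed by `e`
    have h5 : ∃ w ∈ V, w ≠ x ∧ w ≠ e • x := by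
      by_contra hcon
      push Not at hcon
      have h6 : V ⊆ {x, e • x} := by
        intro w hw
        by_cases h7 : w = x
        · exact Or.inl h7
        · exact Or.inr (hcon w hw h7)
      have h7 := Set.ncard_le_ncard h6 (Set.toFinite _)
      have h8 := Set.ncard_insert_le x {e • x}
      rw [Set.ncard_singleton] at h8
      rw [h.card] at h7
      omega
    obtain ⟨w, hw, hwx, hwe⟩ := h5
    rcases third h.card h.mem heV hw (stV_mem (hLV' he) hw) (Ne.symm hex) (Ne.symm hwx) (Ne.symm hwe) with h6 | h6 | h6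
    · exact hwe (smul_left_cancel e (h6.trans h4.symm))
    · exact hwx (smul_left_cancel e h6)
    · exact hex (hfp hw e he h6)
  have hpow : ∀ u ∈ V, ∃ i : ℕ, e ^ i • x = u := by
    intro u hu
    rcases third h.card h.mem heV heeV hu (Ne.symm hex) (Ne.symm h3) (Ne.symm h2) with h4 | h4 | h4
    · exact ⟨0, by rw [pow_zero, one_smul, h4]⟩
    · exact ⟨1, by rw [pow_one, h4]⟩
    · exact ⟨2, by rw [pow_two, mul_smul, h4]⟩
  -- `L` is commutative on `x`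
  have hcom : ∀ a ∈ L, ∀ b ∈ L, (a * b) • x = (b * a) • x := by
    have key : ∀ a ∈ L, ∀ b ∈ L, ∀ i j : ℕ, e ^ i • x = a • x → e ^ j • x = b • x → (a * b) • x = (e ^ (i + j)) • x := by
      intro a ha b hb i j hi hj
      have h4 := h.com L hL L' hL' (Ne.symm hne) a ha (e ^ j) (pow_mem he j)
      rw [mul_smul, ← hj, ← mul_smul, h4, mul_smul, ← hi, ← mul_smul, ← pow_add, add_comm]
    intro a ha b hb
    obtain ⟨i, hi⟩ := hpow _ (stV_mem (hLV ha) h.mem)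
    obtain ⟨j, hj⟩ := hpow _ (stV_mem (hLV hb) h.mem)
    rw [key a ha b hb i j hi hj, key b hb a ha j i hj hi, add_comm]
  have h4 : ⁅L, L⁆ ≤ MulAction.stabilizer X x := by
    rw [commutator_le]
    intro a ha b hb
    rw [MulAction.mem_stabilizer_iff, commutatorElement_def]
    have h5 := hcom a⁻¹ (inv_mem ha) b⁻¹ (inv_mem hb)
    rw [mul_assoc, mul_smul, h5, ← mul_smul]
    have h6 : a * b * (b⁻¹ * a⁻¹) = 1 := by group
    rw [h6, one_smul]
  exact h4 (h.perf L hL ha)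

end CH

end Cfsg.Agent.Omega.KL
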