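import Cfsg.Agent.Omega.KL.EndKL
import Cfsg.Agent.Omega.ML.Ex.KnownDone
import Cfsg.Agent.Omega.ML.KnownAll

/-!
# THEOREM KL, closed (helper969)

`noInp` : **THEOREM KL** (`[A]` of CARD #18791), without hypotheses: `EndKL.noInp` (helper233) over `KnownAll.mlk` and the
exact K-list `KnownDone.exitN` (helper484).
-/

set_option autoImplicit false

namespace Cfsg.Agent.Omega.KL.Done

open Cfsg Cfsg.Agent.Omega.ML.Ex

universe u v

/-- **The middle of THEOREM KL is contradictory.** -/
theorem noSys {H : Type u} [Group H] [Finite H] {M : Type v} [Group M] [Finite M] [MulDistribMulAction H M]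
    {T A : Subgroup H} {V : Subgroup M} {x y : M} : ¬ Def.Sys T A V x y :=
  fun h => EndKL.sys_false KnownDone.exitN h

/-- **THEOREM KL** -/
theorem noInp : Quo.NoInp.{u, v} := EndKL.noInp ML.KnownAll.mlk KnownDone.exitN

end Cfsg.Agent.Omega.KL.Done
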