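import Cfsg.Agent.Omega.KL.Str
import Cfsg.Agent.Omega.KL.CompX

/-!
# THEOREM KL, (3): `Sys → ∃ K, KK K` (LEMMA COMP in `Sys`; helper185)
-/

set_option autoImplicit false
set_option linter.unusedSectionVars false
set_option linter.style.haveILetI false

namespace Cfsg.Agent.Omega.KL.OneK

open Subgroup Cfsg Cfsg.Agent.Lib.MinNormalNonabelian Cfsg.Agent.Omega.KL.Def Cfsg.Agent.StdEven.Syl
open Cfsg.Agent.MinSimple.MinParabolic (IsMinPar)

universe u v

section gen

variable {H : Type u} [Group H] {M : Type v} [MulAction H M]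

/-- an orbit of odd length in a set of 3 points -/
theorem orbit_three [Finite H] {T P : Subgroup H} {x : M} {W : Set M} (hodd : ¬ 2 ∣ T.relIndex P)
    (hTx : ∀ t ∈ T, t • x = x) (hW : W.ncard = 3) (hPW : ∀ p ∈ P, ∀ w ∈ W, p • w ∈ W) (hx : x ∈ W)
    (hm : ∃ p ∈ P, p • x ≠ x) {v : M} (hv : v ∈ W) : ∃ p ∈ P, p • x = v := by
  have hfin : W.Finite := Set.finite_of_ncard_ne_zero (by rw [hW]; norm_num)
  have hO : (MulAction.orbit P x) ⊆ W := by
    rintro _ ⟨⟨p, hp⟩, rfl⟩
    exact hPW p hp x hx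
  have h1 : (MulAction.stabilizer P x).index = (MulAction.orbit P x).ncard := MulAction.index_stabilizer P x
  have h3 : (MulAction.stabilizer P x).index ∣ T.relIndex P := by
    apply index_dvd_of_le
    intro s hs
    exact hTx _ hs
  have h4 : ¬ 2 ∣ (MulAction.orbit P x).ncard := by
    rw [← h1]
    exact fun h => hodd (h.trans h3)
  have h5 : (MulAction.orbit P x).ncard ≤ 3 := by
    rw [← hW]
    exact Set.ncard_le_ncard hO hfin
  have h6 : (MulAction.orbit P x).ncard ≠ 1 := by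
    intro h7
    obtain ⟨u, hu⟩ := Set.ncard_eq_one.1 h7
    obtain ⟨p, hp, h8⟩ := hm
    have h9 : x ∈ MulAction.orbit P x := MulAction.mem_orbit_self x
    have h10 : p • x ∈ MulAction.orbit P x := ⟨⟨p, hp⟩, rfl⟩
    rw [hu, Set.mem_singleton_iff] at h9 h10
    exact h8 (h10.trans h9.symm)
  have h7 : (MulAction.orbit P x).ncard = 3 := by
    omega
  have h8 : MulAction.orbit P x = W := Set.eq_of_subset_of_ncard_le hO (by rw [h7, hW]) hfin
  rw [← h8] at hv
  obtain ⟨⟨p, hp⟩, h9⟩ := hv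
  exact ⟨p, hp, h9⟩

/-- a 2-subgroup of odd index is a Sylow subgroup -/
theorem isSyl_top {G : Type*} [Group G] [Finite G] {T : Subgroup G} (h : IsPGroup 2 T) (hi : ¬ 2 ∣ T.index) :
    IsSyl T ⊤ where
  le := le_top
  two := h
  max := by
    intro Q hQ _ hTQ
    refine le_antisymm ?_ hTQ
    rw [← relIndex_eq_one]
    haveI : Fact (Nat.Prime 2) := ⟨Nat.prime_two⟩
    obtain ⟨k, hk⟩ := (IsPGroup.iff_card.1 hQ)
    have h1 : T.relIndex Q ∣ 2 ^ k := by rw [← hk]; exact relIndex_dvd_card T Q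
    obtain ⟨j, -, hj⟩ := (Nat.dvd_prime_pow Nat.prime_two).1 h1
    rw [hj]
    by_contra hne
    have hj0 : j ≠ 0 := by rintro rfl; exact hne rfl
    apply hi
    have h2 : 2 ∣ T.relIndex Q := by rw [hj]; exact dvd_pow_self 2 hj0
    exact h2.trans (relIndex_dvd_index_of_le hTQ)

/-- a simple group with trivial centre is perfect -/
theorem perfect {G : Type*} [Group G] {L : Subgroup G} (hs : IsSimpleGroup L)
    (hc : ∀ z ∈ L, (∀ t ∈ L, Commute z t) → z = 1) : L ≤ ⁅L, L⁆ := by
  rw [← map_subtype_commutator L]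
  rcases (inferInstance : (_root_.commutator L).Normal).eq_bot_or_eq_top with h | h
  · exfalso
    obtain ⟨z, hz⟩ := exists_ne (1 : L)
    apply hz
    apply Subtype.ext
    apply hc z.1 z.2
    intro t ht
    have h1 := commutator_mem_commutator (H₁ := (⊤ : Subgroup L)) (H₂ := ⊤) (mem_top z) (mem_top (⟨t, ht⟩ : L))
    rw [← commutator_def, h, mem_bot, commutatorElement_eq_one_iff_mul_comm] at h1
    exact congrArg Subtype.val h1
  · rw [h]
    intro l hl
    exact ⟨⟨l, hl⟩, mem_top _, rfl⟩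

end gen

variable {H : Type u} [Group H] [Finite H] {M : Type v} [Group M] [MulDistribMulAction H M]
  {T A : Subgroup H} {V : Subgroup M} {x y : M}

theorem ncard_Vs (hc : Nat.card V = 4) : ((V : Set M) \ {1}).ncard = 3 := by
  haveI : Finite V := Nat.finite_of_card_ne_zero (by rw [hc]; norm_num)
  have h1 : (V : Set M).ncard = 4 := by rw [← hc]; rfl
  rw [Set.ncard_sdiff_singleton_of_mem (one_mem V), h1]

/-- the frame of COMP -/
theorem ch_of_two (h : Two T V x y) {E : Subgroup H} (hE : E.Normal) (hET : E ⊔ T = ⊤) (hsup : sSup (minSet E) = E)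
    (hsimple : ∀ L ∈ minSet E, IsSimpleGroup L) (hcen : ∀ L ∈ minSet E, ∀ z ∈ L, (∀ t ∈ L, Commute z t) → z = 1)
    (htr : ∀ S ∈ minSet E, ∀ L ∈ minSet E, ∃ t ∈ T, L = S.map (MulAut.conj t).toMonoidHom) :
    CH T x ((V : Set M) \ {1}) (minSet E) where
  syl := isSyl_top h.two h.syl
  card := ncard_Vs h.cV
  mem := ⟨h.xV, h.x1⟩
  U := by
    intro P hP
    by_cases hm : ∃ p ∈ P, p • x ≠ x
    · right
      obtain ⟨h1, -⟩ := h.uni P hP hm
      have h2 : ∀ p ∈ P, ∀ w ∈ (V : Set M) \ {1}, p • w ∈ (V : Set M) \ {1} := by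
        rintro p hp w ⟨hw, hw1⟩
        refine ⟨h1 p hp w hw, fun h3 => hw1 ?_⟩
        rw [Set.mem_singleton_iff] at h3 ⊢
        have h4 : w = p⁻¹ • p • w := (inv_smul_smul p w).symm
        rw [h4, h3, smul_one]
      refine ⟨h2, fun v hv => ?_⟩
      refine orbit_three (T := T) ?_ (fun t ht => h.tx ht) (ncard_Vs h.cV) h2 ⟨h.xV, h.x1⟩ hm hv
      intro h3
      have h4 := ((isSyl_top h.two h.syl).mono hP.le le_top).odd_relIndex
      rw [← Nat.not_even_iff_odd, even_iff_two_dvd] at h4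
      exact h4 h3
    · left
      push Not at hm
      exact hm
  nor := h.nx
  com := by
    intro L hL L' hL' hne a ha b hb
    have hd : Disjoint L L' := by
      rw [disjoint_iff]
      rcases hL.2.2.2 (L ⊓ L') inf_le_left (fun e he => by
        have h1 := hL.2.2.1 he
        have h2 := hL'.2.2.1 he
        exact mem_normalizer_of_conj_le fun z hz => ⟨(mem_normalizer_iff.1 h1 z).1 hz.1, (mem_normalizer_iff.1 h2 z).1 hz.2⟩)
        with h1 | h1
      · exact h1
      · exfalso
        have h2 : L ≤ L' := inf_eq_left.1 h1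
        rcases hL'.2.2.2 L h2 hL.2.2.1 with h3 | h3
        · exact hL.2.1 h3
        · exact hne h3
    exact Cfsg.Agent.Lib.MinNormal.commute_of_disjoint (fun z hz => hL'.2.2.1 (hL.1 hz)) (fun z hz => hL.2.2.1 (hL'.1 hz))
      hd ha hb
  cen := fun L hL a ha hb => hcen L hL a ha hb
  perf := fun L hL => perfect (hsimple L hL) (hcen L hL)
  conj := fun L hL g => map_conj_mem_minSet hL g
  trans := by
    intro L hL L' hL'
    obtain ⟨t, ht, h1⟩ := htr L hL L' hL'
    exact ⟨t, ht, h1.symm⟩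
  gen := by rw [hsup]; exact hET

/-- **LEMMA COMP for `Sys`** -/
theorem exists_KK (h : Sys T A V x y) : ∃ K : Subgroup H, KK K T A V x y := by
  obtain ⟨E, hE, hET, hcen, -, -, ⟨K, hK⟩, -, hsup, hsimple, hcl, htr⟩ := Str.exists_structure h
  have hch := ch_of_two h.toTwo hE hET hsup hsimple hcl htr
  have h1 : minSet E = {K} := by
    apply Set.eq_singleton_iff_unique_mem.2
    exact ⟨hK, fun L hL => hch.main (Str.SysF.moves h) hK hL⟩
  have h2 : K = E := by
    rw [← hsup, h1, sSup_singleton]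
  exact ⟨K, { h with
    norm := by rw [h2]; exact hE
    simple := hsimple K hK
    cen := by rw [h2]; exact hcen
    KT := by rw [h2]; exact hET }⟩

end Cfsg.Agent.Omega.KL.OneK
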