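import Cfsg.Agent.Omega.KL.Gen
import Cfsg.Agent.Omega.KL.OneK
import Cfsg.Agent.Omega.KL.Quo
import Cfsg.Agent.Omega.ML.Ex.Two

/-!
# THEOREM KL: the end (`[A]` of CARD #18791; helper969)

* `known` : in the output `KK` the simple group `K` is known;
* `mv` : the data `Mv T x y` of `Ex/Two.lean`;
* **`noSys`**, **`noInp`** : the middle and the input of THEOREM KL are contradictory, from (ML), the list `ExitN` of all
  rows, and the two exits (`K` of Lie type in characteristic 2; `K = U₃(3)`).
-/

set_option autoImplicit false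

namespace Cfsg.Agent.Omega.KL.End

open Subgroup Cfsg Cfsg.Agent.Omega.KL.Def Cfsg.Agent.Omega.ML Cfsg.Agent.Omega.ML.Ex
open Cfsg.Agent.Omega.ML.Rows (IsUThreeThree)
open Cfsg.Agent.MinSimple.MinParabolic (IsMinPar)
open Cfsg.Agent.Omega.ML.Ex.Two (ExitN Mv UThreeT exists_mover)

universe u v

section

variable {H : Type u} [Group H] [Finite H] {M : Type v} [Group M] [Finite M] [MulDistribMulAction H M]
  {K T A : Subgroup H} {V : Subgroup M} {x y : M}

omit [Finite H] [Finite M] in
/-- `K` is not abelian -/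
theorem not_comm (h : KK K T A V x y) : ¬ IsMulCommutative K := by
  intro hc
  have h1 : K ≤ centralizer (K : Set H) := by
    intro a ha
    rw [mem_centralizer_iff]
    intro b hb
    exact congrArg Subtype.val (hc.is_comm.comm (⟨b, hb⟩ : K) ⟨a, ha⟩)
  rw [h.cen] at h1
  have hs := h.simple
  obtain ⟨a, ha⟩ := exists_ne (1 : K)
  exact ha (Subtype.ext (mem_bot.1 (h1 a.2)))

omit [Finite H] [Finite M] in
/-- **`K` is known** -/
theorem known (h : KK K T A V x y) : IsKnownSimple' K := by
  have hK : IsKGroup K := Final.kgroup_of_surj h.KH K (MonoidHom.id K) fun a => ⟨a, rfl⟩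
  let e : (⊤ : Subgroup K) ⧸ (⊥ : Subgroup (⊤ : Subgroup K)) ≃* K :=
    (QuotientGroup.quotientBot).trans Subgroup.topEquiv
  exact OddHalf.Known.isKnownSimple'_congr e (Final.not_comm_congr e.symm (not_comm h))
    (hK ⊤ ⊥ (Final.simple_congr e.symm h.simple) (Final.not_comm_congr e.symm (not_comm h)))

omit [Finite M] in
/-- the two vectors -/
theorem mv (h : Sys T A V x y) : Mv T x y := by
  obtain ⟨P, hP, hm⟩ := exists_mover h
  exact
    { x1 := h.x1
      y1 := h.y1
      tx := fun t ht => h.tx ht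
      ty := fun t ht => h.ty ht
      mv := ⟨P, hP.le, (h.uni P hP hm).2, hm⟩ }

omit [Finite H] [Finite M] in
theorem atm (h : Sys T A V x y) : Atm M A := h.atom

end

/-- **The middle of THEOREM KL is contradictory.** -/
theorem noSys (h2 : ExitN.{u, v})
    (h3 : ∀ (H : Type u) [Group H] [Finite H] (M : Type v) [Group M] [Finite M] [MulDistribMulAction H M]
      (K T A : Subgroup H) (V : Subgroup M) (x y : M), KK K T A V x y → ¬ IsLieTypeChar 2 K)
    (h4 : UThreeT.{u, v})
    (H : Type u) [Group H] [Finite H] (M : Type v) [Group M] [Finite M] [MulDistribMulAction H M]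
    (T A : Subgroup H) (V : Subgroup M) (x y : M) : ¬ Sys T A V x y := by
  intro h
  obtain ⟨K, hK⟩ := OneK.exists_KK h
  rcases h2 H M K T A (InN.of_inX hK.inX (atm h)) (known hK) with h5 | h5
  · exact h3 H M K T A V x y hK h5
  · exact h4 H M K T A x y hK.inX (atm h) (mv h) h5

/-- **THEOREM KL.** -/
theorem noInp (hML : Final.MLK.{u, v}) (h2 : ExitN.{u, v})
    (h3 : ∀ (H : Type u) [Group H] [Finite H] (M : Type v) [Group M] [Finite M] [MulDistribMulAction H M]
      (K T A : Subgroup H) (V : Subgroup M) (x y : M), KK K T A V x y → ¬ IsLieTypeChar 2 K)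
    (h4 : UThreeT.{u, v}) : Quo.NoInp.{u, v} := by
  intro H _ _ M _ _ _ T A V x y h
  exact Gen.false_of hML (fun H' _ _ M' _ _ _ T' A' V' x' y' => noSys h2 h3 h4 H' M' T' A' V' x' y') h

end Cfsg.Agent.Omega.KL.End
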