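import Cfsg.Agent.Omega.KL.GenA
import Cfsg.Agent.Omega.KL.GenTool
import Cfsg.Agent.Omega.TC.TT

/-!
# THEOREM KL, (P1), second half (#21588 (3), (4)): the irreducible quotient (helper529)

`Low T A V x y` on `(H, M)`: `H = K₀T`, `K₀ = ⟨A^H⟩`; `M₀ = C_M(K₀)`.

* `Lw.le_cv` : every proper submodule of `M` is centralised by `A`;
* **`Lw.sys`** : `Sys` on `(H, M / M₀)`;  **`exists_sys`** : (ML) and `Low` give `Sys`.
-/

set_option autoImplicit false

namespace Cfsg.Agent.Omega.KL.GenB

open Subgroup Cfsg Cfsg.Agent.ZN Cfsg.Agent.ClassTwoFusion.Quad Cfsg.Agent.Omega.ML.MinFrame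
open Cfsg.Agent.Omega.KL.Def Cfsg.Agent.Omega.KL.Mor Cfsg.Agent.Omega.ML.Final Cfsg.Agent.Omega.KL.GenA
open Cfsg.Agent.MinSimple.MinParabolic (IsMinPar le_of_forall)
open Cfsg.Agent.MinSimple.VModule (o2_isPGroup o2_le le_o2 le_normalizer_o2 o2_le_of_sylow)

universe u v

variable {H : Type u} [Group H] [Finite H] {M : Type v} [Group M] [Finite M] [MulDistribMulAction H M]
  {T A : Subgroup H} {V : Subgroup M} {x y : M}

omit [Finite M] in
/-- `Mn` with `R = H` -/
theorem mn_of (ml : MLK.{u, v}) (h : Low T A V x y) : Mn T A V x y ⊤ := by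
  obtain ⟨R, hTR, hnR, -⟩ := exists_min h.toInp
  have hR : R = ⊤ := by
    by_contra hne
    exact hnR (h.low R hTR hne)
  subst hR
  exact { h.toInp with ml := ml, TR := le_top, nR := hnR, mn := fun K hTK _ hne => h.low K hTK hne }

/-- the situation on `M` -/
structure Lw (T A : Subgroup H) (V : Subgroup M) (x y : M) : Prop extends Low T A V x y where
  ml : MLK.{u, v}

namespace Lw

omit [Finite H] [Finite M] in
theorem stab_mono {W : Subgroup M} (hW : ∀ g : H, ∀ w ∈ W, g • w ∈ W) (sq : ∀ m : M, m * m = 1) (m : M) :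
    ∃ S : Subgroup H, ∀ g : H, g ∈ S ↔ g • m * m⁻¹ ∈ W := by
  have hcomm := comm_of_sq sq
  refine ⟨⟨⟨⟨{g : H | g • m * m⁻¹ ∈ W}, ?_⟩, ?_⟩, ?_⟩, fun g => Iff.rfl⟩
  · intro a b ha hb
    have h1 := W.mul_mem (hW a _ hb) ha
    have e : a • (b • m * m⁻¹) * (a • m * m⁻¹) = a • b • m * m⁻¹ := by
      rw [smul_mul', smul_inv']
      group
    change (a * b) • m * m⁻¹ ∈ W
    rw [mul_smul]
    exact e ▸ h1
  · change (1 : H) • m * m⁻¹ ∈ W
    rw [one_smul, mul_inv_cancel]
    exact W.one_mem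
  · intro a ha
    have h1 := W.inv_mem (hW a⁻¹ _ ha)
    rwa [smul_mul', inv_smul_smul, smul_inv', mul_inv_rev, inv_inv] at h1

omit [Finite M] in
/-- the stabiliser of `x W` is in the stabiliser of `x`, `W` a proper submodule -/
theorem stab_le (h : Lw T A V x y) {W : Subgroup M} (hW : ∀ g : H, ∀ w ∈ W, g • w ∈ W) (hne : W ≠ ⊤) {g : H}
    (hg : g • x * x⁻¹ ∈ W) : g • x = x := by
  obtain ⟨S, hS⟩ := stab_mono hW h.sq x
  have hxW : x ∉ W := by
    intro hx
    apply hne
    rw [eq_top_iff, ← h.gen]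
    exact orb_le fun g _ => hW g x hx
  have h1 : S ≤ MulAction.stabilizer H x := by
    refine le_of_forall (S := T) (fun t ht => ?_) (fun g hg => h.nx g hg.2) fun P hP hPS => ?_
    · rw [hS, h.tx ht, mul_inv_cancel]
      exact W.one_mem
    · by_contra hc
      have hm : ∃ p ∈ P, p • x ≠ x := by
        by_contra hc'
        push Not at hc'
        exact hc fun p hp => hc' p hp
      obtain ⟨p, hp, hpx⟩ := hm
      have hV := (h.uni P hP ⟨p, hp, hpx⟩).1
      have h2 : p • x * x⁻¹ ∈ W := (hS p).1 (hPS hp)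
      obtain ⟨q, hq, hqx⟩ := GenTool.trans hP.le h.syl (fun t ht => h.tx ht) h.cV h.xV hV ⟨p, hp, hpx⟩
        (v := p • x * x⁻¹) (V.mul_mem (hV p hp x h.xV) (V.inv_mem h.xV)) (fun h3 => hpx (mul_inv_eq_one.1 h3))
      apply hxW
      have h3 := hW q⁻¹ _ h2
      rwa [← hqx, inv_smul_smul] at h3
  exact h1 ((hS g).2 hg)

/-- quotients of `M` by proper submodules -/
structure Qt (W : Subgroup M) {M' : Type v} [Group M'] [MulDistribMulAction H M'] (p : M →* M') : Prop where
  surj : Function.Surjective p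
  ker : p.ker = W
  eq : ∀ (g : H) (m : M), p (g • m) = g • p m

section quo

variable {W : Subgroup M} {M' : Type v} [Group M'] [MulDistribMulAction H M'] {p : M →* M'}

omit [Finite H] [Finite M] in
theorem Qt.smul_eq (D : Qt (H := H) W p) {g : H} {m : M} : g • p m = p m ↔ g • m * m⁻¹ ∈ W := by
  rw [← D.eq, ← D.ker, MonoidHom.mem_ker, map_mul, map_inv, mul_inv_eq_one]

omit [Finite H] [Finite M] in
theorem Qt.comap_cv (D : Qt (H := H) W p) (B : Subgroup H) : cv M (B : Set H) ⊔ W ≤ (cv M' (B : Set H)).comap p := by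
  refine sup_le (fun m hm b hb => ?_) (fun m hm b hb => ?_)
  · rw [← D.eq, hm b hb]
  · rw [← D.ker, MonoidHom.mem_ker] at hm
    rw [hm, smul_one]

omit [Finite H] in
theorem Qt.index_le (D : Qt (H := H) W p) (B : Subgroup H) :
    (cv M' (B : Set H)).index ≤ (cv M (B : Set H) ⊔ W).index := by
  rw [← index_comap_of_surjective _ D.surj]
  exact Nat.le_of_dvd (Nat.pos_of_ne_zero index_ne_zero_of_finite) (index_dvd_of_le (D.comap_cv B))

omit [Finite M] in
/-- `H` is faithful on `M / W` -/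
theorem faithQ (h : Lw T A V x y) (hW : ∀ g : H, ∀ w ∈ W, g • w ∈ W) (hne : W ≠ ⊤) (D : Qt (H := H) W p) {k : H}
    (hk : ∀ m' : M', k • m' = m') : k = 1 := by
  apply h.faith
  have h1 : k ∈ fxr H (orb (⊤ : Subgroup H) x) := by
    rw [mem_fxr_orb]
    intro g _
    have h2 : (g⁻¹ * k * g) • p x = p x := by
      rw [mul_smul, mul_smul, hk, inv_smul_smul]
    have h3 := h.stab_le hW hne (D.smul_eq.1 h2)
    calc k • g • x = g • ((g⁻¹ * k * g) • x) := by rw [smul_smul, smul_smul]; congr 1; group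
      _ = g • x := by rw [h3]
  rw [h.gen] at h1
  exact fun m => h1 m (mem_top m)

omit [Finite H] [Finite M] in
theorem genQ (h : Lw T A V x y) (D : Qt (H := H) W p) : orb (⊤ : Subgroup H) (p x) = ⊤ := by
  rw [eq_top_iff]
  intro m' _
  obtain ⟨m, rfl⟩ := D.surj m'
  have h1 : orb (⊤ : Subgroup H) x ≤ (orb (⊤ : Subgroup H) (p x)).comap p := orb_le fun g hg => by
    rw [mem_comap, D.eq]
    exact smul_mem_orb_self hg
  rw [h.gen] at h1
  exact h1 (mem_top m)

/-- **(ML) on `M / W`** -/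
theorem no (h : Lw T A V x y) (hW : ∀ g : H, ∀ w ∈ W, g • w ∈ W) (hne : W ≠ ⊤) (D : Qt (H := H) W p)
    {B : Subgroup H} (hB : B ≤ A) : Nat.card B ≤ (cv M' (B : Set H)).index := by
  have hfM : Finite M' := Finite.of_surjective p D.surj
  have h1 := GenTool.no (M := M') h.ml h.KH (T := T) (A := B) (x := p x) (fun m' => by
      obtain ⟨m, rfl⟩ := D.surj m'
      rw [← map_mul, h.sq, map_one]) h.two h.syl (fun t ht => by rw [← D.eq, h.tx ht]) (h.genQ D)
    (fun b hb => h.el b (hB hb)) (by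
      have e : MulAction.stabilizer H (p x) = MulAction.stabilizer H x := by
        ext g
        rw [MulAction.mem_stabilizer_iff, MulAction.mem_stabilizer_iff]
        constructor
        · intro hg
          exact h.stab_le hW hne (D.smul_eq.1 hg)
        · intro hg
          rw [← D.eq, hg]
      rw [e]
      exact hB.trans h.Ax)
  have h2 : fxr H (⊤ : Subgroup M') = ⊥ := by
    rw [eq_bot_iff]
    intro k hk
    exact mem_bot.2 (h.faithQ hW hne D fun m' => hk m' (mem_top m'))
  rwa [h2, relIndex_bot_left] at h1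

/-- **every proper submodule is centralised by `A`**; `A` is exact on `M / W` -/
theorem le_cv (h : Lw T A V x y) (hW : ∀ g : H, ∀ w ∈ W, g • w ∈ W) (hne : W ≠ ⊤) (D : Qt (H := H) W p) :
    W ≤ cv M (A : Set H) ∧ (cv M' (A : Set H)).index = Nat.card A := by
  have h1 := h.no hW hne D le_rfl
  have h2 := D.index_le A
  have h3 : (cv M (A : Set H) ⊔ W).index ∣ (cv M (A : Set H)).index := index_dvd_of_le le_sup_left
  have h4 := Nat.le_of_dvd (Nat.pos_of_ne_zero index_ne_zero_of_finite) h3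
  rw [h.exact] at h4
  refine ⟨?_, by omega⟩
  have h5 : (cv M (A : Set H) ⊔ W).index = (cv M (A : Set H)).index := by rw [h.exact]; omega
  have h6 : cv M (A : Set H) = cv M (A : Set H) ⊔ W := by
    have h7 := relIndex_mul_index (le_sup_left : cv M (A : Set H) ≤ cv M (A : Set H) ⊔ W)
    rw [h5] at h7
    have h8 : 0 < (cv M (A : Set H)).index := Nat.pos_of_ne_zero index_ne_zero_of_finite
    have h9 : (cv M (A : Set H)).relIndex (cv M (A : Set H) ⊔ W) = 1 :=
      Nat.eq_of_mul_eq_mul_right h8 (by rw [h7, one_mul])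
    exact le_antisymm le_sup_left (relIndex_eq_one.1 h9)
  rw [h6]
  exact le_sup_right

end quo

/-- the same for all proper submodules -/
theorem sub_le_cv (h : Lw T A V x y) {W : Subgroup M} (hW : ∀ g : H, ∀ w ∈ W, g • w ∈ W) (hne : W ≠ ⊤) :
    W ≤ cv M (A : Set H) := by
  have hcomm := comm_of_sq h.sq
  have hn : W.Normal := ⟨fun m hm g => by rwa [hcomm g m, mul_inv_cancel_right]⟩
  let _ := modAct W hW
  exact (h.le_cv hW hne (M' := M ⧸ W) (p := QuotientGroup.mk' W)
    ⟨QuotientGroup.mk'_surjective W, QuotientGroup.ker_mk' W, fun _ _ => rfl⟩).1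

/-- `M₀ = C_M(K₀)`, as `{m | A g m = g m for all g}` -/
def M0 (H : Type u) [Group H] (M : Type v) [Group M] [MulDistribMulAction H M] (A : Subgroup H) : Subgroup M where
  carrier := {m | ∀ g : H, ∀ a ∈ A, a • g • m = g • m}
  one_mem' := fun g a _ => by rw [smul_one, smul_one]
  mul_mem' := fun {m n} hm hn g a ha => by rw [smul_mul', smul_mul', hm g a ha, hn g a ha]
  inv_mem' := fun {m} hm g a ha => by rw [smul_inv', smul_inv', hm g a ha]

omit [Finite H] [Finite M] in
theorem mem_M0 {m : M} : m ∈ M0 H M A ↔ ∀ g : H, ∀ a ∈ A, a • g • m = g • m := Iff.rfl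

omit [Finite H] [Finite M] in
theorem M0_inv (g : H) (m : M) (hm : m ∈ M0 H M A) : g • m ∈ M0 H M A := by
  intro k a ha
  rw [← mul_smul k g]
  exact hm _ a ha

theorem le_M0 (h : Lw T A V x y) {W : Subgroup M} (hW : ∀ g : H, ∀ w ∈ W, g • w ∈ W) (hne : W ≠ ⊤) :
    W ≤ M0 H M A := fun w hw g a ha => h.sub_le_cv hW hne (hW g w hw) a ha

omit [Finite H] [Finite M] in
theorem M0_ne (h : Lw T A V x y) : M0 H M A ≠ ⊤ := by
  intro h1
  apply h.A1
  rw [eq_bot_iff]
  intro a ha
  refine mem_bot.2 (h.faith a fun m => ?_)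
  have h2 : m ∈ M0 H M A := h1 ▸ mem_top m
  simpa using h2 1 a ha

omit [Finite M] in
/-- a `T`-fixed vector in `M₀` is `H`-fixed -/
theorem fix_of_mem (h : Lw T A V x y) {m : M} (hm : m ∈ M0 H M A) (hT : ∀ t ∈ T, t • m = m) (g : H) : g • m = m := by
  have hmn := mn_of h.ml h.toLow
  have h1 : Mn.K₀ A ⊤ ⊔ T ≤ MulAction.stabilizer H m := by
    refine sup_le ?_ fun t ht => hT t ht
    rw [Mn.K₀, closure_le]
    rintro _ ⟨r, -, a, ha, rfl⟩
    change (r * a * r⁻¹) • m = m
    rw [mul_smul, mul_smul, hm r⁻¹ a ha, smul_inv_smul]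
  rw [hmn.sup_eq] at h1
  exact h1 (mem_top g)

/-- **the section** -/
theorem sys (h : Lw T A V x y) {M' : Type v} [Group M'] [MulDistribMulAction H M'] {p : M →* M'}
    (D : Qt (H := H) (M0 H M A) p) : ∃ A' : Subgroup H, Sys T A' (V.map p) (p x) (p y) := by
  have hfM : Finite M' := Finite.of_surjective p D.surj
  have hmn := mn_of h.ml h.toLow
  have hcomm := comm_of_sq h.sq
  have hinv : ∀ g : H, ∀ w ∈ M0 H M A, g • w ∈ M0 H M A := M0_inv
  have hne := h.M0_ne
  have hfx : ∀ m : M, (∀ t ∈ T, t • m = m) → p m = 1 → ∀ g : H, g • m = m := fun m hT hm =>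
    h.fix_of_mem (by rwa [← MonoidHom.mem_ker, D.ker] at hm) hT
  have sq' : ∀ m' : M', m' * m' = 1 := fun m' => by
    obtain ⟨m, rfl⟩ := D.surj m'
    rw [← map_mul, h.sq, map_one]
  obtain ⟨P₀, hP₀, -, hP₀x⟩ := hmn.exists_P
  obtain ⟨hV₀, hy₀⟩ := h.uni P₀ hP₀ hP₀x
  have hx1 : p x ≠ 1 := fun h1 => by
    obtain ⟨r, -, hr⟩ := hmn.movx
    exact hr (hfx x (fun t ht => h.tx ht) h1 r)
  have hy1 : p y ≠ 1 := fun h1 => by
    obtain ⟨r, -, hr⟩ := hmn.movy
    exact hr (hfx y (fun t ht => h.ty ht) h1 r)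
  -- a minimal parabolic which moves `p x`
  have hmov : ∀ g : H, g • p x ≠ p x → g • x ≠ x := fun g hg h1 => hg (by rw [← D.eq, h1])
  have hxst : ∀ g : H, g • p x = p x → g • x = x := fun g hg => h.stab_le hinv hne (D.smul_eq.1 hg)
  have hxy : p x ≠ p y := fun h1 => by
    obtain ⟨q, hq, hqx⟩ := hP₀x
    exact hqx (hxst q (by rw [h1, ← D.eq, hy₀ q hq]))
  have irr : ∀ W : Subgroup M', (∀ k : H, ∀ w ∈ W, k • w ∈ W) → W = ⊥ ∨ W = ⊤ := by
    intro W hW
    by_cases h1 : W.comap p = ⊤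
    · right
      rw [eq_top_iff]
      intro m' _
      obtain ⟨m, rfl⟩ := D.surj m'
      have h2 : m ∈ W.comap p := h1 ▸ mem_top m
      exact h2
    · left
      rw [eq_bot_iff]
      intro w hw
      obtain ⟨m, rfl⟩ := D.surj w
      have h2 : m ∈ M0 H M A := h.le_M0 (fun g m hm => by
        rw [mem_comap, D.eq]
        exact hW g _ hm) h1 (mem_comap.2 hw)
      rw [← D.ker, MonoidHom.mem_ker] at h2
      exact mem_bot.2 h2
  -- no vector is fixed
  have hnf : ∀ m' : M', m' ≠ 1 → MulAction.stabilizer H m' ≠ ⊤ := by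
    intro m' hm' h1
    have h2 : ∀ g : H, g • m' = m' := fun g => (h1 ▸ mem_top g : g ∈ MulAction.stabilizer H m')
    rcases irr (zpowers m') (by
      rintro g _ ⟨k, rfl⟩
      refine ⟨k, ?_⟩
      change m' ^ k = g • m' ^ k
      rw [smul_zpow', h2 g]) with h3 | h3
    · exact hm' (zpowers_eq_bot.1 h3)
    · obtain ⟨r, -, hr⟩ := hmn.movx
      obtain ⟨k, hk⟩ : p x ∈ zpowers m' := h3 ▸ mem_top _
      refine hr (hxst r ?_)
      rw [← hk]
      change r • m' ^ k = m' ^ k
      rw [smul_zpow', h2 r]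
  -- the atom
  obtain ⟨-, hexact⟩ := h.le_cv hinv hne D
  have hfin : {C : Subgroup H | C ≤ A ∧ C ≠ ⊥ ∧ (cv M' (C : Set H)).index = Nat.card C}.Finite := Set.toFinite _
  obtain ⟨A', hA'⟩ := hfin.exists_minimal ⟨A, le_rfl, h.A1, hexact⟩
  obtain ⟨hA'A, hA'1, hA'e⟩ := hA'.prop
  have el' : ∀ a ∈ A', a * a = 1 := fun a ha => h.el a (hA'A ha)
  have hATT : A' ≤ T := hA'A.trans (A_le h.toInp)
  -- stabiliser of `p x * p y`
  have hst : ∀ g : H, g • (p x * p y) = p x * p y → g • p x = p x := by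
    have h1 : MulAction.stabilizer H (p x * p y) ≤ MulAction.stabilizer H (p x) := by
      refine le_of_forall (S := T) (fun t ht => ?_) (fun g hg => ?_) fun P hP hPS => ?_
      · change t • (p x * p y) = p x * p y
        rw [smul_mul', ← D.eq, ← D.eq, h.tx ht, h.ty ht]
      · change g • p x = p x
        rw [← D.eq, h.nx g hg.2]
      · by_contra hc
        have hm : ∃ q ∈ P, q • p x ≠ p x := by
          by_contra hc'
          push Not at hc'
          exact hc fun q hq => hc' q hq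
        obtain ⟨q, hq, hqx⟩ := hm
        have h2 := (h.uni P hP ⟨q, hq, hmov q hqx⟩).2 q hq
        have h3 : q • (p x * p y) = p x * p y := hPS hq
        rw [smul_mul', ← D.eq q y, h2] at h3
        exact hqx (mul_right_cancel h3)
    exact fun g hg => h1 hg
  have htop2 : o2 (⊤ : Subgroup H) = ⊥ := by
    rw [eq_bot_iff]
    intro c hc
    have h1 := o2_le_fxr h.toInp le_top hc
    rw [h.gen] at h1
    exact mem_bot.2 (h.faith c fun m => h1 m (mem_top m))
  have four : 4 ≤ Nat.card A' := by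
    have hp : IsPGroup 2 A' := h.two.to_le hATT
    obtain ⟨k, hk⟩ := IsPGroup.iff_card.1 hp
    have hk0 : k ≠ 0 := by
      rintro rfl
      rw [pow_zero] at hk
      exact hA'1 (card_eq_one.1 hk)
    by_cases hk1 : k = 1
    · exfalso
      subst hk1
      rw [pow_one] at hk
      obtain ⟨t, ht, ht1⟩ : ∃ t ∈ A', t ≠ 1 := by
        by_contra hc
        push Not at hc
        exact hA'1 ((eq_bot_iff).2 fun t ht => mem_bot.2 (hc t ht))
      have h1 : zpowers t = A' := by
        refine eq_of_le_of_card_ge (by rwa [zpowers_le]) ?_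
        rw [hk, Nat.card_zpowers, orderOf_eq_prime (p := 2) (by rw [pow_two, el' t ht]) ht1]
      have h2 : (cv M' ({t} : Set H)).index = 2 := by
        rw [QData.cv_singleton, h1, hA'e, hk]
      have h3 := TC.TT.not_trans (M := M') sq' hst (A := o2 (MulAction.stabilizer H (p x)))
        (B := o2 (MulAction.stabilizer H (p y))) (o2_isPGroup _) (o2_isPGroup _)
        (fun g hg a ha => conj_mem_of_le (le_normalizer_o2 _) hg ha)
        (fun g hg a ha => conj_mem_of_le (le_normalizer_o2 _) hg ha)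
        (h.low _ (fun s hs => by
          change s • p x = p x
          rw [← D.eq, h.tx hs]) (hnf _ hx1) (hA'A ht))
        (h.low _ (fun s hs => by
          change s • p y = p y
          rw [← D.eq, h.ty hs]) (hnf _ hy1) (hA'A ht)) (el' t ht) (fun h3 => ht1 (by
          have h4 : t ∈ o2 (⊤ : Subgroup H) := by
            have h5 : pCore 2 H ≤ o2 (⊤ : Subgroup H) := le_o2 le_top (Lib.Cores.pCore_isPGroup 2)
              (le_normalizer_of fun g _ n hn => (Lib.Cores.pCore_normal 2).conj_mem n hn g)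
            exact h5 h3
          rw [htop2] at h4
          exact mem_bot.1 h4))
      omega
    · rw [hk]
      calc 4 = 2 ^ 2 := rfl
        _ ≤ 2 ^ k := Nat.pow_le_pow_right (by norm_num) (by omega)
  refine ⟨A', ?_⟩
  exact
  { sq := sq'
    faith := fun k hk => h.faithQ hinv hne D hk
    gen := h.genQ D
    two := h.two
    syl := h.syl
    x1 := hx1
    y1 := hy1
    xy := hxy
    nx := fun g hg => by rw [← D.eq, h.nx g hg]
    ny := fun g hg => by rw [← D.eq, h.ny g hg]
    cV := by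
      have hVf : Finite V := Nat.finite_of_card_ne_zero (by rw [h.cV]; norm_num)
      rw [← h.cV]
      refine Nat.card_congr (Equiv.ofBijective (fun w : V => (⟨p w, mem_map_of_mem p w.2⟩ : V.map p)) ⟨?_, ?_⟩).symm
      · intro a b hab
        by_contra hne'
        have h1 : p a = p b := congrArg Subtype.val hab
        have h2 : (a : M) * (b : M)⁻¹ ∈ M0 H M A := by
          rw [← D.ker, MonoidHom.mem_ker, map_mul, map_inv, h1, mul_inv_cancel]
        obtain ⟨q, hq, hqx⟩ := GenTool.trans hP₀.le h.syl (fun t ht => h.tx ht) h.cV h.xV hV₀ hP₀x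
          (v := (a : M) * (b : M)⁻¹) (V.mul_mem a.2 (V.inv_mem b.2)) (fun h3 => hne' (Subtype.ext (mul_inv_eq_one.1 h3)))
        have h3 := hinv q⁻¹ _ h2
        rw [← hqx, inv_smul_smul, ← D.ker, MonoidHom.mem_ker] at h3
        exact hx1 h3
      · rintro ⟨_, w, hw, rfl⟩
        exact ⟨⟨w, hw⟩, rfl⟩
    xV := mem_map_of_mem p h.xV
    uni := by
      rintro P hP ⟨q, hq, hqx⟩
      obtain ⟨h1, h2⟩ := h.uni P hP ⟨q, hq, hmov q hqx⟩
      constructor
      · rintro r hr _ ⟨w, hw, rfl⟩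
        exact ⟨r • w, h1 r hr w hw, D.eq r w⟩
      · intro r hr
        rw [← D.eq, h2 r hr]
    el := el'
    A1 := hA'1
    exact := hA'e
    atom := by
      intro C hC hC1 hC2
      refine lt_of_le_of_ne (h.no hinv hne D (hC.trans hA'A)) fun h1 => hC2 ?_
      exact le_antisymm hC (hA'.le_of_le ⟨hC.trans hA'A, hC1, h1.symm⟩ hC)
    irr := irr
    AT := hATT
    four := four
    low := fun R hTR hR => hA'A.trans (h.low R hTR hR)
    nmax := by
      rintro ⟨N, hN, hmax⟩
      have h1 : IsMinPar T (⊤ : Subgroup H) := by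
        refine ⟨le_top, fun h2 => ?_, N, lt_top_iff_ne_top.2 hN, fun K hK hK1 => hmax K hK hK1.ne⟩
        obtain ⟨r, -, hr⟩ := hmn.movx
        exact hr (h.nx r (h2 (mem_top r)))
      obtain ⟨r, -, hr⟩ := hmn.movx
      obtain ⟨s, -, hs⟩ := hmn.movy
      exact hs ((h.uni ⊤ h1 ⟨r, mem_top r, hr⟩).2 s (mem_top s))
    KH := h.KH }

end Lw

/-- **(P1), second half** -/
theorem exists_sys (ml : MLK.{u, v}) (h : Low T A V x y) :
    ∃ (M' : Type v) (_ : Group M') (_ : Finite M') (_ : MulDistribMulAction H M') (A' : Subgroup H) (V' : Subgroup M')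
      (x' y' : M'), Sys T A' V' x' y' := by
  have hL : Lw T A V x y := { h with ml := ml }
  have hcomm := comm_of_sq h.sq
  have hn : (Lw.M0 H M A).Normal := ⟨fun m hm g => by rwa [hcomm g m, mul_inv_cancel_right]⟩
  let _ := modAct (H := H) (Lw.M0 H M A) Lw.M0_inv
  obtain ⟨A', hs⟩ := hL.sys (M' := M ⧸ Lw.M0 H M A) (p := QuotientGroup.mk' (Lw.M0 H M A))
    ⟨QuotientGroup.mk'_surjective _, QuotientGroup.ker_mk' _, fun _ _ => rfl⟩
  exact ⟨M ⧸ Lw.M0 H M A, inferInstance, inferInstance, inferInstance, A', _, _, _, hs⟩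

end Cfsg.Agent.Omega.KL.GenB

namespace Cfsg.Agent.Omega.KL

open Def GenA GenB Cfsg.Agent.Omega.ML.Final

universe u v

/-- **(P1)** : the input of THEOREM KL gives the middle, for a section. -/
theorem exists_sys_of_inp {H : Type u} [Group H] [Finite H] {M : Type v} [Group M] [Finite M] [MulDistribMulAction H M]
    {T A : Subgroup H} {V : Subgroup M} {x y : M} (ml : MLK.{u, v}) (h : Inp T A V x y) :
    ∃ (H' : Type u) (_ : Group H') (_ : Finite H') (M' : Type v) (_ : Group M') (_ : Finite M')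
      (_ : MulDistribMulAction H' M') (T' A' : Subgroup H') (V' : Subgroup M') (x' y' : M'), Sys T' A' V' x' y' := by
  obtain ⟨H', _, _, M', _, _, _, T', A', V', x', y', hl⟩ := exists_low ml h
  obtain ⟨M'', _, _, _, A'', V'', x'', y'', hs⟩ := exists_sys ml hl
  exact ⟨H', inferInstance, inferInstance, M'', inferInstance, inferInstance, inferInstance, _, _, _, _, _, hs⟩

end Cfsg.Agent.Omega.KL
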