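import Cfsg.Agent.Omega.KL.Gal
import Cfsg.Agent.Omega.KL.Def
import Cfsg.Agent.Omega.ML.LieRow.Lie

/-!
# THEOREM KL, the groups of Lie type in characteristic two (helper233)

`Two T V x y`, `M` irreducible, `K` normal and simple, `H = K T`; `K` has a split (B,N)-pair of characteristic two:
impossible.

* `RO` : the subgroup generated by `T` and the `U d`, `d` in the residue of a `T`-orbit of types: a minimal parabolic;
* `exists_move`, `fix_of_stab` : `U c` moves `V`; the stabiliser of the chamber `c` fixes `x`;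
* `pan` : `f (k • c) = k • x` is constant on the panel of `c`, or `x` is the product of two other values;
* **`false_of_hact`**, **`false_of_split`**, **`false_of_lie`**, **`KK.false_of_lie`**.
-/

set_option autoImplicit false
set_option linter.unusedSectionVars false

namespace Cfsg.Agent.Omega.KL.LieTwo

open Cfsg.Agent.Tits.Core Cfsg.Agent.Tits.Core.Bldg Cfsg.Agent.Tits.Exchange Cfsg.Agent.Tits
open Cfsg.Agent.FixBN Cfsg.Agent.FixBN.Cox Cfsg.Agent.UGT.U2.FOne Cfsg.Agent.Omega.ML.LieRow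
open Cfsg.Agent.MinSimple.MinParabolic (IsMinPar le_of_forall)
open Cfsg.Agent.Omega.KL.Def (Two KK)
open Cfsg.Agent.Omega.ML.MinFrame (orb)

variable {I : Type*} {Mx : CoxeterMatrix I} {W : Type*} [Group W] {cs : CoxeterSystem Mx W} {C : Type*}
  {Δ : Bldg cs C}

local prefix:100 "ℓ" => cs.length

universe u v

variable {H : Type u} [Group H] {K : Subgroup H} [MulAction K C] (A : HAct Δ K)
  [F : OppRes.Cox cs] (S : Sys Δ K 2)

/-- the `T`-orbit of a type -/
def Orb (T : Subgroup H) (i : I) : Set I := {j | ∃ t ∈ T, A.σ t i = j}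

variable (Δ) in
/-- the subgroup generated by `T` and the `U d`, `d` in the `O`-residue of `c` -/
def RO (T : Subgroup H) (O : Set I) (c : C) : Subgroup H :=
  T ⊔ ⨆ d : Δ.Res O c, (S.U d).map K.subtype

section

variable {T : Subgroup H} {O : Set I} {c : C}

omit F in
theorem T_le_RO : T ≤ RO Δ S T O c := le_sup_left

omit F in
theorem U_le_RO {d : C} (hd : d ∈ Δ.Res O c) {k : K} (hk : k ∈ S.U d) : (k : H) ∈ RO Δ S T O c :=
  (le_sup_right : _ ≤ RO Δ S T O c) ((le_iSup (fun d : Δ.Res O c => (S.U d).map K.subtype) ⟨d, hd⟩) ⟨k, hk, rfl⟩)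

omit F in
theorem RO_le {X : Subgroup H} (hT : T ≤ X) (h : ∀ d ∈ Δ.Res O c, ∀ k ∈ S.U d, (k : H) ∈ X) : RO Δ S T O c ≤ X := by
  refine sup_le hT (iSup_le ?_)
  rintro ⟨d, hd⟩ _ ⟨k, hk, rfl⟩
  exact h d hd k hk

/-- `RO ∩ K` moves `c` to all chambers of the residue -/
theorem mem_tp (hth : Δ.Thick) {X : Subgroup K} (h : ∀ d ∈ Δ.Res O c, ∀ k ∈ S.U d, k ∈ X) {j : I} (hj : j ∈ O) :
    j ∈ tp Δ X c := by
  obtain ⟨a, b, hab, ha, hb⟩ := hth c j
  have hba : Δ.δ a b = cs.simple j := Δ.δ_eq_of_mem_Pan (Or.inr ha) (Or.inr hb) hab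
  have hac : Δ.δ a c = cs.simple j := Δ.δ_symm_simple ha
  obtain ⟨u, hu, huc⟩ := S.exists_move (hac.trans hba.symm)
  refine ⟨u, h a ?_ u hu, by rw [huc]; exact hb⟩
  exact Δ.Pan_subset_Res hj c (Or.inr ha)

theorem exists_RO (hth : Δ.Thick) {d : C} (hd : d ∈ Δ.Res O c) (hUc : S.U c ≤ (RO Δ S T O c).subgroupOf K) :
    ∃ k : K, (k : H) ∈ RO Δ S T O c ∧ k • c = d := by
  have h1 : O ⊆ tp Δ ((RO Δ S T O c).subgroupOf K) c := fun j hj =>
    mem_tp S hth (fun d hd k hk => Subgroup.mem_subgroupOf.2 (U_le_RO S hd hk)) hj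
  obtain ⟨g, hg, hgc⟩ := exists_smul S hUc (y := d) (OppRes.WJ_mono h1 hd)
  exact ⟨g, Subgroup.mem_subgroupOf.1 hg, hgc⟩

end

section Main

variable [K.Normal] [Nonempty C] {T : Subgroup H} (hKT : K ⊔ T = ⊤)

include A S hKT in
theorem inv_Orb (i : I) : A.Inv (Orb A T i) := by
  apply inv_of_T A S hKT
  rintro t ht _ ⟨s, hs, rfl⟩
  exact ⟨t * s, mul_mem ht hs, A.σ_mul t s i⟩

theorem mem_Orb (i : I) : i ∈ Orb A T i := ⟨1, one_mem _, A.σ_one i⟩

variable {c : C} (hc : ∀ t ∈ T, A.θ t c = c) (hUc : S.U c = T.subgroupOf K)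

include hc in
/-- `RO` preserves the residue -/
theorem RO_le_Stb {O : Set I} (hO : A.Inv O) : RO Δ S T O c ≤ HAct.Stb O hO c := by
  refine RO_le S (le_Stb A S hO hc) ?_
  intro d hd k hk
  rw [HAct.mem_Stb, A.θ_K]
  refine OppRes.delta_mem_of_mem (y := d) hd ?_
  rw [← S.fix d k hk, S.iso, Δ.symm c d]
  exact inv_mem hd

include hc hUc hKT in
/-- **`RO` is a minimal parabolic** if it moves a vector fixed by `N(T)` -/
theorem isMinPar (hth : Δ.Thick) (i : I)
    (hne : ¬ RO Δ S T (Orb A T i) c ≤ Subgroup.normalizer (T : Set H)) :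
    IsMinPar T (RO Δ S T (Orb A T i) c) := by
  have hO := inv_Orb A S hKT i
  have hU : S.U c ≤ (RO Δ S T (Orb A T i) c).subgroupOf K := fun k hk => by
    rw [Subgroup.mem_subgroupOf]
    exact U_le_RO S (Δ.self_mem_Res _ c) hk
  have hE : A.Inv (∅ : Set I) := fun _ i hi => absurd hi (Set.notMem_empty i)
  refine ⟨T_le_RO S, hne, RO Δ S T (Orb A T i) c ⊓ HAct.Stb ∅ hE c, ?_, ?_⟩
  · refine lt_of_le_of_ne inf_le_left fun h => ?_
    obtain ⟨y, -, -, hy, -⟩ := hth c i
    obtain ⟨k, hk, hkc⟩ := exists_RO S hth (T := T) (Δ.Pan_subset_Res (mem_Orb A i) c (Or.inr hy)) hU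
    rw [← h] at hk
    have h1 : (k : H) ∈ HAct.Stb ∅ hE c := hk.2
    rw [HAct.mem_Stb, A.θ_K, hkc, hy] at h1
    exact absurd (mem_of_simple_mem h1) (Set.notMem_empty i)
  · intro Q hTQ hQ
    refine le_inf hQ.le ?_
    have hUQ : S.U c ≤ Q.subgroupOf K := by
      rw [hUc]
      exact fun k hk => hTQ hk
    have htp : tp Δ (Q.subgroupOf K) c ⊆ Orb A T i := by
      rintro j ⟨g, hg, hgc⟩
      have h1 := RO_le_Stb A S hc hO (hQ.le (Subgroup.mem_subgroupOf.1 hg))
      rw [HAct.mem_Stb, A.θ_K, hgc] at h1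
      exact mem_of_simple_mem h1
    have hinv : A.Inv (tp Δ (Q.subgroupOf K) c) := by
      apply inv_of_T A S hKT
      rintro t ht i ⟨g, hg, hgc⟩
      refine ⟨MulAut.conjNormal t g, ?_, ?_⟩
      · rw [Subgroup.mem_subgroupOf, MulAut.conjNormal_apply]
        exact mul_mem (mul_mem (hTQ ht) hg) (inv_mem (hTQ ht))
      · have h1 := θ_conj A S t g c
        rw [hc t ht] at h1
        have h2 : Δ.δ c (A.θ t (g • c)) = Δ.δ (A.θ t c) (A.θ t (g • c)) := by rw [hc t ht]
        rw [← h1, h2, A.δ_θ, hgc, A.φ_simple]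
    have hempty : tp Δ (Q.subgroupOf K) c = ∅ := by
      by_contra hcon
      obtain ⟨j, hj⟩ := Set.nonempty_iff_ne_empty.2 hcon
      have hall : Orb A T i ⊆ tp Δ (Q.subgroupOf K) c := by
        obtain ⟨t, ht, rfl⟩ := htp hj
        rintro _ ⟨s, hs, rfl⟩
        have h1 := hinv (s * t⁻¹) _ hj
        rwa [A.σ_mul, A.σ_inv_σ] at h1
      apply hQ.not_ge
      refine RO_le S hTQ ?_
      intro d hd k hk
      obtain ⟨g, hg, rfl⟩ := exists_smul S hUQ (y := d) (OppRes.WJ_mono hall hd)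
      rw [Subgroup.mem_subgroupOf] at hg
      have h3 : g * (g⁻¹ * k * g) * g⁻¹ ∈ S.U (g • c) := by
        have : g * (g⁻¹ * k * g) * g⁻¹ = k := by group
        rwa [this]
      have h4 := hUQ ((S.conj_mem_U_iff).1 h3)
      rw [Subgroup.mem_subgroupOf] at h4
      have h5 := mul_mem (mul_mem hg h4) (inv_mem hg)
      have : (g : H) * ((g⁻¹ * k * g : K) : H) * (g : H)⁻¹ = k := by
        push_cast
        group
      rwa [this] at h5
    intro q hq
    rw [HAct.mem_Stb]
    obtain ⟨k, t, ht, rfl⟩ := exists_kt A S hKT q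
    rw [A.θ_mul, hc t ht, A.θ_K, ← hempty]
    refine delta_mem_tp S hth hUQ k ?_
    rw [Subgroup.mem_subgroupOf]
    have h1 := mul_mem hq (inv_mem (hTQ ht))
    rwa [mul_inv_cancel_right] at h1

variable {M : Type v} [Group M] [MulDistribMulAction H M] {V : Subgroup M} {x y : M}

/-- the third element of a four group -/
theorem third {V : Subgroup M} (sq : ∀ m : M, m * m = 1) (cV : Nat.card V = 4) {a b c : M} (ha : a ∈ V) (hb : b ∈ V)
    (hc : c ∈ V) (ha1 : a ≠ 1) (hb1 : b ≠ 1) (hc1 : c ≠ 1) (hab : a ≠ b) (hac : a ≠ c) (hbc : b ≠ c) : a = b * c := by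
  classical
  by_contra hne
  have hbc1 : b * c ≠ 1 := by
    intro h
    apply hbc
    rw [← mul_one b, ← sq c, ← mul_assoc, h, one_mul]
  have hbcb : b * c ≠ b := fun h => hc1 (mul_eq_left.1 h)
  have hbcc : b * c ≠ c := fun h => hb1 (mul_eq_right.1 h)
  have hfin : Finite V := Nat.finite_of_card_ne_zero (by rw [cV]; decide)
  have := Fintype.ofFinite V
  have h5 : Finset.card ({1, ⟨a, ha⟩, ⟨b, hb⟩, ⟨c, hc⟩, ⟨b * c, mul_mem hb hc⟩} : Finset V) = 5 := by
    rw [Finset.card_insert_of_notMem, Finset.card_insert_of_notMem, Finset.card_insert_of_notMem,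
      Finset.card_insert_of_notMem, Finset.card_singleton]
    · simp only [Finset.mem_singleton, Subtype.mk.injEq]; exact fun h => hbcc h.symm
    · simp only [Finset.mem_insert, Finset.mem_singleton, Subtype.mk.injEq]
      rintro (h | h)
      · exact hbc h
      · exact hbcb h.symm
    · simp only [Finset.mem_insert, Finset.mem_singleton, Subtype.mk.injEq]
      rintro (h | h | h)
      · exact hab h
      · exact hac h
      · exact hne h
    · simp only [Finset.mem_insert, Finset.mem_singleton]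
      rintro (h | h | h | h)
      · exact ha1 (congrArg Subtype.val h).symm
      · exact hb1 (congrArg Subtype.val h).symm
      · exact hc1 (congrArg Subtype.val h).symm
      · exact hbc1 (congrArg Subtype.val h).symm
  have h6 := Finset.card_le_univ ({1, ⟨a, ha⟩, ⟨b, hb⟩, ⟨c, hc⟩, ⟨b * c, mul_mem hb hc⟩} : Finset V)
  rw [h5, ← Nat.card_eq_fintype_card, cV] at h6
  omega

variable (h : Two T V x y) (irr : ∀ N : Subgroup M, (∀ g : H, ∀ w ∈ N, g • w ∈ N) → N = ⊥ ∨ N = ⊤)

include h in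
/-- a mover normalises `V` -/
theorem mover {P : Subgroup H} (hP : IsMinPar T P) (hm : ¬ ∀ p ∈ P, p • x = x) : ∀ p ∈ P, ∀ w ∈ V, p • w ∈ V := by
  push Not at hm
  exact (h.uni P hP hm).1

include h irr in
/-- `H` moves `x` -/
theorem moves : ∃ g : H, g • x ≠ x := by
  by_contra hcon
  push Not at hcon
  have h1 : ∀ m ∈ Subgroup.zpowers x, m = 1 ∨ m = x := by
    rintro m ⟨n, rfl⟩
    change x ^ n = 1 ∨ x ^ n = x
    rcases Int.even_or_odd' n with ⟨k, rfl | rfl⟩
    · left
      rw [zpow_mul, zpow_ofNat, pow_two, h.sq, one_zpow]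
    · right
      rw [zpow_add, zpow_mul, zpow_ofNat, pow_two, h.sq, one_zpow, one_mul, zpow_one]
  rcases irr (Subgroup.zpowers x) (fun g w hw => by
    rcases h1 w hw with rfl | rfl
    · rw [smul_one]; exact one_mem _
    · rw [hcon]; exact hw) with h2 | h2
  · exact h.x1 (Subgroup.zpowers_eq_bot.1 h2)
  · have h3 : y ∈ Subgroup.zpowers x := by rw [h2]; trivial
    rcases h1 y h3 with h4 | h4
    · exact h.y1 h4
    · exact h.xy h4.symm

include A hKT hc hUc h irr in
/-- **`U c` moves `V`** -/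
theorem exists_move [IsSimpleGroup K] [Nonempty I] (hth : Δ.Thick) : ∃ k ∈ S.U c, ∃ w ∈ V, (k : H) • w ≠ w := by
  by_contra hcon
  push Not at hcon
  -- some `RO` moves `x`
  set X : Subgroup K := (MulAction.stabilizer H x).subgroupOf K with hX
  have hUX : S.U c ≤ X := by
    rw [hUc]
    exact fun k hk => h.tx hk
  have hXt : X ≠ ⊤ := by
    intro hXt
    obtain ⟨g, hg⟩ := moves h irr
    apply hg
    obtain ⟨k, t, ht, rfl⟩ := exists_kt A S hKT g
    rw [mul_smul, h.tx ht]
    have h1 : k ∈ X := by rw [hXt]; trivial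
    exact h1
  obtain ⟨i, hi⟩ : ∃ i, i ∉ tp Δ X c := by
    by_contra h1
    push Not at h1
    exact hXt (eq_top_of_tp S hth hUX (Set.eq_univ_iff_forall.2 h1))
  have hmv : ¬ ∀ p ∈ RO Δ S T (Orb A T i) c, p • x = x := by
    intro h1
    apply hi
    refine mem_tp S hth (O := Orb A T i) ?_ (mem_Orb A i)
    intro d hd k hk
    exact h1 k (U_le_RO S hd hk)
  have hmin : IsMinPar T (RO Δ S T (Orb A T i) c) := by
    refine isMinPar A S hKT hc hUc hth i ?_
    intro h1
    exact hmv fun p hp => h.nx p (h1 hp)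
  have hV := mover h hmin hmv
  apply hmv
  have hle : RO Δ S T (Orb A T i) c ≤ MulAction.stabilizer H x := by
    refine RO_le S (fun t ht => h.tx ht) ?_
    intro d hd k hk
    have hU : S.U c ≤ (RO Δ S T (Orb A T i) c).subgroupOf K := fun k hk => by
      rw [Subgroup.mem_subgroupOf]
      exact U_le_RO S (Δ.self_mem_Res _ c) hk
    obtain ⟨g, hg, rfl⟩ := exists_RO S hth (T := T) hd hU
    have h3 : g * (g⁻¹ * k * g) * g⁻¹ ∈ S.U (g • c) := by
      have : g * (g⁻¹ * k * g) * g⁻¹ = k := by group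
      rwa [this]
    have h4 := hcon _ ((S.conj_mem_U_iff).1 h3) _ (hV _ (inv_mem hg) x h.xV)
    have h5 : (k : H) • x = (g : H) • ((g⁻¹ * k * g : K) : H) • (g : H)⁻¹ • x := by
      rw [smul_smul, smul_smul]
      congr 1
      push_cast
      group
    rw [MulAction.mem_stabilizer_iff, h5, h4, smul_inv_smul]
  exact fun p hp => hle hp

include A hKT hc hUc h irr in
/-- **the stabiliser of `c` fixes `x`** -/
theorem fix_of_stab [Finite H] [IsSimpleGroup K] [Nonempty I] (hth : Δ.Thick) {g : H} (hg : A.θ g c = c) :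
    g • x = x := by
  obtain ⟨k₀, hk₀, w₀, hw₀, hne⟩ := exists_move A S hKT hc hUc h irr hth
  let B : Subgroup H :=
    { carrier := {g | A.θ g c = c}
      one_mem' := A.θ_one c
      mul_mem' := fun {a b} (ha : A.θ a c = c) (hb : A.θ b c = c) => by
        change A.θ (a * b) c = c
        rw [A.θ_mul, hb, ha]
      inv_mem' := fun {a} (ha : A.θ a c = c) => by
        change A.θ a⁻¹ c = c
        have := A.θ_inv_θ a c
        rwa [ha] at this }
  have hB : B ≤ MulAction.stabilizer H x := by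
    refine le_of_forall (S := T) (fun t ht => hc t ht) (fun g hg => h.nx g hg.2) ?_
    intro P hP hPB
    by_contra hPx
    have hmv : ¬ ∀ p ∈ P, p • x = x := fun h1 => hPx fun p hp => h1 p hp
    have hV := mover h hP hmv
    push Not at hmv
    obtain ⟨p, hp, hpx⟩ := hmv
    -- `U c` fixes `x` and `p • x`
    have h1 : ∀ k ∈ S.U c, (k : H) • x = x := by
      intro k hk
      rw [hUc] at hk
      exact h.tx hk
    have h2 : ∀ k ∈ S.U c, (k : H) • p • x = p • x := by
      intro k hk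
      have h3 := conj_mem_U A S p⁻¹ hk
      have h3' : A.θ p⁻¹ c = c := B.inv_mem (hPB hp)
      rw [h3'] at h3
      have h4 := h1 _ h3
      rw [MulAut.conjNormal_apply, inv_inv] at h4
      have h5 : (k : H) • p • x = p • (p⁻¹ * (k : H) * p) • x := by
        rw [smul_smul, smul_smul]
        congr 1
        group
      rw [h5, h4]
    -- so it centralises `V`
    apply hne
    by_cases hw1 : w₀ = 1
    · rw [hw1, smul_one]
    by_cases hwx : w₀ = x
    · rw [hwx, h1 _ hk₀]
    by_cases hwp : w₀ = p • x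
    · rw [hwp, h2 _ hk₀]
    have hp1 : p • x ≠ 1 := by
      intro h3
      apply h.x1
      rw [← inv_smul_smul p x, h3, smul_one]
    have h3 := third h.sq h.cV hw₀ h.xV (hV p hp x h.xV) hw1 h.x1 hp1 hwx hwp (Ne.symm hpx)
    rw [h3, smul_mul', h1 _ hk₀, h2 _ hk₀]
  exact hB hg

include A hKT hc hUc h irr in
/-- **THEOREM KL, groups of Lie type in characteristic two: the contradiction** -/
theorem false_of_hact [Finite H] [Finite M] [Finite C] [IsSimpleGroup K] [Nonempty I] (hth : Δ.Thick) : False := by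
  classical
  have hB : ∀ {g : H}, A.θ g c = c → g • x = x := fun hg => fix_of_stab A S hKT hc hUc h irr hth hg
  have htr := exists_smul_top S hth c
  choose κ hκ using htr
  set f : C → M := fun d => (κ d : H) • x with hf
  have hfc : ∀ k : K, f (k • c) = (k : H) • x := by
    intro k
    have h1 : A.θ ((k⁻¹ * κ (k • c) : K) : H) c = c := by
      rw [A.θ_K, mul_smul, hκ, inv_smul_smul]
    have h2 := hB h1
    change (κ (k • c) : H) • x = (k : H) • x
    have h3 : (κ (k • c) : H) • x = (k : H) • ((k⁻¹ * κ (k • c) : K) : H) • x := by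
      rw [smul_smul]
      congr 1
      push_cast
      group
    rw [h3, h2]
  have hfc1 : f c = x := by
    have := hfc 1
    rwa [one_smul, OneMemClass.coe_one, one_smul] at this
  have hfK : ∀ (k : K) d, f (k • d) = (k : H) • f d := by
    intro k d
    rw [← hκ d, smul_smul, hfc, hfc, Subgroup.coe_mul, mul_smul]
  have hgen : ∀ N : Subgroup M, (∀ d, f d ∈ N) → N = ⊤ := by
    intro N hN
    rw [eq_top_iff, ← h.gen, orb, Subgroup.closure_le]
    rintro _ ⟨g, -, rfl⟩
    obtain ⟨k, t, ht, rfl⟩ := exists_kt A S hKT g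
    rw [mul_smul, h.tx ht, ← hfc]
    exact hN _
  -- the panels of `c`
  have hpc : ∀ i, (∀ d', Δ.δ c d' = cs.simple i → f d' = f c) ∨
      ∃ d₁ d₂, Δ.δ c d₁ = cs.simple i ∧ Δ.δ c d₂ = cs.simple i ∧ f c = f d₁ * f d₂ := by
    intro i
    by_cases h1 : ∀ d', Δ.δ c d' = cs.simple i → f d' = f c
    · exact Or.inl h1
    right
    push Not at h1
    obtain ⟨d, hd, hfd⟩ := h1
    have hU : S.U c ≤ (RO Δ S T (Orb A T i) c).subgroupOf K := fun k hk => by
      rw [Subgroup.mem_subgroupOf]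
      exact U_le_RO S (Δ.self_mem_Res _ c) hk
    have hRO : ∀ d', Δ.δ c d' = cs.simple i → ∃ k : K, (k : H) ∈ RO Δ S T (Orb A T i) c ∧ k • c = d' := fun d' hd' =>
      exists_RO S hth (T := T) (Δ.Pan_subset_Res (mem_Orb A i) c (Or.inr hd')) hU
    have hmv : ¬ ∀ p ∈ RO Δ S T (Orb A T i) c, p • x = x := by
      intro h2
      obtain ⟨k, hk, rfl⟩ := hRO d hd
      apply hfd
      rw [hfc, hfc1, h2 k hk]
    have hmin : IsMinPar T (RO Δ S T (Orb A T i) c) := by
      refine isMinPar A S hKT hc hUc hth i ?_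
      intro h1
      exact hmv fun p hp => h.nx p (h1 hp)
    have hV := mover h hmin hmv
    have hfV : ∀ d', Δ.δ c d' = cs.simple i → f d' ∈ V := by
      intro d' hd'
      obtain ⟨k, hk, rfl⟩ := hRO d' hd'
      rw [hfc]
      exact hV _ hk x h.xV
    have hf1 : ∀ d', f d' ≠ 1 := by
      intro d' h2
      apply h.x1
      rw [← inv_smul_smul (κ d' : H) x]
      change (κ d' : H)⁻¹ • f d' = 1
      rw [h2, smul_one]
    have hfx : ∀ d', Δ.δ c d' = cs.simple i → f d' ≠ f c := by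
      intro d' hd' h2
      obtain ⟨u, hu, rfl⟩ := S.exists_move (hd'.trans hd.symm)
      apply hfd
      rw [hfK, h2, hfc1]
      rw [hUc] at hu
      exact h.tx hu
    -- `f` is injective on the panel
    obtain ⟨a, b, hab, ha, hb⟩ := hth c i
    have hfab : f a ≠ f b := by
      have h2 : Δ.δ a b = cs.simple i := Δ.δ_eq_of_mem_Pan (Or.inr ha) (Or.inr hb) hab
      obtain ⟨k, hk⟩ : ∃ k : K, k • c = a := ⟨κ a, hκ a⟩
      have h3 : Δ.δ c (k⁻¹ • b) = cs.simple i := by
        rw [← h2, ← hk, ← S.iso k c, smul_inv_smul]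
      have h4 := hfx _ h3
      intro h5
      apply h4
      rw [hfK, ← h5, ← hk, ← hfK, inv_smul_smul]
    exact ⟨a, b, ha, hb, third h.sq h.cV (hfc1 ▸ h.xV) (hfV a ha) (hfV b hb) (hf1 c) (hf1 a) (hf1 b)
      (hfx a ha).symm (hfx b hb).symm hfab⟩
  have hpan : ∀ i d, (∀ d', Δ.δ d d' = cs.simple i → f d' = f d) ∨
      ∃ d₁ d₂, Δ.δ d d₁ = cs.simple i ∧ Δ.δ d d₂ = cs.simple i ∧ f d = f d₁ * f d₂ := by
    intro i d
    obtain ⟨k, rfl⟩ : ∃ k : K, k • c = d := ⟨κ d, hκ d⟩
    rcases hpc i with h1 | ⟨d₁, d₂, h1, h2, h3⟩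
    · left
      intro d' hd'
      have h2 : Δ.δ c (k⁻¹ • d') = cs.simple i := by
        rw [← hd', ← S.iso k c, smul_inv_smul]
      have h3 := h1 _ h2
      rw [hfK, ← h3, ← hfK, smul_inv_smul]
    · right
      refine ⟨k • d₁, k • d₂, by rw [S.iso]; exact h1, by rw [S.iso]; exact h2, ?_⟩
      rw [hfK, hfK, hfK, h3, smul_mul']
  refine h.xy (Gal.fixed_eq A (S := S) hth h.sq irr hfK hgen hpan (c := c) ?_ ?_ h.x1 h.y1)
  · intro k hk
    rw [hUc] at hk
    exact h.tx hk
  · intro k hk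
    rw [hUc] at hk
    exact h.ty hk

end Main

end Cfsg.Agent.Omega.KL.LieTwo

namespace Cfsg.Agent.Omega.KL.LieTwo

open Subgroup Cfsg Cfsg.Agent.ZN Cfsg.Agent.Omega.ML.Rows Cfsg.Agent.Omega.ML.LieRow Cfsg.Agent.UGT.U2.FOne
open Cfsg.Agent.Tits.Core Cfsg.Agent.Tits.OfBN Cfsg.Agent.Schreier.BNSch Cfsg.Agent.FixBN
open Cfsg.Agent.Omega.KL.Def (Two KK)

universe u v

/-- **`K` has no split (B,N)-pair of characteristic two.** -/
theorem false_of_split {H : Type u} [Group H] [Finite H] {M : Type v} [Group M] [Finite M] [MulDistribMulAction H M]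
    {K T : Subgroup H} {V : Subgroup M} {x y : M} (h : Two T V x y)
    (irr : ∀ N : Subgroup M, (∀ g : H, ∀ w ∈ N, g • w ∈ N) → N = ⊥ ∨ N = ⊤) (norm : K.Normal)
    (simple : IsSimpleGroup K) (KT : K ⊔ T = ⊤) (hs : HasSplit 2 K) : False := by
  have : Fact (Nat.Prime 2) := ⟨Nat.prime_two⟩
  obtain ⟨P, U, hne, hsp⟩ := hs
  have hN : ((P.B ⊓ P.N).subgroupOf P.N).Normal := normal_subgroupOf P
  obtain ⟨Mx, cs, hcs⟩ := S0320.result P
  have hI : Finite P.S := OfBN.finite_I (Equiv.refl P.S)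
  have hIn : Nonempty P.S := hne.to_subtype
  have S := OfBN.sys (Equiv.refl P.S) cs hcs hsp
  have hth := thick P (Equiv.refl P.S) cs hcs
  obtain ⟨A⟩ := exists_hact S hth (fun τ => UGT.U2.FOne.exists_mv hsp (Equiv.refl P.S) cs hcs τ)
  obtain ⟨c, hc, hUc⟩ := exists_chamber A S hth h.two h.syl
  have hC : Nonempty (K ⧸ P.B) := ⟨c⟩
  exact false_of_hact A S KT hc hUc h irr hth

/-- **`K` is not of Lie type in characteristic two.** -/
theorem false_of_lie {H : Type u} [Group H] [Finite H] {M : Type v} [Group M] [Finite M] [MulDistribMulAction H M]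
    {K T : Subgroup H} {V : Subgroup M} {x y : M} (h : Two T V x y)
    (irr : ∀ N : Subgroup M, (∀ g : H, ∀ w ∈ N, g • w ∈ N) → N = ⊥ ∨ N = ⊤) (norm : K.Normal)
    (simple : IsSimpleGroup K) (KT : K ⊔ T = ⊤) (hK : IsLieTypeChar 2 K) : False :=
  false_of_split h irr norm simple KT (hasSplit_of_lie hK)

/-- **(P4) of THEOREM KL.** -/
theorem not_lie {H : Type u} [Group H] [Finite H] {M : Type v} [Group M] [Finite M] [MulDistribMulAction H M]
    {K T A : Subgroup H} {V : Subgroup M} {x y : M} (h : KK K T A V x y) : ¬ IsLieTypeChar 2 K := fun hK =>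
  false_of_lie h.toTwo h.irr h.norm h.simple h.KT hK

/-- `K` has no split (B,N)-pair of characteristic two. -/
theorem not_split {H : Type u} [Group H] [Finite H] {M : Type v} [Group M] [Finite M] [MulDistribMulAction H M]
    {K T A : Subgroup H} {V : Subgroup M} {x y : M} (h : KK K T A V x y) : ¬ HasSplit 2 K := fun hK =>
  false_of_split h.toTwo h.irr h.norm h.simple h.KT hK

end Cfsg.Agent.Omega.KL.LieTwo
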