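import Cfsg.Agent.Omega.KL.PlugT
import Cfsg.Agent.Omega.TC.Twist

/-!
# CARD #18791 over `TC.Fr`: THEOREM KL + THEOREM EX + the vector `n` (helper836 #22393): `V k ≰ N_k` for both `k`

Inputs: `D : Fr T V P v`; `MLK`; THEOREM KL (`Quo.NoInp`); `hK` : `C_0`, `C_1` are `K`-groups; `hU` : every `T`-minimal
`R ≤ C_i` which moves `v (i+1)` normalises `V i`.  No swap, no `J(T)`, any distance.

* `false_of_fail` : no side fails (`ExBoth.Fail`);
* **`not_le`** : `V k ≰ N_k` for both `k` ([A] and [B] are dead);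
* `exists_ex` : for both `k` an exact elementary abelian `B ≤ Q_(k+1) ∩ O₂(C_G(V k))` moves `N_k`;
* `no_X` : a normal `X` of `C_k` with `[V k, X] ≤ V k N_k` centralises `N_k`;
* **`thmG` : `ThmG V v`** (THEOREM G) for every frame; `no_1b` : (1b) of helper691 #21425.
-/

set_option autoImplicit false
set_option linter.unusedSectionVars false

namespace Cfsg.Agent.Omega.KL.EndR

open Subgroup Cfsg Cfsg.Agent.ZN Cfsg.Agent.Omega.MinPar Cfsg.Agent.Omega.TC Cfsg.Agent.Omega.TC.ExBoth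
  Cfsg.Agent.Omega.TC.Twist
open Cfsg.Agent.Omega.OM.KTwo (CC QQ WU NU EU ne_add_one add_one_add_one)
open Cfsg.Agent.MinSimple.MinParabolic (IsMinPar)
open Cfsg.Agent.Omega.NO3S.EThree.ExactA (eab_iff)
open Cfsg.Agent.Omega.NoFF.Basic (comm_symm)
open Cfsg.Agent.ZN.ChoiceBase (AA)
open Cfsg.Agent.Omega.TC.LemZ (le_norm_of)
open scoped Pointwise

universe u

variable {G : Type u} [Group G] [Finite G] {T : Subgroup G} {V P : Fin 2 → Subgroup G} {v : Fin 2 → G}

/-- the hypothesis on minimal parabolics -/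
def HU (T : Subgroup G) (V : Fin 2 → Subgroup G) (v : Fin 2 → G) : Prop :=
  ∀ i, ∀ R : Subgroup G, IsMinPar T R → R ≤ CC v i → ¬ R ≤ CC v (i + 1) → R ≤ normalizer (V i : Set G)

variable (D : Fr T V P v) (hML : ML.Final.MLK.{u, u}) (hKL : Quo.NoInp.{u, u}) (hK : ∀ i, IsKGroup (CC v i))

include D hML hKL hK

/-- THEOREM KL for `J'_k = C_k ∩ N(V_k N_k)` -/
theorem false_of_gen (hU : HU T V v) {k : Fin 2}
    (hgen : ∀ U : Subgroup G, v (k + 1) ∈ U → JJ V v k ≤ normalizer (U : Set G) → NU V v k ≤ U)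
    (hJ : ¬ JJ V v k ≤ normalizer (V k : Set G)) (hF : ¬ Fail V v k) : False := by
  obtain ⟨B, hB, hBQ, hBV, hBe, hBm⟩ := of_not_fail D hML hK hF
  obtain ⟨n, hn, hst⟩ := exists_vec D k
  have h1 : normalizer (V k : Set G) ⊓ CC v k = normalizer (V k : Set G) ⊓ JJ V v k := by
    apply le_antisymm
    · exact le_inf inf_le_left (by rw [inf_comm]; exact norm_le_JJ D k)
    · exact inf_le_inf_left _ (JJ_le k)
  have h2 : B ≤ o2 (normalizer (V k : Set G) ⊓ JJ V v k) := by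
    rw [← h1]; exact hBV.trans (o2_cent_le D k)
  exact PlugT.false_ofT D hML hKL (kgroup_mono (hK k) (JJ_le k)) (T_le_JJ D k) (JJ_le k) (P_le_JJ D k) hgen hn
    (vec_not D hst hJ) hst (fun R hR hRJ hRm => hU k R hR (hRJ.trans (JJ_le k)) hRm) (eab_iff.1 hB).2
    (hBQ.trans (D.Q_le_o2D _)) h2 hBe hBm

/-- **no side fails** -/
theorem false_of_fail (hU : HU T V v) {i : Fin 2} (hF : Fail V v i) : False := by
  have hF' : ¬ Fail V v (i + 1) := by
    intro h
    apply not_fail D hML hK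
    intro j
    rcases eq_or_ne i j with h1 | h1
    · rw [← h1]; exact hF
    · rw [OM.KTwo.eq_add_one h1]; exact h
  exact false_of_gen D hML hKL hK hU (k := i + 1) (fun U hv hn => gen_JJ D hML hK hF hv hn)
    (JJ_not D hML hK hF) hF'

/-- **`V k ≰ N_k`** for both `k` -/
theorem not_le (hU : HU T V v) (k : Fin 2) : ¬ V k ≤ NU V v k := by
  intro hV
  refine false_of_gen D hML hKL hK hU (k := k) (fun U hv hn => ?_) ?_ fun hF => false_of_fail D hML hKL hK hU hF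
  · rw [JJ_eq D hV] at hn
    exact D.NH_CC k ▸ NH_le hv hn
  · rw [JJ_eq D hV]
    intro h
    exact D.comp k fun c hc => ⟨1, one_mem _, c, h hc, by group⟩

/-- the exact groups on both sides -/
theorem exists_ex (hU : HU T V v) (k : Fin 2) : ∃ B : Subgroup G, IsElementaryAbelian 2 B ∧
    B ≤ QQ v (k + 1) ∧ B ≤ o2 (centralizer (V k : Set G)) ∧ OM.PG.Int.Ex B (NU V v k) ∧
      ¬ B ≤ centralizer (NU V v k : Set G) :=
  of_not_fail D hML hK fun hF => false_of_fail D hML hKL hK hU hF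

/-- a normal subgroup `X` of `C_k` with `[V k, X] ≤ V k N_k` centralises `N_k` -/
theorem no_X (hU : HU T V v) {k : Fin 2} {X : Subgroup G} (hX : X ≤ CC v k) (hn : CC v k ≤ normalizer (X : Set G))
    (h : ∀ x ∈ X, ∀ w ∈ V k, x * w * x⁻¹ * w⁻¹ ∈ V k ⊔ NU V v k) : X ≤ centralizer (NU V v k : Set G) := by
  by_contra hm
  have hmul := D.lem0 hX hn hm
  -- `X ≤ J'`
  have hXJ : X ≤ JJ V v k := by
    refine le_inf hX ?_
    apply le_norm_of
    intro x hx y hy
    obtain ⟨n, hn', w, hw, rfl⟩ := OM.KTwo.exists_mul_of_mem_sup ((D.V_le_T k).trans ((D.T_le_C k).trans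
      (D.C_le_N_N k))) (by rw [sup_comm]; exact hy)
    have h1 := h x hx w hw
    have h2 := (mem_normalizer_iff.1 (D.C_le_N_N k (hX hx)) n).1 hn'
    have e : x * (n * w) * x⁻¹ = (x * n * x⁻¹) * ((x * w * x⁻¹ * w⁻¹) * w) := by group
    rw [e]
    exact mul_mem (mem_sup_right h2) (mul_mem h1 (mem_sup_left hw))
  refine false_of_gen D hML hKL hK hU (k := k) (fun U hv hn' => ?_) ?_ fun hF => false_of_fail D hML hKL hK hU hF
  · -- `N_k = ⟨v (k+1) ^ X⟩`
    rw [← D.NH_CC]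
    refine NoFF.Basic.V_le fun c hc => ?_
    obtain ⟨x, hx, d, hd, rfl⟩ := hmul c hc
    have h1 : MulAut.conj d • zpowers (v (k + 1)) = zpowers (v (k + 1)) := by
      apply NOThreeL.Pair.conj_eq_of_mem
      apply centralizer_le_normalizer
      rw [mem_centralizer_iff]
      rintro _ ⟨n, rfl⟩
      have h1 : Commute d (v (k + 1)) := mem_centralizer_singleton_iff.1 (D.cent_zc_le _ hd)
      exact (h1.zpow_right n).eq.symm
    rw [← NoFF.Basic.conj_conj, h1]
    have h2 : MulAut.conj x • U = U := NOThreeL.Pair.conj_eq_of_mem (hn' (hXJ hx))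
    rw [← h2, NoFF.Basic.conj_le_iff, zpowers_le]
    exact hv
  · intro hJ
    refine D.comp k fun c hc => ?_
    obtain ⟨x, hx, d, hd, e⟩ := hmul c⁻¹ (inv_mem hc)
    refine ⟨d⁻¹, inv_mem hd, x⁻¹, inv_mem (hJ (hXJ hx)), ?_⟩
    rw [← mul_inv_rev, ← e, inv_inv]

/-- **THEOREM G** over every frame -/
theorem thmG (hU : HU T V v) : ThmG V v := by
  intro k c hc h
  -- `X = {x ∈ C_k : [W_k N_k, x] ≤ N_k}`
  have hWN : CC v k ≤ normalizer ((WU V v k ⊔ NU V v k : Subgroup G) : Set G) := by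
    apply le_norm_of
    intro g hg x hx
    have h3 : ChoiceBase.cj g (WU V v k ⊔ NU V v k) = WU V v k ⊔ NU V v k := by
      rw [ChoiceBase.cj, Subgroup.map_sup]
      change ChoiceBase.cj g _ ⊔ ChoiceBase.cj g _ = _
      rw [ChoiceBase.cj_eq_of_mem_normalizer (D.C_le_N_W k hg), ChoiceBase.cj_eq_of_mem_normalizer (D.C_le_N_N k hg)]
    rw [← h3]
    exact ⟨x, hx, rfl⟩
  have hN : ∀ g ∈ CC v k, ∀ n ∈ NU V v k, g * n * g⁻¹ ∈ NU V v k := fun g hg n hn =>
    (mem_normalizer_iff.1 (D.C_le_N_N k hg) n).1 hn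
  have hW : ∀ g ∈ CC v k, ∀ n ∈ WU V v k ⊔ NU V v k, g * n * g⁻¹ ∈ WU V v k ⊔ NU V v k := fun g hg n hn =>
    (mem_normalizer_iff.1 (hWN hg) n).1 hn
  let X : Subgroup G :=
    { carrier := {x | x ∈ CC v k ∧ ∀ m ∈ WU V v k ⊔ NU V v k, x * m * x⁻¹ * m⁻¹ ∈ NU V v k}
      one_mem' := ⟨one_mem _, fun m _ => by simp⟩
      mul_mem' := by
        rintro a b ⟨ha, ha'⟩ ⟨hb, hb'⟩
        refine ⟨mul_mem ha hb, fun m hm => ?_⟩
        have e : a * b * m * (a * b)⁻¹ * m⁻¹ = (a * (b * m * b⁻¹) * a⁻¹ * (b * m * b⁻¹)⁻¹) * (b * m * b⁻¹ * m⁻¹) := by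
          group
        rw [e]
        exact mul_mem (ha' _ (hW b hb m hm)) (hb' m hm)
      inv_mem' := by
        rintro a ⟨ha, ha'⟩
        refine ⟨inv_mem ha, fun m hm => ?_⟩
        have h1 := hW _ (inv_mem ha) m hm
        rw [inv_inv] at h1
        have h2 := inv_mem (ha' _ h1)
        have e : a⁻¹ * m * a⁻¹⁻¹ * m⁻¹ = (a * (a⁻¹ * m * a) * a⁻¹ * (a⁻¹ * m * a)⁻¹)⁻¹ := by group
        rw [e]
        exact h2 }
  have hXC : X ≤ CC v k := fun x hx => hx.1
  have hXn : CC v k ≤ normalizer (X : Set G) := by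
    apply le_norm_of
    rintro g hg x ⟨hx, hx'⟩
    refine ⟨mul_mem (mul_mem hg hx) (inv_mem hg), fun m hm => ?_⟩
    have h1 := hW _ (inv_mem hg) m hm
    rw [inv_inv] at h1
    have h2 := hN g hg _ (hx' _ h1)
    have e : g * x * g⁻¹ * m * (g * x * g⁻¹)⁻¹ * m⁻¹ = g * (x * (g⁻¹ * m * g) * x⁻¹ * (g⁻¹ * m * g)⁻¹) * g⁻¹ := by group
    rw [e]
    exact h2
  have h1 := no_X D hML hKL hK hU hXC hXn fun x hx w hw =>
    mem_sup_right (hx.2 w (mem_sup_left (D.V_le_W k hw)))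
  refine h1 ⟨hc, fun m hm => ?_⟩
  have h2 := inv_mem (h m hm)
  have e : c * m * c⁻¹ * m⁻¹ = (m * c * m⁻¹ * c⁻¹)⁻¹ := by group
  rw [e]
  exact h2

/-- **(1b)** of #21425: `A ∈ AA O₂(D)` moves `N_k`: `C_A(N_k)` does not centralise `W_k N_k` -/
theorem no_1b (hU : HU T V v) {k : Fin 2} {A : Subgroup G} (hA : A ∈ AA (o2 (centralizer (zc T : Set G))))
    (hm : ¬ A ≤ centralizer (NU V v k : Set G)) :
    ¬ A ⊓ centralizer (NU V v k : Set G) ≤ centralizer ((WU V v k ⊔ NU V v k : Subgroup G) : Set G) := by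
  intro hc
  apply hm
  set X : Subgroup G := WU V v k ⊔ NU V v k with hX
  have hXO : X ≤ o2 (centralizer (zc T : Set G)) :=
    sup_le ((D.W_le_Q k).trans (D.Q_le_o2D k)) (D.N_le_oD k)
  have h1 := off (D.WN_eab k) hXO hA
  have h2 : (centralizer (X : Set G)).relIndex A = (centralizer (NU V v k : Set G)).relIndex A := by
    have h3 : A ⊓ centralizer (X : Set G) = A ⊓ centralizer (NU V v k : Set G) :=
      le_antisymm (inf_le_inf_left _ (centralizer_le (le_sup_right : NU V v k ≤ X))) (le_inf inf_le_left hc)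
    rw [← inf_relIndex_left, h3, inf_relIndex_left]
  have h3 : (centralizer (NU V v k : Set G)).relIndex A = (centralizer (A : Set G)).relIndex (NU V v k) :=
    (sharp D hML hK k hA).1
  rw [h2, h3] at h1
  intro a ha
  refine thmG D hML hKL hK hU k a ((hA.2.1.trans ((o2_le _).trans (D.cent_zc_le k))) ha) fun x hx => ?_
  obtain ⟨n, hn, c, hcX, hcA, rfl⟩ := le_sup_of_relIndex (le_sup_right : NU V v k ≤ X) h1 (D.WN_comm k) hx
  have h4 : c * a = a * c := (mem_centralizer_iff.1 hcA a ha).symm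
  have h5 : n * c * a * (n * c)⁻¹ * a⁻¹ = n * (a * n⁻¹ * a⁻¹) := by
    calc n * c * a * (n * c)⁻¹ * a⁻¹ = n * (c * a) * c⁻¹ * n⁻¹ * a⁻¹ := by group
      _ = n * (a * n⁻¹ * a⁻¹) := by rw [h4]; group
  rw [h5]
  have haC : a ∈ CC v k := (hA.2.1.trans ((o2_le _).trans (D.cent_zc_le k))) ha
  exact mul_mem hn ((mem_normalizer_iff.1 (D.C_le_N_N k haC) _).1 (inv_mem hn))

end Cfsg.Agent.Omega.KL.EndR
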