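import Cfsg.Agent.Omega.KL.ThmIq

/-!
# THEOREM I(q) (helper918 #24006 (4)), group form

`GDat P S A E N V Z1 Z2` : subgroups of a finite group; `P` acts by conjugation on the elementary abelian `N`,
`V ≤ N` natural for `SL₂(q)`, `Z2 = C_V(A)`, `|Z2| = q`, `Z1` normalised by `P`, centralised by `A` and `N`.

* `GDat.exists_v` : `r ∈ N`, `[r, S] ≤ Z1 Z2` : there is `v ∈ V` with `[r v, A] = 1` and `[r v, S] ≤ Z1`;
* `exists_of_two`, `inter_le` : both sides: `N 0 ∩ N 1 ≤ Z 0 Z 1`.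
-/

set_option autoImplicit false
set_option linter.unusedSectionVars false
set_option linter.style.haveILetI false

namespace Cfsg.Agent.Omega.KL.ThmIq

open Subgroup

universe u

variable {G : Type u} [Group G]

/-- The data of THEOREM I(q) in a group. No field automorphisms: `E = P`. -/
structure GDat (P S A E N V Z1 Z2 : Subgroup G) : Prop where
  sqN : ∀ x ∈ N, x ^ 2 = 1
  sqZ : ∀ x ∈ Z1, x ^ 2 = 1
  NZ : N ≤ centralizer (Z1 : Set G)
  PN : P ≤ normalizer (N : Set G)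
  PV : P ≤ normalizer (V : Set G)
  PZ : P ≤ normalizer (Z1 : Set G)
  VN : V ≤ N
  SP : S ≤ P
  two : IsPGroup 2 S
  syl : ¬ 2 ∣ S.relIndex P
  fix : A ≤ centralizer (Z1 : Set G)
  disj : V ⊓ Z1 = ⊥
  le : Z2 ≤ V
  ti : ∀ g ∈ P, g ∉ normalizer (Z2 : Set G) → ∀ z ∈ Z2, g * z * g⁻¹ ∈ Z2 → z = 1
  mv : ¬ P ≤ normalizer (Z2 : Set G)
  AS : A ≤ S
  AE : A ≤ E
  EP : E ≤ P
  nE : P ≤ normalizer (E : Set G)
  comm : ∀ a ∈ A, ∀ v ∈ V, a * v * a⁻¹ * v⁻¹ ∈ Z2
  cent : A ≤ centralizer (Z2 : Set G)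
  gen : ∀ s ∈ S, s ∈ E → ∃ a ∈ A, a⁻¹ * s ∈ centralizer (V : Set G)
  nrm : P ≤ normalizer ((S ⊓ centralizer (V : Set G) : Subgroup G) : Set G)
  reg : ∀ a ∈ A, a ∉ centralizer (V : Set G) → ∀ v ∈ V, a * v = v * a → v ∈ Z2
  ab : A ≤ centralizer (A : Set G)
  cardV : Nat.card V = Nat.card Z2 * Nat.card Z2
  cardA : Nat.card A = Nat.card Z2 * Nat.card (A ⊓ centralizer (V : Set G) : Subgroup G)
  no : ∀ C ≤ A, (centralizer (N : Set G)).relIndex C ≤ (centralizer (C : Set G)).relIndex N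
  ex : (centralizer (N : Set G)).relIndex A = (centralizer (A : Set G)).relIndex N
  k3 : ∀ C ≤ A, (centralizer (N : Set G)).relIndex C = (centralizer (C : Set G)).relIndex N →
    ∀ n ∈ N, (∀ b ∈ C, b * n * b⁻¹ * n⁻¹ ∈ Z1) → ∀ b ∈ C, b * n = n * b

section action

variable {P H : Subgroup G}

/-- `H` with `x ^ 2 = 1` is commutative. -/
abbrev grpOf (h : ∀ x ∈ H, x ^ 2 = 1) : CommGroup H :=
  { (inferInstance : Group H) with
    mul_comm := fun x y => by
      have h1 : ∀ z : H, z * z = 1 := fun z => by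
        have := h z.1 z.2
        rw [pow_two] at this
        exact Subtype.ext this
      have h2 := h1 (x * y)
      have h3 : x * y = (x * y)⁻¹ := eq_inv_of_mul_eq_one_left h2
      rw [h3, mul_inv_rev, ← eq_inv_of_mul_eq_one_left (h1 x), ← eq_inv_of_mul_eq_one_left (h1 y)] }

/-- `H` as an additive group -/
def Md (H : Subgroup G) : Type u := H

/-- the element -/
def Md.val (x : Md H) : G := Subtype.val (x : H)

theorem Md.mem (x : Md H) : x.val ∈ H := Subtype.property (x : H)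

def Md.mk (x : G) (h : x ∈ H) : Md H := (⟨x, h⟩ : H)

theorem Md.ext {x y : Md H} (h : x.val = y.val) : x = y := Subtype.ext h

theorem Md.val_mk (x : G) (h : x ∈ H) : (Md.mk x h).val = x := rfl

/-- the additive structure -/
abbrev addOf (h : ∀ x ∈ H, x ^ 2 = 1) : AddCommGroup (Md H) :=
  letI := grpOf h
  (inferInstance : AddCommGroup (Additive H))

/-- the action -/
abbrev actOf (h : ∀ x ∈ H, x ^ 2 = 1) (hP : P ≤ normalizer (H : Set G)) :
    letI := addOf h
    DistribMulAction P (Md H) :=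
  letI := addOf h
  { smul := fun g x => Md.mk ((g : G) * x.val * (g : G)⁻¹) ((mem_normalizer_iff.1 (hP g.2) _).1 x.mem)
    one_smul := fun x => Md.ext (by
      show ((1 : P) : G) * x.val * ((1 : P) : G)⁻¹ = x.val
      simp)
    mul_smul := fun g k x => Md.ext (by
      show ((g * k : P) : G) * x.val * ((g * k : P) : G)⁻¹ = (g : G) * ((k : G) * x.val * (k : G)⁻¹) * (g : G)⁻¹
      rw [Subgroup.coe_mul, mul_inv_rev]
      simp only [mul_assoc])
    smul_zero := fun g => Md.ext (by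
      show (g : G) * 1 * (g : G)⁻¹ = 1
      simp)
    smul_add := fun g x y => Md.ext (by
      show (g : G) * (x.val * y.val) * (g : G)⁻¹ = ((g : G) * x.val * (g : G)⁻¹) * ((g : G) * y.val * (g : G)⁻¹)
      group) }

/-- `K ∩ H` in `Md H` -/
def sub (h : ∀ x ∈ H, x ^ 2 = 1) (K : Subgroup G) :
    letI := addOf h
    AddSubgroup (Md H) :=
  letI := addOf h
  { carrier := {x | x.val ∈ K}
    add_mem' := fun {x y} (hx : x.val ∈ K) (hy : y.val ∈ K) => (K.mul_mem hx hy : x.val * y.val ∈ K)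
    zero_mem' := K.one_mem
    neg_mem' := fun {x} (hx : x.val ∈ K) => (K.inv_mem hx : x.val⁻¹ ∈ K) }

end action

theorem exists_mul_sup {N Z : Subgroup G} (h : N ≤ centralizer (Z : Set G)) {x : G} (hx : x ∈ N ⊔ Z) :
    ∃ n ∈ N, ∃ z ∈ Z, x = n * z := by
  have hc : ∀ n ∈ N, ∀ z ∈ Z, z * n = n * z := fun n hn z hz => mem_centralizer_iff.1 (h hn) z hz
  let K : Subgroup G :=
    { carrier := {x | ∃ n ∈ N, ∃ z ∈ Z, x = n * z}
      one_mem' := ⟨1, one_mem _, 1, one_mem _, by simp⟩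
      mul_mem' := by
        rintro _ _ ⟨n, hn, z, hz, rfl⟩ ⟨m, hm, w, hw, rfl⟩
        refine ⟨n * m, mul_mem hn hm, z * w, mul_mem hz hw, ?_⟩
        calc n * z * (m * w) = n * (z * m) * w := by group
          _ = n * (m * z) * w := by rw [hc m hm z hz]
          _ = _ := by group
      inv_mem' := by
        rintro _ ⟨n, hn, z, hz, rfl⟩
        refine ⟨n⁻¹, inv_mem hn, z⁻¹, inv_mem hz, ?_⟩
        rw [mul_inv_rev, hc _ (inv_mem hn) _ (inv_mem hz)] }
  have h1 : N ⊔ Z ≤ K := sup_le (fun n hn => ⟨n, hn, 1, one_mem _, by simp⟩) (fun z hz => ⟨1, one_mem _, z, hz, by simp⟩)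
  exact h1 hx

theorem sq_sup_of {N Z : Subgroup G} (h : N ≤ centralizer (Z : Set G)) (h1 : ∀ x ∈ N, x ^ 2 = 1) (h2 : ∀ x ∈ Z, x ^ 2 = 1) :
    ∀ x ∈ N ⊔ Z, x ^ 2 = 1 := by
  intro x hx
  obtain ⟨n, hn, z, hz, rfl⟩ := exists_mul_sup h hx
  have h3 : Commute n z := (mem_centralizer_iff.1 (h hn) z hz).symm
  rw [h3.mul_pow, h1 n hn, h2 z hz, one_mul]

instance {H : Subgroup G} [Finite G] : Finite (Md H) := inferInstanceAs (Finite H)

theorem card_sub {H : Subgroup G} (h : ∀ x ∈ H, x ^ 2 = 1) (K : Subgroup G) :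
    letI := addOf h
    Nat.card (sub h K) = Nat.card (H ⊓ K : Subgroup G) := by
  letI := addOf h
  refine Nat.card_congr
    { toFun := fun x => ⟨x.1.val, x.1.mem, x.2⟩
      invFun := fun x => ⟨Md.mk x.1 x.2.1, x.2.2⟩
      left_inv := fun x => Subtype.ext (Md.ext rfl)
      right_inv := fun x => Subtype.ext rfl }

theorem card_sub_le {H : Subgroup G} (h : ∀ x ∈ H, x ^ 2 = 1) {K : Subgroup G} (hK : K ≤ H) :
    letI := addOf h
    Nat.card (sub h K) = Nat.card K := by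
  letI := addOf h
  rw [card_sub, inf_eq_right.2 hK]

theorem mem_sub {H : Subgroup G} (h : ∀ x ∈ H, x ^ 2 = 1) {K : Subgroup G} {x : Md H} :
    letI := addOf h
    x ∈ sub h K ↔ x.val ∈ K := Iff.rfl

theorem val_add {H : Subgroup G} (h : ∀ x ∈ H, x ^ 2 = 1) (x y : Md H) :
    letI := addOf h
    (x + y).val = x.val * y.val := rfl

theorem val_neg {H : Subgroup G} (h : ∀ x ∈ H, x ^ 2 = 1) (x : Md H) :
    letI := addOf h
    (-x).val = x.val⁻¹ := rfl

theorem val_zero {H : Subgroup G} (h : ∀ x ∈ H, x ^ 2 = 1) :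
    letI := addOf h
    (0 : Md H).val = 1 := rfl

theorem val_minus {H : Subgroup G} (h : ∀ x ∈ H, x ^ 2 = 1) (x y : Md H) :
    letI := addOf h
    (x - y).val = x.val * y.val⁻¹ := by
  letI := addOf h
  rw [sub_eq_add_neg]
  rfl

theorem val_smul {P H : Subgroup G} (h : ∀ x ∈ H, x ^ 2 = 1) (hP : P ≤ normalizer (H : Set G)) (g : P) (x : Md H) :
    letI := addOf h
    letI := actOf h hP
    (g • x).val = (g : G) * x.val * (g : G)⁻¹ := rfl

/-- fixed points of a subgroup -/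
theorem fx_eq {P H : Subgroup G} (h : ∀ x ∈ H, x ^ 2 = 1) (hP : P ≤ normalizer (H : Set G)) (B : Subgroup P) :
    letI := addOf h
    letI := actOf h hP
    fx (Md H) B = sub h (centralizer (B.map P.subtype : Set G)) := by
  letI := addOf h
  letI := actOf h hP
  ext x
  rw [mem_sub, mem_fx, mem_centralizer_iff]
  constructor
  · rintro h1 _ ⟨b, hb, rfl⟩
    have h2 := congrArg Md.val (h1 b hb)
    rw [val_smul] at h2
    exact mul_inv_eq_iff_eq_mul.1 h2
  · intro h1 b hb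
    refine Md.ext ?_
    rw [val_smul, mul_inv_eq_iff_eq_mul]
    exact h1 b ⟨b, hb, rfl⟩

/-- pointwise stabiliser -/
theorem mem_cV_iff {P H : Subgroup G} (h : ∀ x ∈ H, x ^ 2 = 1) (hP : P ≤ normalizer (H : Set G)) {V : Subgroup G} (hV : V ≤ H)
    {g : P} :
    letI := addOf h
    letI := actOf h hP
    g ∈ (cV (sub h V) : Subgroup P) ↔ (g : G) ∈ centralizer (V : Set G) := by
  letI := addOf h
  letI := actOf h hP
  rw [mem_cV, mem_centralizer_iff]
  constructor
  · intro h1 v hv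
    have h2 := congrArg Md.val (h1 (Md.mk v (hV hv)) hv)
    rw [val_smul] at h2
    exact (mul_inv_eq_iff_eq_mul.1 h2).symm
  · intro h1 v hv
    refine Md.ext ?_
    rw [val_smul, mul_inv_eq_iff_eq_mul]
    exact (h1 _ hv).symm

theorem le_norm_of_conj {P K : Subgroup G} (h : ∀ g ∈ P, ∀ x ∈ K, g * x * g⁻¹ ∈ K) : P ≤ normalizer (K : Set G) := by
  intro g hg
  rw [mem_normalizer_iff]
  refine fun x => ⟨h g hg x, fun hx => ?_⟩
  have h1 := h _ (inv_mem hg) _ hx
  have e : g⁻¹ * (g * x * g⁻¹) * g⁻¹⁻¹ = x := by group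
  rwa [e] at h1

theorem card_mul_rel {H K : Subgroup G} (h : H ≤ K) : Nat.card H * H.relIndex K = Nat.card K := by
  have := Subgroup.relIndex_mul_relIndex ⊥ H K bot_le h
  rwa [Subgroup.relIndex_bot_left, Subgroup.relIndex_bot_left] at this

namespace GDat

variable [Finite G] {P S A E N V Z1 Z2 : Subgroup G} (D : GDat P S A E N V Z1 Z2)
include D

theorem sqH : ∀ x ∈ N ⊔ Z1, x ^ 2 = 1 := sq_sup_of D.NZ D.sqN D.sqZ

theorem PH : P ≤ normalizer ((N ⊔ Z1 : Subgroup G) : Set G) := by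
  refine le_norm_of_conj fun g hg x hx => ?_
  obtain ⟨n, hn, z, hz, rfl⟩ := exists_mul_sup D.NZ hx
  have e : g * (n * z) * g⁻¹ = (g * n * g⁻¹) * (g * z * g⁻¹) := by group
  rw [e]
  exact mul_mem (le_sup_left (a := N) ((mem_normalizer_iff.1 (D.PN hg) n).1 hn))
    (le_sup_right (a := N) ((mem_normalizer_iff.1 (D.PZ hg) z).1 hz))

theorem AP : A ≤ P := D.AS.trans D.SP

theorem comm_H : N ⊔ Z1 ≤ centralizer ((N ⊔ Z1 : Subgroup G) : Set G) := by
  intro x hx
  rw [mem_centralizer_iff]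
  intro y hy
  letI := grpOf D.sqH
  exact congrArg Subtype.val (mul_comm (⟨y, hy⟩ : (N ⊔ Z1 : Subgroup G)) ⟨x, hx⟩)

/-- `|C_H(C)| |N : C_N(C)| = |H|` -/
theorem card_fx {C : Subgroup G} (hC : C ≤ A) :
    letI := addOf D.sqH
    letI := actOf D.sqH D.PH
    Nat.card (fx (Md (N ⊔ Z1)) (C.subgroupOf P)) * (centralizer (C : Set G)).relIndex N = Nat.card (Md (N ⊔ Z1)) := by
  letI := addOf D.sqH
  letI := actOf D.sqH D.PH
  have e1 : (C.subgroupOf P).map P.subtype = C := subgroupOf_map_subtype C P |>.trans (inf_eq_left.2 (hC.trans D.AP))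
  have e2 : fx (Md (N ⊔ Z1)) (C.subgroupOf P) = sub D.sqH (centralizer (C : Set G)) := by
    rw [fx_eq D.sqH D.PH, e1]
  set F := sub D.sqH (centralizer (C : Set G)) with hF
  have hZF : sub D.sqH Z1 ≤ F := fun x hx => by
    refine mem_centralizer_iff.2 fun c hc => ?_
    exact (mem_centralizer_iff.1 (D.fix (hC hc)) _ hx).symm
  have htop : sub D.sqH N ⊔ F = ⊤ := by
    rw [eq_top_iff]
    intro x _
    obtain ⟨n, hn, z, hz, hx⟩ := exists_mul_sup D.NZ x.mem
    refine AddSubgroup.mem_sup.2 ⟨Md.mk n (le_sup_left (a := N) hn), hn, Md.mk z (le_sup_right (a := N) hz),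
      hZF hz, Md.ext ?_⟩
    rw [val_add]
    exact hx.symm
  have h1 : F.relIndex ⊤ = F.relIndex (sub D.sqH N) := by
    rw [← htop]
    exact AddSubgroup.relIndex_sup_right _ _
  have h2 := card_mul_relIndex (le_top : F ≤ ⊤)
  have h3 : F.relIndex (sub D.sqH N) = (centralizer (C : Set G)).relIndex N := by
    have h4 := card_mul_relIndex (H := sub D.sqH N ⊓ F) (K := sub D.sqH N) inf_le_left
    have h5 := card_mul_rel (H := N ⊓ centralizer (C : Set G)) (K := N) inf_le_left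
    rw [AddSubgroup.inf_relIndex_left] at h4
    rw [Subgroup.inf_relIndex_left] at h5
    have h6 : sub D.sqH N ⊓ F = sub D.sqH (N ⊓ centralizer (C : Set G)) := rfl
    rw [h6, card_sub_le D.sqH (inf_le_left.trans le_sup_left), card_sub_le D.sqH le_sup_left, ← h5] at h4
    exact Nat.eq_of_mul_eq_mul_left Nat.card_pos h4
  rw [e2, ← h3, ← h1, h2]
  exact Nat.card_congr AddSubgroup.topEquiv.toEquiv

theorem card_sgp {C : Subgroup G} (hC : C ≤ P) : Nat.card (C.subgroupOf P) = Nat.card C :=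
  Nat.card_congr (subgroupOfEquivOfLe hC).toEquiv

/-- the count -/
theorem count {C : Subgroup G} (hC : C ≤ A) :
    letI := addOf D.sqH
    letI := actOf D.sqH D.PH
    Nat.card (C.subgroupOf P) * Nat.card (fx (Md (N ⊔ Z1)) (C.subgroupOf P)) ≤
      Nat.card (A.subgroupOf P) * Nat.card (fx (Md (N ⊔ Z1)) (A.subgroupOf P)) ∧
    (Nat.card (C.subgroupOf P) * Nat.card (fx (Md (N ⊔ Z1)) (C.subgroupOf P)) =
      Nat.card (A.subgroupOf P) * Nat.card (fx (Md (N ⊔ Z1)) (A.subgroupOf P)) →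
      (centralizer (N : Set G)).relIndex C = (centralizer (C : Set G)).relIndex N) := by
  letI := addOf D.sqH
  letI := actOf D.sqH D.PH
  have h1 := D.card_fx hC
  have h2 := D.card_fx le_rfl
  have h3 := D.no C hC
  have h4 := D.ex
  rw [D.card_sgp (hC.trans D.AP), D.card_sgp D.AP]
  set fC := Nat.card (fx (Md (N ⊔ Z1)) (C.subgroupOf P)) with hfC
  set fA := Nat.card (fx (Md (N ⊔ Z1)) (A.subgroupOf P)) with hfA
  set h := Nat.card (Md (N ⊔ Z1)) with hh
  set nC := (centralizer (C : Set G)).relIndex N with hnC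
  set nA := (centralizer (A : Set G)).relIndex N with hnA
  set cC := (centralizer (N : Set G)).relIndex C with hcC
  have k1 : Nat.card (C ⊓ centralizer (N : Set G) : Subgroup G) * cC = Nat.card C := by
    have := card_mul_rel (H := C ⊓ centralizer (N : Set G)) (K := C) inf_le_left
    rwa [Subgroup.inf_relIndex_left] at this
  have k2 : Nat.card (A ⊓ centralizer (N : Set G) : Subgroup G) * nA = Nat.card A := by
    have := card_mul_rel (H := A ⊓ centralizer (N : Set G)) (K := A) inf_le_left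
    rwa [Subgroup.inf_relIndex_left, h4] at this
  have k3 : Nat.card (C ⊓ centralizer (N : Set G) : Subgroup G) ≤ Nat.card (A ⊓ centralizer (N : Set G) : Subgroup G) :=
    Subgroup.card_le_of_le (inf_le_inf_right _ hC)
  set kC := Nat.card (C ⊓ centralizer (N : Set G) : Subgroup G) with hkC
  set kA := Nat.card (A ⊓ centralizer (N : Set G) : Subgroup G) with hkA
  have hpos : 0 < h := Nat.card_pos
  have hnC0 : 0 < nC := by
    rcases Nat.eq_zero_or_pos nC with h0 | h0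
    · rw [h0, mul_zero] at h1; omega
    · exact h0
  have hkC0 : 0 < kC := Nat.card_pos
  have e1 : Nat.card A * fA = kA * h := by rw [← k2, ← h2]; ring
  have e2 : Nat.card C * fC * nC = kC * cC * h := by rw [← k1, ← h1]; ring
  have e3 : Nat.card C * fC * nC ≤ kC * h * nC := by
    rw [e2]
    calc kC * cC * h ≤ kC * nC * h := Nat.mul_le_mul_right _ (Nat.mul_le_mul_left _ h3)
      _ = _ := by ring
  have e4 : Nat.card C * fC ≤ kC * h := Nat.le_of_mul_le_mul_right e3 hnC0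
  refine ⟨?_, fun heq => ?_⟩
  · rw [e1]
    exact e4.trans (Nat.mul_le_mul_right _ k3)
  · rw [e1] at heq
    have e5 : kA * h ≤ kC * h := by rw [← heq]; exact e4
    have e6 : kA ≤ kC := Nat.le_of_mul_le_mul_right e5 hpos
    have e7 : kC = kA := le_antisymm k3 e6
    rw [heq, ← e7] at e2
    have e8 : kC * h * nC = kC * h * cC := by rw [e2]; ring
    exact (Nat.eq_of_mul_eq_mul_left (Nat.mul_pos hkC0 hpos) e8).symm

theorem dat {S' : Sylow 2 P} (hS' : (S' : Subgroup P) = S.subgroupOf P) :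
    letI := addOf D.sqH
    letI := actOf D.sqH D.PH
    Dat (sub D.sqH V) (sub D.sqH Z1) (sub D.sqH Z2) (S' : Subgroup P) (A.subgroupOf P) (E.subgroupOf P) := by
  letI := addOf D.sqH
  letI := actOf D.sqH D.PH
  have hVH : V ≤ N ⊔ Z1 := D.VN.trans le_sup_left
  have hZ2H : Z2 ≤ N ⊔ Z1 := D.le.trans hVH
  -- elements of `P` not normalising `Z2`
  have hnn : ∀ (g : P) (u : Md (N ⊔ Z1)), u ∈ sub D.sqH Z2 → g • u ∉ sub D.sqH Z2 → (g : G) ∉ normalizer (Z2 : Set G) :=
    fun g u hu hgu hg => hgu ((mem_normalizer_iff.1 hg _).1 hu)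
  exact
    { two := fun m => Md.ext (by
        rw [val_add, val_zero, ← pow_two]
        exact D.sqH _ m.mem)
      inv := fun g v hv => (mem_normalizer_iff.1 (D.PV g.2) _).1 hv
      inv1 := fun g v hv => (mem_normalizer_iff.1 (D.PZ g.2) _).1 hv
      fix := fun a ha z hz => Md.ext (by
        rw [val_smul, mul_inv_eq_iff_eq_mul]
        exact (mem_centralizer_iff.1 (D.fix ha) _ hz).symm)
      disj := fun z hz hz' => Md.ext (by
        rw [val_zero]
        have h1 : z.val ∈ V ⊓ Z1 := ⟨hz, hz'⟩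
        rw [D.disj] at h1
        exact mem_bot.1 h1)
      le := fun z hz => D.le hz
      ti := fun g u z hu hgu hz hgz => Md.ext (D.ti g g.2 (hnn g u hu hgu) _ hz hgz)
      mv := by
        by_contra hcon
        push Not at hcon
        refine D.mv (le_norm_of_conj fun g hg x hx => ?_)
        exact hcon ⟨g, hg⟩ (Md.mk x (hZ2H hx)) hx
      AS := by
        rw [hS']
        exact fun a ha => D.AS ha
      AE := fun a ha => D.AE ha
      nE := normal_subgroupOf_of_le_normalizer D.nE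
      comm := fun a ha v hv => by
        rw [mem_sub, val_minus, val_smul]
        exact D.comm a ha _ hv
      cent := fun a ha z hz => Md.ext (by
        rw [val_smul, mul_inv_eq_iff_eq_mul]
        exact (mem_centralizer_iff.1 (D.cent ha) _ hz).symm)
      gen := fun s hs hsE => by
        rw [hS'] at hs
        obtain ⟨a, ha, h1⟩ := D.gen s hs hsE
        refine ⟨⟨a, D.AP ha⟩, ha, fun v hv => Md.ext ?_⟩
        rw [val_smul, val_smul]
        have h2 := mem_centralizer_iff.1 h1 _ hv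
        calc (s : G) * v.val * (s : G)⁻¹ = a * ((a⁻¹ * s) * v.val) * (s : G)⁻¹ := by group
          _ = a * (v.val * (a⁻¹ * s)) * (s : G)⁻¹ := by rw [h2]
          _ = _ := by group
      nrm := fun g s hs hV => by
        rw [hS'] at hs ⊢
        have h1 : (s : G) ∈ S ⊓ centralizer (V : Set G) := ⟨hs, (mem_cV_iff D.sqH D.PH hVH).1 hV⟩
        exact ((mem_normalizer_iff.1 (D.nrm g.2) _).1 h1).1
      reg := fun a ha hav v hv hfix => by
        refine D.reg a ha (fun h1 => ?_) _ hv ?_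
        · obtain ⟨w, hw, hne⟩ := hav
          exact hne ((mem_cV_iff D.sqH D.PH hVH).2 h1 w hw)
        · have h2 := congrArg Md.val hfix
          rw [val_smul, mul_inv_eq_iff_eq_mul] at h2
          exact h2
      ab := fun a ha b hb => Subtype.ext (mem_centralizer_iff.1 (D.ab hb) _ ha)
      cardV := by rw [card_sub_le D.sqH hVH, card_sub_le D.sqH hZ2H, D.cardV]
      cardA := by
        rw [card_sub_le D.sqH hZ2H, D.card_sgp D.AP, D.cardA]
        congr 1
        rw [← D.card_sgp (inf_le_left.trans D.AP)]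
        congr 1
        refine congrArg (fun K : Subgroup P => (K : Type u)) ?_
        ext x
        rw [mem_subgroupOf, mem_inf, mem_inf, mem_subgroupOf, mem_cV_iff D.sqH D.PH hVH]
      bd := fun C hC => by
        have h1 : (C.map P.subtype).subgroupOf P = C := by
          rw [subgroupOf, comap_map_eq_self_of_injective P.subtype_injective]
        have h2 : C.map P.subtype ≤ A := by
          rintro _ ⟨c, hc, rfl⟩
          exact hC hc
        have h3 := (D.count h2).1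
        rwa [h1] at h3
      k3 := fun C hC heq n hn => by
        have h1 : (C.map P.subtype).subgroupOf P = C := by
          rw [subgroupOf, comap_map_eq_self_of_injective P.subtype_injective]
        have h2 : C.map P.subtype ≤ A := by
          rintro _ ⟨c, hc, rfl⟩
          exact hC hc
        have h3 := (D.count h2).2
        rw [h1] at h3
        have h4 := h3 heq
        obtain ⟨m, hm, z, hz, hx⟩ := exists_mul_sup D.NZ n.mem
        have h5 : ∀ b ∈ C.map P.subtype, b * z * b⁻¹ = z := fun b hb => by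
          rw [mul_inv_eq_iff_eq_mul]
          exact (mem_centralizer_iff.1 (D.fix (h2 hb)) _ hz).symm
        have h6 : ∀ b ∈ C.map P.subtype, b * m * b⁻¹ * m⁻¹ = b * n.val * b⁻¹ * n.val⁻¹ := fun b hb => by
          rw [hx]
          calc b * m * b⁻¹ * m⁻¹ = (b * m * b⁻¹) * z * z⁻¹ * m⁻¹ := by group
            _ = (b * m * b⁻¹) * (b * z * b⁻¹) * z⁻¹ * m⁻¹ := by rw [h5 b hb]
            _ = _ := by group
        have h7 := D.k3 _ h2 h4 m hm (by
          intro b hb
          rw [h6 b hb]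
          obtain ⟨c, hc, rfl⟩ := hb
          have h8 := hn c hc
          rw [mem_sub, val_minus, val_smul] at h8
          exact h8)
        intro b hb
        refine Md.ext ?_
        rw [val_smul]
        have h8 := h6 b ⟨b, hb, rfl⟩
        have h9 := h7 b ⟨b, hb, rfl⟩
        rw [h9, mul_inv_cancel_right, mul_inv_cancel] at h8
        exact (mul_inv_eq_one.1 h8.symm) }

/-- **THEOREM I(q)**, one side -/
theorem exists_v {r : G} (hrN : r ∈ N) (hr : ∀ s ∈ S, s * r * s⁻¹ * r⁻¹ ∈ Z1 ⊔ Z2) :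
    ∃ v ∈ V, (∀ a ∈ A, a * (r * v) = r * v * a) ∧ ∀ s ∈ S, s * (r * v) * s⁻¹ * (r * v)⁻¹ ∈ Z1 := by
  have : Fact (Nat.Prime 2) := ⟨Nat.prime_two⟩
  letI := addOf D.sqH
  letI := actOf D.sqH D.PH
  have hVH : V ≤ N ⊔ Z1 := D.VN.trans le_sup_left
  have hZ2H : Z2 ≤ N ⊔ Z1 := D.le.trans hVH
  have h2 : IsPGroup 2 (S.subgroupOf P) := D.two.comap_of_injective _ P.subtype_injective
  let S' : Sylow 2 P := h2.toSylow D.syl
  have hS' : (S' : Subgroup P) = S.subgroupOf P := h2.toSylow_coe D.syl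
  have hD := D.dat hS'
  have hrH : r ∈ N ⊔ Z1 := le_sup_left (a := N) hrN
  obtain ⟨c, hcV, hcA, hcS⟩ := hD.exists_c (r := Md.mk r hrH) (by
    intro s hs
    rw [hS'] at hs
    have h3 := hr s hs
    obtain ⟨z1, hz1, z2, hz2, he⟩ := exists_mul_sup
      ((le_sup_right.trans (comm_H D)).trans (centralizer_le hZ2H) : Z1 ≤ centralizer (Z2 : Set G)) h3
    refine AddSubgroup.mem_sup.2 ⟨Md.mk z1 (le_sup_right (a := N) hz1), hz1, Md.mk z2 (hZ2H hz2), hz2, Md.ext ?_⟩
    rw [val_add, val_minus, val_smul]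
    exact he.symm)
  refine ⟨r⁻¹ * c.val, ?_, fun a ha => ?_, fun s hs => ?_⟩
  · rw [mem_sub, val_minus] at hcV
    have h3 : c.val * r⁻¹ = r⁻¹ * c.val :=
      mem_centralizer_iff.1 (comm_H D (inv_mem hrH)) _ c.mem
    rw [← h3]
    exact hcV
  · rw [mul_inv_cancel_left]
    have h3 := hcA 1 ⟨a, D.AP ha⟩ ha
    rw [inv_one, one_mul, mul_one] at h3
    have h4 := congrArg Md.val h3
    rw [val_smul, mul_inv_eq_iff_eq_mul] at h4
    exact h4
  · rw [mul_inv_cancel_left]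
    have h3 := hcS ⟨s, D.SP hs⟩ (by rw [hS']; exact hs)
    rw [mem_sub, val_minus, val_smul] at h3
    exact h3

end GDat

/-! ### Both sides -/

/-- a 2-group `S` fixes a nontrivial coset -/
theorem exists_coset [Finite G] {S K K0 : Subgroup G} (hS : IsPGroup 2 S) (hK : ∀ x ∈ K, x ^ 2 = 1)
    (hne : ¬ K ≤ K0) (hSK : S ≤ normalizer (K : Set G)) (hS0 : S ≤ normalizer (K0 : Set G)) :
    ∃ w ∈ K, w ∉ K0 ∧ ∀ s ∈ S, s * w * s⁻¹ * w⁻¹ ∈ K0 := by
  have : Fact (Nat.Prime 2) := ⟨Nat.prime_two⟩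
  letI := addOf hK
  letI := actOf hK hSK
  set K' := sub hK K0 with hK'
  have hinv : ∀ s : S, K' ≤ K'.comap (DistribSMul.toAddMonoidHom (Md K) s) := fun s x hx =>
    (mem_normalizer_iff.1 (hS0 s.2) _).1 hx
  let act : MulAction S (Md K ⧸ K') :=
    { smul := fun s => QuotientAddGroup.map K' K' (DistribSMul.toAddMonoidHom (Md K) s) (hinv s)
      one_smul := by
        rintro ⟨x⟩
        show QuotientAddGroup.mk ((1 : S) • x) = QuotientAddGroup.mk x
        rw [one_smul]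
      mul_smul := by
        rintro s t ⟨x⟩
        show QuotientAddGroup.mk ((s * t : S) • x) = QuotientAddGroup.mk (s • (t • x))
        rw [mul_smul] }
  have hcard : 2 ∣ Nat.card (Md K ⧸ K') := by
    have h1 : IsPGroup 2 K := by
      intro x
      refine ⟨1, Subtype.ext ?_⟩
      have := hK x.1 x.2
      simpa using this
    obtain ⟨n, hn⟩ := h1.exists_card_eq
    have h2 : Nat.card (Md K) = Nat.card (Md K ⧸ K') * Nat.card K' := AddSubgroup.card_eq_card_quotient_mul_card_addSubgroup _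
    have h3 : Nat.card (Md K) = 2 ^ n := hn
    have h4 : Nat.card (Md K ⧸ K') ∣ 2 ^ n := ⟨_, by rw [← h3, h2]⟩
    obtain ⟨m, -, hm⟩ := (Nat.dvd_prime_pow Nat.prime_two).1 h4
    rcases Nat.eq_zero_or_pos m with h0 | h0
    · exfalso
      rw [h0, pow_zero] at hm
      refine hne fun x hx => ?_
      have h5 : Subsingleton (Md K ⧸ K') := (Nat.card_eq_one_iff_unique.1 hm).1
      have h6 : (QuotientAddGroup.mk (Md.mk x hx) : Md K ⧸ K') = 0 := Subsingleton.elim _ _
      exact (QuotientAddGroup.eq_zero_iff _).1 h6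
    · rw [hm]
      exact dvd_pow_self 2 (by omega)
  obtain ⟨b, hb, hb0⟩ := hS.exists_fixed_point_of_prime_dvd_card_of_fixed_point (α := Md K ⧸ K') hcard
    (a := 0) (by
      intro s
      show QuotientAddGroup.mk (s • (0 : Md K)) = QuotientAddGroup.mk 0
      rw [smul_zero])
  obtain ⟨x, rfl⟩ := QuotientAddGroup.mk_surjective b
  refine ⟨x.val, x.mem, fun h1 => hb0 ?_, fun s hs => ?_⟩
  · exact ((QuotientAddGroup.eq_zero_iff _).2 h1).symm
  · have h1 : (QuotientAddGroup.mk ((⟨s, hs⟩ : S) • x) : Md K ⧸ K') = QuotientAddGroup.mk x := hb ⟨s, hs⟩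
    have h2 := QuotientAddGroup.eq.1 h1.symm
    rw [mem_sub, val_add, val_neg, val_smul] at h2
    have h3 : Commute x.val⁻¹ (s * x.val * s⁻¹) := by
      letI := grpOf hK
      exact congrArg Subtype.val (mul_comm (⟨x.val⁻¹, inv_mem x.mem⟩ : K)
        ⟨s * x.val * s⁻¹, (mem_normalizer_iff.1 (hSK hs) _).1 x.mem⟩)
    rw [h3.eq] at h2
    exact h2

namespace GDat

variable [Finite G] {P S A E N V Z1 Z2 : Subgroup G} (D : GDat P S A E N V Z1 Z2)
include D

theorem exists_mv : ∃ a ∈ A, a ∉ centralizer (V : Set G) := by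
  by_contra hcon
  push Not at hcon
  have h1 : A ⊓ centralizer (V : Set G) = A := inf_eq_left.2 hcon
  have h2 := D.cardA
  rw [h1] at h2
  have h3 : 0 < Nat.card A := Nat.card_pos
  have h4 : Nat.card Z2 = 1 := by
    have : Nat.card Z2 * Nat.card A = 1 * Nat.card A := by rw [← h2, one_mul]
    exact Nat.eq_of_mul_eq_mul_right h3 this
  have h5 : Z2 = ⊥ := Subgroup.card_eq_one.1 h4
  apply D.mv
  rw [h5]
  exact le_norm_of_conj fun g _ x hx => by
    rw [mem_bot] at hx ⊢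
    rw [hx]; simp

/-- one side, `r` centralised by `A` -/
theorem exists_z {r : G} (hrN : r ∈ N) (hrA : ∀ a ∈ A, a * r = r * a) (hr : ∀ s ∈ S, s * r * s⁻¹ * r⁻¹ ∈ Z1 ⊔ Z2) :
    ∃ v ∈ Z2, ∀ s ∈ S, s * (r * v) * s⁻¹ * (r * v)⁻¹ ∈ Z1 := by
  obtain ⟨v, hv, h1, h2⟩ := D.exists_v hrN hr
  obtain ⟨a, ha, hav⟩ := D.exists_mv
  refine ⟨v, D.reg a ha hav v hv ?_, h2⟩
  have h3 := h1 a ha
  have h4 := hrA a ha
  have h5 : r * (a * v) = r * (v * a) := by
    rw [← mul_assoc, ← h4, mul_assoc, h3, mul_assoc]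
  exact mul_left_cancel h5

end GDat

/-- both sides -/
theorem exists_of_two [Finite G] {P P' S A A' E E' N N' V V' Z Z' : Subgroup G}
    (D : GDat P S A E N V Z Z') (D' : GDat P' S A' E' N' V' Z' Z) (hA : A ≤ centralizer (N' : Set G))
    (hA' : A' ≤ centralizer (N : Set G)) (hSZ : S ≤ normalizer (Z : Set G)) (hSZ' : S ≤ normalizer (Z' : Set G))
    {r : G} (hr : r ∈ N ⊓ N') (hrS : ∀ s ∈ S, s * r * s⁻¹ * r⁻¹ ∈ Z ⊔ Z') :
    ∃ z ∈ Z ⊔ Z', r * z ∈ centralizer (S : Set G) := by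
  obtain ⟨v, hv, h1⟩ := D.exists_z hr.1 (fun a ha => (mem_centralizer_iff.1 (hA ha) r hr.2).symm) hrS
  obtain ⟨w, hw, h2⟩ := D'.exists_z hr.2 (fun a ha => (mem_centralizer_iff.1 (hA' ha) r hr.1).symm)
    (fun s hs => by rw [sup_comm]; exact hrS s hs)
  have hrv : ∀ x ∈ Z, ∀ y ∈ N, x * y = y * x := fun x hx y hy => mem_centralizer_iff.1 (D.NZ hy) x hx
  have hrv' : ∀ x ∈ Z', ∀ y ∈ N', x * y = y * x := fun x hx y hy => mem_centralizer_iff.1 (D'.NZ hy) x hx
  have hvw : w * v = v * w := hrv w hw v (D.VN (D.le hv))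
  refine ⟨w * v, mul_mem (le_sup_left (a := Z) hw) (le_sup_right (a := Z) hv), ?_⟩
  rw [mem_centralizer_iff]
  intro s hs
  have h3 : s * (r * (w * v)) * s⁻¹ * (r * (w * v))⁻¹ ∈ Z := by
    -- `= [s, r v w]`
    have h4 := h1 s hs
    have h5 : s * w * s⁻¹ ∈ Z := (mem_normalizer_iff.1 (hSZ hs) w).1 hw
    have h6 : s * (r * v) * s⁻¹ * (r * v)⁻¹ * ((r * v) * (s * w * s⁻¹ * w⁻¹) * (r * v)⁻¹) ∈ Z := by
      refine mul_mem h4 ?_
      have h7 : s * w * s⁻¹ * w⁻¹ ∈ Z := mul_mem h5 (inv_mem hw)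
      have h8 : r * v ∈ N := mul_mem hr.1 (D.VN (D.le hv))
      rw [← hrv _ h7 _ h8, mul_inv_cancel_right]
      exact h7
    have e : s * (r * v) * s⁻¹ * (r * v)⁻¹ * ((r * v) * (s * w * s⁻¹ * w⁻¹) * (r * v)⁻¹) =
        s * (r * (v * w)) * s⁻¹ * (r * (v * w))⁻¹ := by group
    rw [e, ← hvw] at h6
    exact h6
  have h4 : s * (r * (w * v)) * s⁻¹ * (r * (w * v))⁻¹ ∈ Z' := by
    have h4 := h2 s hs
    have h5 : s * v * s⁻¹ ∈ Z' := (mem_normalizer_iff.1 (hSZ' hs) v).1 hv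
    have h6 : s * (r * w) * s⁻¹ * (r * w)⁻¹ * ((r * w) * (s * v * s⁻¹ * v⁻¹) * (r * w)⁻¹) ∈ Z' := by
      refine mul_mem h4 ?_
      have h7 : s * v * s⁻¹ * v⁻¹ ∈ Z' := mul_mem h5 (inv_mem hv)
      have h8 : r * w ∈ N' := mul_mem hr.2 (D'.VN (D'.le hw))
      rw [← hrv' _ h7 _ h8, mul_inv_cancel_right]
      exact h7
    have e : s * (r * w) * s⁻¹ * (r * w)⁻¹ * ((r * w) * (s * v * s⁻¹ * v⁻¹) * (r * w)⁻¹) =
        s * (r * (w * v)) * s⁻¹ * (r * (w * v))⁻¹ := by group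
    rw [e] at h6
    exact h6
  have h5 : s * (r * (w * v)) * s⁻¹ * (r * (w * v))⁻¹ ∈ V ⊓ Z := ⟨D.le h4, h3⟩
  rw [D.disj, mem_bot, mul_inv_eq_one, mul_inv_eq_iff_eq_mul] at h5
  exact h5

/-- **THEOREM I(q)** : `N ∩ N' ≤ Z Z'`. -/
theorem inter_le [Finite G] {P P' S A A' E E' N N' V V' Z Z' : Subgroup G}
    (D : GDat P S A E N V Z Z') (D' : GDat P' S A' E' N' V' Z' Z) (hA : A ≤ centralizer (N' : Set G))
    (hA' : A' ≤ centralizer (N : Set G)) (hSZ : S ≤ normalizer (Z : Set G)) (hSZ' : S ≤ normalizer (Z' : Set G))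
    (hfix : ∀ x ∈ (N ⊓ N') ⊔ (Z ⊔ Z'), x ∈ centralizer (S : Set G) → x ∈ Z ⊔ Z') :
    N ⊓ N' ≤ Z ⊔ Z' := by
  by_contra hcon
  have hSN : S ≤ normalizer ((N ⊓ N' : Subgroup G) : Set G) := le_norm_of_conj fun s hs x hx =>
    ⟨(mem_normalizer_iff.1 (D.PN (D.SP hs)) x).1 hx.1, (mem_normalizer_iff.1 (D'.PN (D'.SP hs)) x).1 hx.2⟩
  have hZZ : Z ≤ centralizer (Z' : Set G) := fun z hz => mem_centralizer_iff.2 fun y hy =>
    (mem_centralizer_iff.1 (D.NZ (D.VN (D.le hy))) z hz).symm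
  have hSZZ : S ≤ normalizer ((Z ⊔ Z' : Subgroup G) : Set G) := le_norm_of_conj fun s hs x hx => by
    obtain ⟨z, hz, w, hw, rfl⟩ := exists_mul_sup hZZ hx
    have e : s * (z * w) * s⁻¹ = (s * z * s⁻¹) * (s * w * s⁻¹) := by group
    rw [e]
    exact mul_mem (le_sup_left (a := Z) ((mem_normalizer_iff.1 (hSZ hs) z).1 hz))
      (le_sup_right (a := Z) ((mem_normalizer_iff.1 (hSZ' hs) w).1 hw))
  have hS1 : S ≤ normalizer (((N ⊓ N') ⊓ (Z ⊔ Z') : Subgroup G) : Set G) := le_norm_of_conj fun s hs x hx =>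
    ⟨(mem_normalizer_iff.1 (hSN hs) x).1 hx.1, (mem_normalizer_iff.1 (hSZZ hs) x).1 hx.2⟩
  obtain ⟨r, hr, hr0, h1⟩ := exists_coset (K := N ⊓ N') (K0 := (N ⊓ N') ⊓ (Z ⊔ Z')) D.two (fun x hx => D.sqN x hx.1)
    (fun h => hcon fun x hx => (h hx).2) hSN hS1
  obtain ⟨z, hz, h2⟩ := exists_of_two D D' hA hA' hSZ hSZ' hr (fun s hs => (h1 s hs).2)
  have h3 := hfix _ (mul_mem (le_sup_left (a := N ⊓ N') hr) (le_sup_right (a := N ⊓ N') hz)) h2
  have h4 : r ∈ Z ⊔ Z' := by
    have := mul_mem h3 (inv_mem hz)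
    rwa [mul_inv_cancel_right] at this
  exact hr0 ⟨hr, h4⟩

end Cfsg.Agent.Omega.KL.ThmIq
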