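import Cfsg.Agent.Omega.ML.LieRow.Row

/-!
# THEOREM KL, the groups of Lie type in characteristic two: the gallery (helper233)

`K` is normal in the finite group `H`, seen through its building `Δ` (`FixBN.Sys`, `LieRow.HAct`), `M` is an irreducible
`H`-module over `F_2`.

* `gallery` : a property of chambers which passes from the other chambers of each panel of `d` to `d`, and holds for the
  chambers opposite `c`, holds for all chambers;
* **`fixed_eq`** : `f : C → M` a `K`-equivariant function which is constant on each panel, or (on this panel) the product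
  of two other values; the values of `f` generate `M`: then `|C_M(U c)| ≤ 2`.
-/

set_option autoImplicit false
set_option linter.unusedSectionVars false

namespace Cfsg.Agent.Omega.KL.Gal

open Cfsg.Agent.Tits.Core Cfsg.Agent.Tits.Core.Bldg Cfsg.Agent.Tits.Exchange Cfsg.Agent.Tits
open Cfsg.Agent.FixBN Cfsg.Agent.FixBN.Cox Cfsg.Agent.UGT.U2.FOne Cfsg.Agent.Omega.ML.LieRow

variable {I : Type*} {Mx : CoxeterMatrix I} {W : Type*} [Group W] {cs : CoxeterSystem Mx W} {C : Type*}
  {Δ : Bldg cs C}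

local prefix:100 "ℓ" => cs.length

/-- **The gallery lemma.** -/
theorem gallery [F : OppRes.Cox cs] {Q : C → Prop} (c : C)
    (hQ : ∀ i d, (∀ d', Δ.δ d d' = cs.simple i → Q d') → Q d) (h0 : ∀ e, Δ.Opp c e → Q e) : ∀ d, Q d := by
  have key : ∀ n : ℕ, ∀ d, ℓ (w0 cs) - ℓ (Δ.δ c d) = n → Q d := by
    intro n
    induction n using Nat.strong_induction_on with
    | _ n ih =>
      intro d hn
      by_cases h1 : Δ.Opp c d
      · exact h0 d h1
      have h2 : (Δ.δ c d)⁻¹ * w0 cs ≠ 1 := by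
        intro h3
        apply h1
        change Δ.δ c d = w0 cs
        exact inv_mul_eq_one.1 h3
      obtain ⟨i, hi⟩ := cs.exists_leftDescent_of_ne_one h2
      have hi' : ℓ (cs.simple i * ((Δ.δ c d)⁻¹ * w0 cs)) < ℓ ((Δ.δ c d)⁻¹ * w0 cs) := hi
      have e1 : cs.simple i * ((Δ.δ c d)⁻¹ * w0 cs) = (Δ.δ c d * cs.simple i)⁻¹ * w0 cs := by
        rw [mul_inv_rev, cs.inv_simple, mul_assoc]
      have e2 := F.len_mul_w0 (Δ.δ c d)⁻¹
      have e3 := F.len_mul_w0 (Δ.δ c d * cs.simple i)⁻¹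
      rw [cs.length_inv] at e2 e3
      rw [e1] at hi'
      have hlt : ℓ (Δ.δ c d) < ℓ (Δ.δ c d * cs.simple i) := by omega
      refine hQ i d fun d' hd' => ?_
      have h3 := Δ.step_lt c d d' i hd' hlt
      refine ih (ℓ (w0 cs) - ℓ (Δ.δ c d')) ?_ d' rfl
      rw [h3]
      omega
  exact fun d => key _ d rfl

variable {H : Type*} [Group H] {K : Subgroup H} [MulAction K C] (A : HAct Δ K)
  [F : OppRes.Cox cs] (S : Sys Δ K 2) {M : Type*} [Group M] [MulDistribMulAction H M]

/-- the functionals fixed by `U c` -/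
def Fx (c : C) (u : M → ℤˣ) : Prop :=
  (∀ w w', u (w * w') = u w * u w') ∧ ∀ k ∈ S.U c, ∀ w, u ((k : H) • w) = u w

variable {S}

include A

/-- transport of a fixed functional -/
theorem Fx.smul [K.Normal] {d : C} {u : M → ℤˣ} (h : Fx S d u) (g : H) :
    Fx S (A.θ g d) (fun w => u (g⁻¹ • w)) := by
  refine ⟨fun w w' => by change u (g⁻¹ • (w * w')) = u (g⁻¹ • w) * u (g⁻¹ • w'); rw [smul_mul', h.1], ?_⟩
  intro k hk w
  change u (g⁻¹ • (k : H) • w) = u (g⁻¹ • w)
  have h1 := conj_mem_U A S g⁻¹ hk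
  rw [A.θ_inv_θ] at h1
  have h2 := h.2 _ h1 (g⁻¹ • w)
  rw [MulAut.conjNormal_apply, smul_smul] at h2
  rw [← h2, smul_smul]
  congr 2
  group

omit A in
/-- a functional which is fixed by `U c` and trivial at a point opposite `c` is trivial -/
theorem Fx.eq_one {f : C → M} (hfK : ∀ (k : K) d, f (k • d) = (k : H) • f d)
    (hth : Δ.Thick) (hgen : ∀ N : Subgroup M, (∀ d, f d ∈ N) → N = ⊤)
    (hpan : ∀ i d, (∀ d', Δ.δ d d' = cs.simple i → f d' = f d) ∨
      ∃ d₁ d₂, Δ.δ d d₁ = cs.simple i ∧ Δ.δ d d₂ = cs.simple i ∧ f d = f d₁ * f d₂)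
    {c e : C} (he : Δ.Opp c e) {u : M → ℤˣ} (h : Fx S c u) (hu : u (f e) = 1) : ∀ w, u w = 1 := by
  have h1 : ∀ d, u (f d) = 1 := by
    refine gallery (Δ := Δ) (Q := fun d => u (f d) = 1) c ?_ ?_
    · intro i d hd
      rcases hpan i d with h2 | ⟨d₁, d₂, h2, h3, h4⟩
      · obtain ⟨d', -, -, h3, -⟩ := hth d i
        change u (f d) = 1
        rw [← h2 d' h3]
        exact hd d' h3
      · change u (f d) = 1
        rw [h4, h.1, hd d₁ h2, hd d₂ h3, one_mul]
    · intro e' he'
      obtain ⟨k, hk, rfl⟩ := S.trans c e e' he he'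
      change u (f (k • e)) = 1
      rw [hfK, h.2 k hk, hu]
  have hu1 : u 1 = 1 := by
    have := h.1 1 1
    rw [mul_one] at this
    exact (mul_eq_left.1 this.symm)
  let N : Subgroup M :=
    { carrier := {w | u w = 1}
      one_mem' := hu1
      mul_mem' := fun {a b} (ha : u a = 1) (hb : u b = 1) => by
        change u (a * b) = 1
        rw [h.1, ha, hb, mul_one]
      inv_mem' := fun {a} (ha : u a = 1) => by
        change u a⁻¹ = 1
        have h1 := h.1 a a⁻¹
        rw [mul_inv_cancel, hu1, ha, one_mul] at h1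
        exact h1.symm }
  have hN : N = ⊤ := hgen N h1
  intro w
  have : w ∈ N := by rw [hN]; trivial
  exact this

omit A in
theorem units_sq (z : ℤˣ) : z * z = 1 := by
  rcases Int.units_eq_one_or z with h | h <;> rw [h] <;> rfl

omit A in
/-- there is at most one functional `≠ 1` fixed by `U c` -/
theorem Fx.unique {f : C → M} (hfK : ∀ (k : K) d, f (k • d) = (k : H) • f d)
    (hth : Δ.Thick) (hgen : ∀ N : Subgroup M, (∀ d, f d ∈ N) → N = ⊤)
    (hpan : ∀ i d, (∀ d', Δ.δ d d' = cs.simple i → f d' = f d) ∨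
      ∃ d₁ d₂, Δ.δ d d₁ = cs.simple i ∧ Δ.δ d d₂ = cs.simple i ∧ f d = f d₁ * f d₂)
    {c : C} {u u' : M → ℤˣ} (h : Fx S c u) (h' : Fx S c u') (hu : ∃ w, u w ≠ 1) (hu' : ∃ w, u' w ≠ 1) : u = u' := by
  obtain ⟨e, he⟩ := Δ.exists_δ c (w0 cs)
  have h1 : ∀ {v : M → ℤˣ}, Fx S c v → (∃ w, v w ≠ 1) → v (f e) = -1 := by
    intro v hv hne
    rcases Int.units_eq_one_or (v (f e)) with h2 | h2
    · obtain ⟨w, hw⟩ := hne
      exact absurd (Fx.eq_one hfK hth hgen hpan he hv h2 w) hw
    · exact h2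
  have h2 : Fx S c (fun w => u w * u' w) := by
    refine ⟨fun w w' => ?_, fun k hk w => ?_⟩
    · change u (w * w') * u' (w * w') = u w * u' w * (u w' * u' w')
      rw [h.1, h'.1]
      exact mul_mul_mul_comm _ _ _ _
    · change u ((k : H) • w) * u' ((k : H) • w) = u w * u' w
      rw [h.2 k hk, h'.2 k hk]
  have h3 := Fx.eq_one hfK hth hgen hpan he h2 (by
    change u (f e) * u' (f e) = 1
    rw [h1 h hu, h1 h' hu']
    decide)
  funext w
  have h4 : u w * u' w = 1 := h3 w
  rw [← mul_one (u w), ← units_sq (u' w), ← mul_assoc, h4, one_mul]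

/-- **The fixed points of `U c`.** -/
theorem fixed_eq [K.Normal] [Finite H] [Finite C] [Finite M] (hth : Δ.Thick) (sq : ∀ m : M, m * m = 1)
    (irr : ∀ N : Subgroup M, (∀ h : H, ∀ w ∈ N, h • w ∈ N) → N = ⊥ ∨ N = ⊤)
    {f : C → M} (hfK : ∀ (k : K) d, f (k • d) = (k : H) • f d)
    (hgen : ∀ N : Subgroup M, (∀ d, f d ∈ N) → N = ⊤)
    (hpan : ∀ i d, (∀ d', Δ.δ d d' = cs.simple i → f d' = f d) ∨
      ∃ d₁ d₂, Δ.δ d d₁ = cs.simple i ∧ Δ.δ d d₂ = cs.simple i ∧ f d = f d₁ * f d₂)
    {c : C} {m m' : M} (hm : ∀ k ∈ S.U c, (k : H) • m = m) (hm' : ∀ k ∈ S.U c, (k : H) • m' = m')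
    (h1 : m ≠ 1) (h1' : m' ≠ 1) : m = m' := by
  classical
  have : Fact (Nat.Prime 2) := ⟨Nat.prime_two⟩
  have hMn : Nontrivial M := ⟨m, 1, h1⟩
  -- the fixed functionals
  have hex : ∀ d : C, ∃ u : M → ℤˣ, Fx S d u ∧ ∃ w, u w ≠ 1 := by
    intro d
    have hT : IsPGroup 2 ((S.U d).map K.subtype) := (S.isP d).map _
    obtain ⟨u, hu, hne, hfix⟩ := exists_functional (H := H) sq hMn hT
    exact ⟨u, ⟨hu, fun k hk w => hfix (k : H) ⟨k, hk, rfl⟩ w⟩, hne⟩
  choose g hg hgne using hex
  have uniq : ∀ (d : C) (u : M → ℤˣ), Fx S d u → (∃ w, u w ≠ 1) → u = g d := fun d u hu hne =>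
    Fx.unique hfK hth hgen hpan hu (hg d) hne (hgne d)
  -- equivariance
  have hgH : ∀ (h : H) (d : C) (w : M), g (A.θ h d) w = g d (h⁻¹ • w) := by
    intro h d w
    have h2 := uniq (A.θ h d) _ ((hg d).smul A h) (by
      obtain ⟨w, hw⟩ := hgne d
      exact ⟨h • w, by rwa [inv_smul_smul]⟩)
    exact (congrFun h2 w).symm
  have hgK : ∀ (k : K) (d : C) (w : M), g (k • d) w = g d ((k : H)⁻¹ • w) := by
    intro k d w
    rw [← A.θ_K, hgH]
  -- the annihilator
  have hg1 : ∀ d, g d 1 = 1 := by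
    intro d
    have := (hg d).1 1 1
    rw [mul_one] at this
    exact (mul_eq_left.1 this.symm)
  let N : Subgroup M :=
    { carrier := {w | ∀ d, g d w = 1}
      one_mem' := hg1
      mul_mem' := fun {a b} ha hb d => by rw [(hg d).1, ha d, hb d, mul_one]
      inv_mem' := fun {a} ha d => by
        have h1 := (hg d).1 a a⁻¹
        rw [mul_inv_cancel, hg1, ha d, one_mul] at h1
        exact h1.symm }
  have hNm : ∀ w, w ∈ N ↔ ∀ d, g d w = 1 := fun _ => Iff.rfl
  have hN : N = ⊥ := by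
    rcases irr N (fun h w hw => by
      rw [hNm] at hw ⊢
      intro d
      have h2 := hgH h⁻¹ d w
      rw [inv_inv] at h2
      rw [← h2]
      exact hw _) with h2 | h2
    · exact h2
    · exfalso
      obtain ⟨w, hw⟩ := hgne c
      have h3 : w ∈ N := by rw [h2]; trivial
      exact hw (h3 c)
  -- the panels
  have hpan' : ∀ i d, (∀ d', Δ.δ d d' = cs.simple i → g d' = g d) ∨
      ∀ w, (∀ d', Δ.δ d d' = cs.simple i → g d' w = 1) → g d w = 1 := by
    intro i d
    set P : Finset C := (Δ.Pan i d).toFinite.toFinset with hP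
    have hPm : ∀ a, a ∈ P ↔ a ∈ Δ.Pan i d := fun a => by rw [hP, Set.Finite.mem_toFinset]
    set μ : M → ℤˣ := fun w => ∏ a ∈ P, g a w with hμ
    -- invariance of the panel
    have hinv : ∀ a ∈ Δ.Pan i d, ∀ k ∈ S.U a, ∀ b, b ∈ Δ.Pan i d → k • b ∈ Δ.Pan i d := by
      intro a ha k hk b hb
      have h2 : b ∈ Δ.Pan i a := by rwa [Δ.Pan_eq_of_mem ha]
      rw [← Δ.Pan_eq_of_mem ha]
      rcases h2 with h2 | h2
      · left; rw [h2, S.fix a k hk]
      · right
        have h3 := S.iso k a b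
        rw [S.fix a k hk] at h3
        rw [h3]
        exact h2
    have hμF : ∀ a ∈ Δ.Pan i d, Fx S a μ := by
      intro a ha
      refine ⟨fun w w' => ?_, fun k hk w => ?_⟩
      · change ∏ a ∈ P, g a (w * w') = (∏ a ∈ P, g a w) * ∏ a ∈ P, g a w'
        rw [← Finset.prod_mul_distrib]
        exact Finset.prod_congr rfl fun b _ => (hg b).1 w w'
      · change ∏ b ∈ P, g b ((k : H) • w) = ∏ b ∈ P, g b w
        refine Finset.prod_bij' (fun b _ => k⁻¹ • b) (fun b _ => k • b) ?_ ?_ ?_ ?_ ?_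
        · intro b hb
          rw [hPm] at hb ⊢
          exact hinv a ha k⁻¹ (inv_mem hk) b hb
        · intro b hb
          rw [hPm] at hb ⊢
          exact hinv a ha k hk b hb
        · intro b _; exact smul_inv_smul k b
        · intro b _; exact inv_smul_smul k b
        · intro b _
          change g b ((k : H) • w) = g (k⁻¹ • b) w
          rw [hgK, Subgroup.coe_inv, inv_inv]
    by_cases hμ1 : ∃ w, μ w ≠ 1
    · left
      intro d' hd'
      rw [← uniq d' μ (hμF d' (Or.inr hd')) hμ1, ← uniq d μ (hμF d (Or.inl rfl)) hμ1]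
    · right
      push Not at hμ1
      intro w hw
      have h2 : ∏ a ∈ P, g a w = 1 := hμ1 w
      rw [← Finset.mul_prod_erase P (fun a => g a w) ((hPm d).2 (Or.inl rfl))] at h2
      rw [Finset.prod_eq_one, mul_one] at h2
      · exact h2
      · intro b hb
        rw [Finset.mem_erase, hPm] at hb
        rcases hb.2 with h3 | h3
        · exact absurd h3 hb.1
        · exact hw b h3
  -- a fixed point with trivial value is trivial
  obtain ⟨e, he⟩ := Δ.exists_δ c (w0 cs)
  have key : ∀ n : M, (∀ k ∈ S.U c, (k : H) • n = n) → g e n = 1 → n = 1 := by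
    intro n hn hne
    have h2 : ∀ d, g d n = 1 := by
      refine gallery (Δ := Δ) (Q := fun d => g d n = 1) c ?_ ?_
      · intro i d hd
        rcases hpan' i d with h3 | h3
        · obtain ⟨d', -, -, h4, -⟩ := hth d i
          change g d n = 1
          rw [← h3 d' h4]
          exact hd d' h4
        · exact h3 n hd
      · intro e' he'
        obtain ⟨k, hk, rfl⟩ := S.trans c e e' he he'
        change g (k • e) n = 1
        have h3 := hn _ (inv_mem hk)
        rw [Subgroup.coe_inv] at h3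
        rw [hgK, h3, hne]
    have h3 : n ∈ N := h2
    rwa [hN, Subgroup.mem_bot] at h3
  have hval : ∀ n : M, (∀ k ∈ S.U c, (k : H) • n = n) → n ≠ 1 → g e n = -1 := by
    intro n hn hne
    rcases Int.units_eq_one_or (g e n) with h2 | h2
    · exact absurd (key n hn h2) hne
    · exact h2
  have h2 := key (m * m') (fun k hk => by rw [smul_mul', hm k hk, hm' k hk]) (by
    rw [(hg e).1, hval m hm h1, hval m' hm' h1']
    decide)
  rw [← mul_one m, ← sq m', ← mul_assoc, h2, one_mul]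

end Cfsg.Agent.Omega.KL.Gal
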