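import Cfsg.Agent.Omega.KL.GalPos
import Cfsg.Agent.Omega.KL.LieTwo

/-!
# Groups of Lie type in characteristic two over `F_2`, one vector: the facts for THEOREM FULL (helper233)

* `One T V x` : `x` is fixed by `N_H(T)`, every `T`-minimal `P` which moves `x` normalises `V ∋ x`, `|V| = 4`;
* `exists_PF` : the gallery data `PF` for `f (k • c) = k • x`;
* **`full`** : `K` normal and simple with a split (B,N)-pair of characteristic two, `K T = H`, `C_H(K) = 1`, `M`
  irreducible: the `T`-fixed functionals are `1` and `u ≠ 1`, `u (g • x) = -1` and `u (g⁻¹ • x) = -1` for some `g`, the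
  `T`-fixed vectors are `1` and `x`, and `O₂(C_H(x))` is semiregular on the conjugates of `u` which do not vanish at `x`.
-/

set_option autoImplicit false
set_option linter.unusedSectionVars false

namespace Cfsg.Agent.Omega.KL.Full

open Cfsg.Agent.Tits.Core Cfsg.Agent.Tits.Core.Bldg Cfsg.Agent.Tits.Exchange Cfsg.Agent.Tits
open Cfsg.Agent.FixBN Cfsg.Agent.FixBN.Cox Cfsg.Agent.UGT.U2.FOne Cfsg.Agent.Omega.ML.LieRow Cfsg.Agent.ZN
open Cfsg.Agent.MinSimple.MinParabolic (IsMinPar le_of_forall)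
open Cfsg.Agent.Omega.KL.LieTwo (Orb RO T_le_RO U_le_RO RO_le mem_tp exists_RO mem_Orb isMinPar third)
open Cfsg.Agent.Omega.KL.Def (Two)
open Cfsg.Agent.Omega.KL.Gal (PF Fx)

universe u v

/-- one `T`-fixed vector `x`, moved only by minimal parabolics which normalise `V` -/
structure One {H : Type u} [Group H] {M : Type v} [Group M] [MulDistribMulAction H M] (T : Subgroup H)
    (V : Subgroup M) (x : M) : Prop where
  sq : ∀ m : M, m * m = 1
  two : IsPGroup 2 T
  syl : ¬ 2 ∣ T.index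
  x1 : x ≠ 1
  nx : ∀ g ∈ Subgroup.normalizer (T : Set H), g • x = x
  cV : Nat.card V = 4
  xV : x ∈ V
  uni : ∀ P : Subgroup H, IsMinPar T P → (∃ p ∈ P, p • x ≠ x) → ∀ p ∈ P, ∀ w ∈ V, p • w ∈ V

theorem _root_.Cfsg.Agent.Omega.KL.Def.Two.toOne {H : Type u} [Group H] {M : Type v} [Group M]
    [MulDistribMulAction H M] {T : Subgroup H} {V : Subgroup M} {x y : M} (h : Two T V x y) : One T V x :=
  ⟨h.sq, h.two, h.syl, h.x1, h.nx, h.cV, h.xV, fun P hP hm => (h.uni P hP hm).1⟩

/-- `T` fixes `x` -/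
theorem One.tx {H : Type u} [Group H] {M : Type v} [Group M] [MulDistribMulAction H M] {T : Subgroup H}
    {V : Subgroup M} {x : M} (h : One T V x) {t : H} (ht : t ∈ T) : t • x = x := h.nx t (Subgroup.le_normalizer ht)

variable {I : Type*} {Mx : CoxeterMatrix I} {W : Type*} [Group W] {cs : CoxeterSystem Mx W} {C : Type*}
  {Δ : Bldg cs C}

local prefix:100 "ℓ" => cs.length

variable {H : Type u} [Group H] {K : Subgroup H} [MulAction K C] (A : HAct Δ K)
  [F : OppRes.Cox cs] (S : Sys Δ K 2)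

section Main

variable [K.Normal] [Nonempty C] {T : Subgroup H} (hKT : K ⊔ T = ⊤)

variable {c : C} (hc : ∀ t ∈ T, A.θ t c = c) (hUc : S.U c = T.subgroupOf K)

variable {M : Type v} [Group M] [MulDistribMulAction H M] {V : Subgroup M} {x : M}

variable (h : One T V x) (irr : ∀ N : Subgroup M, (∀ g : H, ∀ w ∈ N, g • w ∈ N) → N = ⊥ ∨ N = ⊤)

include h in
/-- a mover normalises `V` -/
theorem mover {P : Subgroup H} (hP : IsMinPar T P) (hm : ¬ ∀ p ∈ P, p • x = x) : ∀ p ∈ P, ∀ w ∈ V, p • w ∈ V := by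
  push Not at hm
  exact h.uni P hP hm

include h irr in
/-- `H` moves `x` -/
theorem moves : ∃ g : H, g • x ≠ x := by
  by_contra hcon
  push Not at hcon
  have h1 : ∀ m ∈ Subgroup.zpowers x, m = 1 ∨ m = x := by
    rintro m ⟨n, rfl⟩
    change x ^ n = 1 ∨ x ^ n = x
    rcases Int.even_or_odd' n with ⟨k, rfl | rfl⟩
    · left
      rw [zpow_mul, zpow_ofNat, pow_two, h.sq, one_zpow]
    · right
      rw [zpow_add, zpow_mul, zpow_ofNat, pow_two, h.sq, one_zpow, one_mul, zpow_one]
  rcases irr (Subgroup.zpowers x) (fun g w hw => by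
    rcases h1 w hw with rfl | rfl
    · rw [smul_one]; exact one_mem _
    · rw [hcon]; exact hw) with h2 | h2
  · exact h.x1 (Subgroup.zpowers_eq_bot.1 h2)
  · have h3 : Nat.card V ≤ 2 := by
      have h4 : (V : Set M) ⊆ {1, x} := by
        intro w _
        have h5 : w ∈ Subgroup.zpowers x := by rw [h2]; trivial
        rcases h1 w h5 with h6 | h6 <;> simp [h6]
      have h7 := Set.ncard_le_ncard h4 (Set.toFinite _)
      have h8 : ({1, x} : Set M).ncard ≤ 2 := by
        have := Set.ncard_insert_le (1 : M) {x}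
        rwa [Set.ncard_singleton] at this
      have h9 : Nat.card V = (V : Set M).ncard := rfl
      omega
    have h4 := h.cV
    omega

include A hKT hc hUc h irr in
/-- **`U c` moves `V`** -/
theorem exists_move [IsSimpleGroup K] [Nonempty I] (hth : Δ.Thick) : ∃ k ∈ S.U c, ∃ w ∈ V, (k : H) • w ≠ w := by
  by_contra hcon
  push Not at hcon
  -- some `RO` moves `x`
  set X : Subgroup K := (MulAction.stabilizer H x).subgroupOf K with hX
  have hUX : S.U c ≤ X := by
    rw [hUc]
    exact fun k hk => h.tx hk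
  have hXt : X ≠ ⊤ := by
    intro hXt
    obtain ⟨g, hg⟩ := moves h irr
    apply hg
    obtain ⟨k, t, ht, rfl⟩ := exists_kt A S hKT g
    rw [mul_smul, h.tx ht]
    have h1 : k ∈ X := by rw [hXt]; trivial
    exact h1
  obtain ⟨i, hi⟩ : ∃ i, i ∉ tp Δ X c := by
    by_contra h1
    push Not at h1
    exact hXt (eq_top_of_tp S hth hUX (Set.eq_univ_iff_forall.2 h1))
  have hmv : ¬ ∀ p ∈ RO Δ S T (Orb A T i) c, p • x = x := by
    intro h1
    apply hi
    refine mem_tp S hth (O := Orb A T i) ?_ (mem_Orb A i)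
    intro d hd k hk
    exact h1 k (U_le_RO S hd hk)
  have hmin : IsMinPar T (RO Δ S T (Orb A T i) c) := by
    refine isMinPar A S hKT hc hUc hth i ?_
    intro h1
    exact hmv fun p hp => h.nx p (h1 hp)
  have hV := mover h hmin hmv
  apply hmv
  have hle : RO Δ S T (Orb A T i) c ≤ MulAction.stabilizer H x := by
    refine RO_le S (fun t ht => h.tx ht) ?_
    intro d hd k hk
    have hU : S.U c ≤ (RO Δ S T (Orb A T i) c).subgroupOf K := fun k hk => by
      rw [Subgroup.mem_subgroupOf]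
      exact U_le_RO S (Δ.self_mem_Res _ c) hk
    obtain ⟨g, hg, rfl⟩ := exists_RO S hth (T := T) hd hU
    have h3 : g * (g⁻¹ * k * g) * g⁻¹ ∈ S.U (g • c) := by
      have : g * (g⁻¹ * k * g) * g⁻¹ = k := by group
      rwa [this]
    have h4 := hcon _ ((S.conj_mem_U_iff).1 h3) _ (hV _ (inv_mem hg) x h.xV)
    have h5 : (k : H) • x = (g : H) • ((g⁻¹ * k * g : K) : H) • (g : H)⁻¹ • x := by
      rw [smul_smul, smul_smul]
      congr 1
      push_cast
      group
    rw [MulAction.mem_stabilizer_iff, h5, h4, smul_inv_smul]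
  exact fun p hp => hle hp

include A hKT hc hUc h irr in
/-- **the stabiliser of `c` fixes `x`** -/
theorem fix_of_stab [Finite H] [IsSimpleGroup K] [Nonempty I] (hth : Δ.Thick) {g : H} (hg : A.θ g c = c) :
    g • x = x := by
  obtain ⟨k₀, hk₀, w₀, hw₀, hne⟩ := exists_move A S hKT hc hUc h irr hth
  let B : Subgroup H :=
    { carrier := {g | A.θ g c = c}
      one_mem' := A.θ_one c
      mul_mem' := fun {a b} (ha : A.θ a c = c) (hb : A.θ b c = c) => by
        change A.θ (a * b) c = c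
        rw [A.θ_mul, hb, ha]
      inv_mem' := fun {a} (ha : A.θ a c = c) => by
        change A.θ a⁻¹ c = c
        have := A.θ_inv_θ a c
        rwa [ha] at this }
  have hB : B ≤ MulAction.stabilizer H x := by
    refine le_of_forall (S := T) (fun t ht => hc t ht) (fun g hg => h.nx g hg.2) ?_
    intro P hP hPB
    by_contra hPx
    have hmv : ¬ ∀ p ∈ P, p • x = x := fun h1 => hPx fun p hp => h1 p hp
    have hV := mover h hP hmv
    push Not at hmv
    obtain ⟨p, hp, hpx⟩ := hmv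
    -- `U c` fixes `x` and `p • x`
    have h1 : ∀ k ∈ S.U c, (k : H) • x = x := by
      intro k hk
      rw [hUc] at hk
      exact h.tx hk
    have h2 : ∀ k ∈ S.U c, (k : H) • p • x = p • x := by
      intro k hk
      have h3 := conj_mem_U A S p⁻¹ hk
      have h3' : A.θ p⁻¹ c = c := B.inv_mem (hPB hp)
      rw [h3'] at h3
      have h4 := h1 _ h3
      rw [MulAut.conjNormal_apply, inv_inv] at h4
      have h5 : (k : H) • p • x = p • (p⁻¹ * (k : H) * p) • x := by
        rw [smul_smul, smul_smul]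
        congr 1
        group
      rw [h5, h4]
    -- so it centralises `V`
    apply hne
    by_cases hw1 : w₀ = 1
    · rw [hw1, smul_one]
    by_cases hwx : w₀ = x
    · rw [hwx, h1 _ hk₀]
    by_cases hwp : w₀ = p • x
    · rw [hwp, h2 _ hk₀]
    have hp1 : p • x ≠ 1 := by
      intro h3
      apply h.x1
      rw [← inv_smul_smul p x, h3, smul_one]
    have h3 := third h.sq h.cV hw₀ h.xV (hV p hp x h.xV) hw1 h.x1 hp1 hwx hwp (Ne.symm hpx)
    rw [h3, smul_mul', h1 _ hk₀, h2 _ hk₀]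
  exact hB hg


include A hKT hc hUc h irr in
/-- **the gallery data** -/
theorem exists_PF [Finite H] [IsSimpleGroup K] [Nonempty I] (hth : Δ.Thick) :
    ∃ (J : Set I) (f : C → M), f c = x ∧ PF A J f := by
  classical
  have hB : ∀ {g : H}, A.θ g c = c → g • x = x := fun hg => fix_of_stab A S hKT hc hUc h irr hth hg
  have htr := exists_smul_top S hth c
  choose κ hκ using htr
  set f : C → M := fun d => (κ d : H) • x with hf
  have hfc : ∀ k : K, f (k • c) = (k : H) • x := by
    intro k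
    have h1 : A.θ ((k⁻¹ * κ (k • c) : K) : H) c = c := by
      rw [A.θ_K, mul_smul, hκ, inv_smul_smul]
    have h2 := hB h1
    change (κ (k • c) : H) • x = (k : H) • x
    have h3 : (κ (k • c) : H) • x = (k : H) • ((k⁻¹ * κ (k • c) : K) : H) • x := by
      rw [smul_smul]
      congr 1
      push_cast
      group
    rw [h3, h2]
  have hfc1 : f c = x := by
    have := hfc 1
    rwa [one_smul, OneMemClass.coe_one, one_smul] at this
  have hfK : ∀ (k : K) d, f (k • d) = (k : H) • f d := by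
    intro k d
    rw [← hκ d, smul_smul, hfc, hfc, Subgroup.coe_mul, mul_smul]
  have hfθ : ∀ g : H, f (A.θ g c) = g • x := by
    intro g
    obtain ⟨k, t, ht, rfl⟩ := exists_kt A S hKT g
    rw [A.θ_mul, hc t ht, A.θ_K, hfc, mul_smul, h.tx ht]
  have hfH : ∀ (g : H) d, f (A.θ g d) = g • f d := by
    intro g d
    have h1 : d = A.θ (κ d : H) c := by rw [A.θ_K, hκ]
    rw [h1, ← A.θ_mul, hfθ, hfθ, mul_smul]
  have hgen : ∀ N : Subgroup M, (∀ d, f d ∈ N) → N = ⊤ := by
    intro N hN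
    rcases irr (Subgroup.closure (Set.range f)) (by
      intro g w hw
      induction hw using Subgroup.closure_induction with
      | mem w hw =>
        obtain ⟨d, rfl⟩ := hw
        rw [← hfH]
        exact Subgroup.subset_closure ⟨_, rfl⟩
      | one => rw [smul_one]; exact one_mem _
      | mul a b _ _ ha hb => rw [smul_mul']; exact mul_mem ha hb
      | inv a _ ha => rw [smul_inv']; exact inv_mem ha) with h1 | h1
    · exfalso
      apply h.x1
      have h2 : f c ∈ Subgroup.closure (Set.range f) := Subgroup.subset_closure ⟨c, rfl⟩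
      rwa [h1, Subgroup.mem_bot, hfc1] at h2
    · rw [eq_top_iff, ← h1, Subgroup.closure_le]
      rintro _ ⟨d, rfl⟩
      exact hN d
  -- transport to a panel of `c`
  have hpull : ∀ (k : K) {i : I} {d : C}, Δ.δ (k • c) d = cs.simple i → Δ.δ c (k⁻¹ • d) = cs.simple i := by
    intro k i d hd
    rw [← hd, ← S.iso k c, smul_inv_smul]
  set J : Set I := {i | ∀ d', Δ.δ c d' = cs.simple i → f d' = f c} with hJ
  have hconst : ∀ i ∈ J, ∀ d d', Δ.δ d d' = cs.simple i → f d' = f d := by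
    intro i hi d d' hd
    obtain ⟨k, rfl⟩ : ∃ k : K, k • c = d := ⟨κ d, hκ d⟩
    have h1 := hi _ (hpull k hd)
    rw [hfK, ← h1, ← hfK, smul_inv_smul]
  -- the panels of type outside `J`
  have hfx : ∀ i, i ∉ J → ∀ d', Δ.δ c d' = cs.simple i → f d' ≠ f c := by
    intro i hi d' hd' h2
    apply hi
    intro d hd
    obtain ⟨u, hu, rfl⟩ := S.exists_move (hd'.trans hd.symm)
    rw [hfK, h2, hfc1]
    rw [hUc] at hu
    exact h.tx hu
  have hne : ∀ i, i ∉ J → ∀ d d', Δ.δ d d' = cs.simple i → f d' ≠ f d := by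
    intro i hi d d' hd
    obtain ⟨k, rfl⟩ : ∃ k : K, k • c = d := ⟨κ d, hκ d⟩
    have h1 := hfx i hi _ (hpull k hd)
    intro h2
    apply h1
    rw [hfK, h2, ← hfK, inv_smul_smul]
  have hf1 : ∀ d', f d' ≠ 1 := by
    intro d' h2
    apply h.x1
    rw [← inv_smul_smul (κ d' : H) x]
    change (κ d' : H)⁻¹ • f d' = 1
    rw [h2, smul_one]
  have hfV : ∀ i, i ∉ J → ∀ d', Δ.δ c d' = cs.simple i → f d' ∈ V := by
    intro i hi
    have hU : S.U c ≤ (RO Δ S T (Orb A T i) c).subgroupOf K := fun k hk => by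
      rw [Subgroup.mem_subgroupOf]
      exact U_le_RO S (Δ.self_mem_Res _ c) hk
    have hRO : ∀ d', Δ.δ c d' = cs.simple i → ∃ k : K, (k : H) ∈ RO Δ S T (Orb A T i) c ∧ k • c = d' := fun d' hd' =>
      exists_RO S hth (T := T) (Δ.Pan_subset_Res (mem_Orb A i) c (Or.inr hd')) hU
    have hmv : ¬ ∀ p ∈ RO Δ S T (Orb A T i) c, p • x = x := by
      intro h2
      apply hi
      intro d hd
      obtain ⟨k, hk, rfl⟩ := hRO d hd
      rw [hfc, hfc1, h2 k hk]
    have hmin : IsMinPar T (RO Δ S T (Orb A T i) c) := by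
      refine isMinPar A S hKT hc hUc hth i ?_
      intro h1
      exact hmv fun p hp => h.nx p (h1 hp)
    have hV := mover h hmin hmv
    intro d' hd'
    obtain ⟨k, hk, rfl⟩ := hRO d' hd'
    rw [hfc]
    exact hV _ hk x h.xV
  have hinj : ∀ i, i ∉ J → ∀ a b, Δ.δ c a = cs.simple i → Δ.δ c b = cs.simple i → a ≠ b → f a ≠ f b := by
    intro i hi a b ha hb hab h1
    exact hne i hi a b (Δ.δ_eq_of_mem_Pan (Or.inr ha) (Or.inr hb) hab) h1.symm
  have hsum : ∀ i, i ∉ J → ∀ a b, Δ.δ c a = cs.simple i → Δ.δ c b = cs.simple i → a ≠ b → f c = f a * f b := by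
    intro i hi a b ha hb hab
    exact third h.sq h.cV (hfc1 ▸ h.xV) (hfV i hi a ha) (hfV i hi b hb) (hf1 c) (hf1 a) (hf1 b)
      (hfx i hi a ha).symm (hfx i hi b hb).symm (hinj i hi a b ha hb hab)
  refine ⟨J, f, hfc1, ?_⟩
  refine { fK := hfK, fH := hfH, gen := hgen, const := hconst, ne := hne, sum := ?_, three := ?_, one := ?_ }
  · intro i hi d a b ha hb hab
    obtain ⟨k, rfl⟩ : ∃ k : K, k • c = d := ⟨κ d, hκ d⟩
    have h1 := hsum i hi _ _ (hpull k ha) (hpull k hb) (fun h2 => hab (smul_left_cancel _ h2))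
    rw [hfK, h1, smul_mul', ← hfK, ← hfK, smul_inv_smul, smul_inv_smul]
  · intro i hi d a b y ha hb hab hy
    obtain ⟨k, rfl⟩ : ∃ k : K, k • c = d := ⟨κ d, hκ d⟩
    by_contra hcon
    push Not at hcon
    have h1 := hsum i hi _ _ (hpull k ha) (hpull k hb) (fun h2 => hab (smul_left_cancel _ h2))
    have h2 := hsum i hi _ _ (hpull k ha) (hpull k hy) (fun h2 => hcon.1 (smul_left_cancel _ h2).symm)
    rw [h1] at h2
    exact hinj i hi _ _ (hpull k hb) (hpull k hy) (fun h3 => hcon.2 (smul_left_cancel _ h3).symm)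
      (mul_left_cancel h2)
  · intro i j hi hj
    by_contra hij
    obtain ⟨a, b, hab, ha, hb⟩ := hth c j
    obtain ⟨e₁, -, -, he₁, -⟩ := hth c i
    obtain ⟨e₂, he₂, hee⟩ : ∃ e₂, Δ.δ c e₂ = cs.simple j ∧ f e₂ = f e₁ := by
      by_cases h1 : f a = f e₁
      · exact ⟨a, ha, h1⟩
      · refine ⟨b, hb, ?_⟩
        have h2 := hsum j hj a b ha hb hab
        have h3 : f c = f a * f e₁ := third h.sq h.cV (hfc1 ▸ h.xV) (hfV j hj a ha) (hfV i hi e₁ he₁) (hf1 c) (hf1 a)
          (hf1 e₁) (hfx j hj a ha).symm (hfx i hi e₁ he₁).symm h1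
        rw [h2] at h3
        exact mul_left_cancel h3
    -- the stabiliser of `x` in `K`
    set X : Subgroup K := (MulAction.stabilizer H (f c)).subgroupOf K with hX
    have hUX : S.U c ≤ X := by
      intro k hk
      rw [hUc] at hk
      change (k : H) • f c = f c
      rw [hfc1]
      exact h.tx hk
    have htp : tp Δ X c ⊆ J := by
      rintro i' ⟨k', hk', hkc⟩
      by_contra hi'
      apply hne i' hi' c (k' • c) hkc
      rw [hfK]
      exact hk'
    have hk : (κ e₁)⁻¹ * κ e₂ ∈ X := by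
      change (((κ e₁)⁻¹ * κ e₂ : K) : H) • f c = f c
      rw [hfc1, Subgroup.coe_mul, mul_smul]
      change ((κ e₁)⁻¹ : H) • f e₂ = x
      rw [hee]
      change (κ e₁ : H)⁻¹ • (κ e₁ : H) • x = x
      rw [inv_smul_smul]
    have h1 := OppRes.WJ_mono htp (delta_mem_tp S hth hUX _ hk)
    rw [mul_smul, hκ, ← S.iso (κ e₁), hκ, smul_inv_smul] at h1
    have hij' : cs.simple i ≠ cs.simple j := fun h2 => hij (F.inj h2)
    have hlen : ℓ (cs.simple i) < ℓ (cs.simple i * cs.simple j) := by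
      rw [cs.length_simple]
      rcases cs.length_mul_simple (cs.simple i) j with h2 | h2
      · rw [h2, cs.length_simple]; omega
      · rw [cs.length_simple] at h2
        exfalso
        have h3 : cs.simple i * cs.simple j = 1 := cs.length_eq_zero_iff.1 (by omega)
        apply hij'
        rw [← mul_one (cs.simple i), ← cs.simple_mul_simple_self j, ← mul_assoc, h3, one_mul]
    have h2 : Δ.δ e₁ c = cs.simple i := Δ.δ_symm_simple he₁
    have h3 := Δ.step_lt e₁ c e₂ j he₂ (by rw [h2]; exact hlen)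
    rw [h3, h2] at h1
    apply hj
    apply F.descent_mem J _ h1 j
    rw [mul_assoc, cs.simple_mul_simple_self, mul_one]
    exact hlen

end Main

end Cfsg.Agent.Omega.KL.Full

namespace Cfsg.Agent.Omega.KL.Full

open Subgroup Cfsg Cfsg.Agent.ZN Cfsg.Agent.Omega.ML.Rows Cfsg.Agent.Omega.ML.LieRow Cfsg.Agent.UGT.U2.FOne
open Cfsg.Agent.Tits.Core Cfsg.Agent.Tits.OfBN Cfsg.Agent.Schreier.BNSch Cfsg.Agent.FixBN
open Cfsg.Agent.Omega.KL.Def (Two KK)
open Cfsg.Agent.Omega.KL.Gal (PF Fx)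

universe u v

/-- **The facts of the gallery over `F_2`.** -/
structure Out {H : Type u} [Group H] {M : Type v} [Group M] [MulDistribMulAction H M] (T : Subgroup H)
    (x : M) (u : M →* ℤˣ) : Prop where
  /-- `u ≠ 1` -/
  u1 : u ≠ 1
  /-- `T` fixes `u` -/
  tu : ∀ t ∈ T, ∀ w, u (t • w) = u w
  /-- the `T`-fixed functionals -/
  uniq : ∀ φ : M →* ℤˣ, (∀ t ∈ T, ∀ w, φ (t • w) = φ w) → φ = 1 ∨ φ = u
  /-- the `T`-fixed vectors -/
  fix : ∀ m : M, (∀ t ∈ T, t • m = m) → m = 1 ∨ m = x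
  /-- an opposite pair -/
  opp : ∃ g : H, u (g • x) = -1 ∧ u (g⁻¹ • x) = -1
  /-- semiregularity -/
  semi : ∀ t ∈ o2 (MulAction.stabilizer H x), ∀ g : H, u (g⁻¹ • x) ≠ 1 → (∀ w, u (g⁻¹ • t • w) = u (g⁻¹ • w)) → t = 1

/-- **The facts of the gallery over `F_2`, split (B,N)-pairs.** -/
theorem full {H : Type u} [Group H] [Finite H] {M : Type v} [Group M] [Finite M] [MulDistribMulAction H M]
    {K T : Subgroup H} {V : Subgroup M} {x : M} (h : One T V x)
    (irr : ∀ N : Subgroup M, (∀ g : H, ∀ w ∈ N, g • w ∈ N) → N = ⊥ ∨ N = ⊤) (norm : K.Normal)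
    (simple : IsSimpleGroup K) (cen : centralizer (K : Set H) = ⊥) (KT : K ⊔ T = ⊤) (hs : HasSplit 2 K) :
    ∃ u : M →* ℤˣ, Out T x u := by
  have : Fact (Nat.Prime 2) := ⟨Nat.prime_two⟩
  obtain ⟨P, U, hne, hsp⟩ := hs
  have hN : ((P.B ⊓ P.N).subgroupOf P.N).Normal := normal_subgroupOf P
  obtain ⟨Mx, cs, hcs⟩ := S0320.result P
  have hI : Finite P.S := OfBN.finite_I (Equiv.refl P.S)
  have hIn : Nonempty P.S := hne.to_subtype
  have S := OfBN.sys (Equiv.refl P.S) cs hcs hsp
  have hth := thick P (Equiv.refl P.S) cs hcs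
  obtain ⟨A⟩ := exists_hact S hth (fun τ => UGT.U2.FOne.exists_mv hsp (Equiv.refl P.S) cs hcs τ)
  obtain ⟨c, hc, hUc⟩ := exists_chamber A S hth h.two h.syl
  have hC : Nonempty (K ⧸ P.B) := ⟨c⟩
  obtain ⟨J, f, rfl, hf⟩ := exists_PF A S KT hc hUc h irr hth
  -- the functional
  have hMn : Nontrivial M := ⟨_, 1, h.x1⟩
  obtain ⟨u₀, hu, hne', hfix⟩ := exists_functional (H := H) h.sq hMn h.two
  have hFx : ∀ φ : M → ℤˣ, (∀ w w', φ (w * w') = φ w * φ w') → (∀ t ∈ T, ∀ w, φ (t • w) = φ w) → Fx S c φ := by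
    intro φ h1 h2
    refine ⟨h1, fun k hk w => ?_⟩
    rw [hUc] at hk
    exact h2 k hk w
  have hu0 : Fx S c u₀ := hFx u₀ hu hfix
  set u : M →* ℤˣ := MonoidHom.mk' u₀ hu with hudef
  have huu : ∀ w, u w = u₀ w := fun _ => rfl
  obtain ⟨e, he⟩ := (bldg P (Equiv.refl P.S) cs hcs).exists_δ c (w0 cs)
  obtain ⟨g, hg⟩ := exists_smul_top S hth c e
  refine ⟨u, ?_, ?_, ?_, ?_, ⟨(g : H), ?_, ?_⟩, ?_⟩
  · obtain ⟨w, hw⟩ := hne'
    intro h1
    apply hw
    rw [← huu, h1]
    rfl
  · exact fun t ht w => hfix t ht w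
  · intro φ hφ
    by_cases h1 : φ = 1
    · exact Or.inl h1
    right
    have h2 : ∃ w, φ w ≠ 1 := by
      by_contra hcon
      push Not at hcon
      exact h1 (MonoidHom.ext hcon)
    have h3 := Fx.unique hf.fK hth hf.gen (hf.pan hth) (hFx φ (fun w w' => map_mul φ w w') hφ) hu0 h2 hne'
    exact MonoidHom.ext fun w => congrFun h3 w
  · intro m hm
    by_cases h1 : m = 1
    · exact Or.inl h1
    right
    refine Gal.fixed_eq A (S := S) hth h.sq irr hf.fK hf.gen (hf.pan hth) (c := c) ?_ ?_ h1 h.x1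
    · intro k hk
      rw [hUc] at hk
      exact hm _ hk
    · intro k hk
      rw [hUc] at hk
      exact h.tx hk
  · rw [← hf.fK, hg]
    exact hf.opp_ne hth (show (bldg P (Equiv.refl P.S) cs hcs).Opp c e from he) hu0 hne'
  · have h1 : ((g : H))⁻¹ = ((g⁻¹ : K) : H) := rfl
    rw [h1, ← hf.fK]
    refine hf.opp_ne hth ?_ hu0 hne'
    change (bldg P (Equiv.refl P.S) cs hcs).δ c (g⁻¹ • c) = w0 cs
    rw [← S.iso g, smul_inv_smul, hg, (bldg P (Equiv.refl P.S) cs hcs).symm c e, he]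
    exact Cfsg.Agent.Tits.OppRes.Cox.w0_inv inferInstance
  · intro t ht g' hg' htu
    have h1 := hu0.smul A g'
    refine hf.semi hth ?_ (fun k hk => eq_one_of_smul S hth hk) h.two h.syl KT hc ?_ ht h1 hg' htu
    · intro z hz
      have h1 : z ∈ centralizer (K : Set H) := mem_centralizer_iff.2 fun k hk => (hz k hk).symm
      rwa [cen, mem_bot] at h1
    · intro k hk
      rw [hUc] at hk
      exact h.tx hk

/-- **The facts of the gallery over `F_2`, Lie type.** -/
theorem full_lie {H : Type u} [Group H] [Finite H] {M : Type v} [Group M] [Finite M] [MulDistribMulAction H M]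
    {K T : Subgroup H} {V : Subgroup M} {x : M} (h : One T V x)
    (irr : ∀ N : Subgroup M, (∀ g : H, ∀ w ∈ N, g • w ∈ N) → N = ⊥ ∨ N = ⊤) (norm : K.Normal)
    (simple : IsSimpleGroup K) (cen : centralizer (K : Set H) = ⊥) (KT : K ⊔ T = ⊤) (hK : IsLieTypeChar 2 K) :
    ∃ u : M →* ℤˣ, Out T x u :=
  full h irr norm simple cen KT (hasSplit_of_lie hK)

end Cfsg.Agent.Omega.KL.Full
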