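import Cfsg.Agent.Omega.KL.Mor
import Cfsg.Agent.Omega.ML.Comp

/-!
# THEOREM KL, (P1), first half (#21588 (1), (2), #21261 (1), #21212 (1), (2)): the reduction to `A ≤ O₂(R)` (helper529)

* `Low T A V x y` : `Inp T A V x y` and `A ≤ O₂(R)` for all `T ≤ R < H`;
* **`exists_low`** : (ML) gives `Low` for a section of `(H, M)`.

[`R` minimal with `T ≤ R`, `A ≰ O₂(R)`; `U = ⟨x^R⟩`.  `A ∩ C(U) = 1`, `|A| = |U : C_U(A)|`, `M = U C_M(A)` by (ML) and
the exactness; `R = ⟨A^R⟩T` is trivial on the coset `y U`, which contains a fixed vector `y₀`; `u = y y₀ ∈ U` has the same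
stabiliser in `R` as `y`.  The section is `(R / C_R(U), U)` with `x`, `u`, `V`, `A`.]
-/

set_option autoImplicit false

namespace Cfsg.Agent.Omega.KL.GenA

open Subgroup Cfsg Cfsg.Agent.ZN Cfsg.Agent.ClassTwoFusion.Quad Cfsg.Agent.Omega.ML.MinFrame
open Cfsg.Agent.Omega.KL.Def Cfsg.Agent.Omega.KL.Mor Cfsg.Agent.Omega.ML.Final
open Cfsg.Agent.MinSimple.MinParabolic (IsMinPar le_of_forall)
open Cfsg.Agent.MinSimple.VModule (o2_isPGroup o2_le le_o2 le_normalizer_o2 o2_le_of_sylow)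

universe u v

/-- `Inp` and `A ≤ O₂(R)` for all `T ≤ R < H` -/
structure Low {H : Type u} [Group H] {M : Type v} [Group M] [MulDistribMulAction H M] (T A : Subgroup H)
    (V : Subgroup M) (x y : M) : Prop extends Inp T A V x y where
  low : ∀ R : Subgroup H, T ≤ R → R ≠ ⊤ → A ≤ o2 R

/-! ### A fixed vector in a coset -/

section fix

variable {H : Type u} [Group H] {M : Type v} [Group M] [MulDistribMulAction H M]

/-- `R` acts on the coset `y U`, `y` has odd orbit length: there is a fixed vector in `y U` -/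
theorem exists_fixed_coset [Finite M] (sq : ∀ m : M, m * m = 1) {R T : Subgroup H}
    (hTi : ¬ 2 ∣ T.relIndex R) {y : M} (hTy : ∀ t ∈ T, t • y = y) {U : Subgroup M} (hU : ∀ r ∈ R, r • y * y⁻¹ ∈ U) :
    ∃ y₀ : M, y * y₀ ∈ U ∧ ∀ r ∈ R, r • y₀ = y₀ := by
  classical
  have hcomm := comm_of_sq sq
  let _ : CommGroup M := { (inferInstance : Group M) with mul_comm := hcomm }
  -- the orbit
  let _ : Fintype (MulAction.orbit R y) := Fintype.ofFinite _
  set O : Finset M := (MulAction.orbit R y).toFinset with hO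
  have hmem : ∀ m : M, m ∈ O ↔ ∃ r : R, (r : H) • y = m := by
    intro m
    rw [hO, Set.mem_toFinset]
    exact Iff.rfl
  refine ⟨∏ m ∈ O, m, ?_, ?_⟩
  · -- in the coset
    have h1 : ∀ s : Finset M, (∀ m ∈ s, m * y⁻¹ ∈ U) → (∏ m ∈ s, m) * (y ^ s.card)⁻¹ ∈ U := by
      intro s
      induction s using Finset.induction_on with
      | empty =>
        intro _
        simp
      | insert a s ha ih =>
        intro hs
        rw [Finset.prod_insert ha, Finset.card_insert_of_notMem ha, pow_succ]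
        have h2 := U.mul_mem (hs a (Finset.mem_insert_self a s)) (ih fun m hm => hs m (Finset.mem_insert_of_mem hm))
        have e : a * y⁻¹ * ((∏ m ∈ s, m) * (y ^ s.card)⁻¹) = a * (∏ m ∈ s, m) * (y ^ s.card * y)⁻¹ := by
          rw [mul_inv_rev]
          calc a * y⁻¹ * ((∏ m ∈ s, m) * (y ^ s.card)⁻¹) = a * (y⁻¹ * (∏ m ∈ s, m)) * (y ^ s.card)⁻¹ := by group
            _ = a * ((∏ m ∈ s, m) * y⁻¹) * (y ^ s.card)⁻¹ := by rw [hcomm y⁻¹]
            _ = a * (∏ m ∈ s, m) * (y⁻¹ * (y ^ s.card)⁻¹) := by group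
        rwa [e] at h2
    have h2 := h1 O fun m hm => by
      obtain ⟨r, rfl⟩ := (hmem m).1 hm
      exact hU r r.2
    have h3 : Odd O.card := by
      have h4 : O.card = Nat.card (MulAction.orbit R y) := by
        rw [hO, Set.toFinset_card, Nat.card_eq_fintype_card]
      rw [h4, ← Nat.not_even_iff_odd, even_iff_two_dvd, Nat.card_coe_set_eq, ← MulAction.index_stabilizer]
      intro h5
      apply hTi
      have h6 : T.subgroupOf R ≤ MulAction.stabilizer R y := fun t ht => hTy t ht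
      exact h5.trans (index_dvd_of_le h6)
    have h4 : y ^ O.card = y := by
      obtain ⟨k, hk⟩ := h3
      rw [hk, pow_succ, pow_mul, pow_two, sq, one_pow, one_mul]
    rw [h4] at h2
    have h5 : y⁻¹ = y := inv_eq_of_mul_eq_one_right (sq y)
    rwa [h5, hcomm] at h2
  · intro r hr
    have h1 : r • (∏ m ∈ O, m) = ∏ m ∈ O, r • m := by
      have := map_prod (MulDistribMulAction.toMonoidHom M r) (fun m => m) O
      exact this
    rw [h1]
    refine Finset.prod_nbij (fun m => r • m) ?_ ?_ ?_ ?_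
    · intro m hm
      obtain ⟨k, rfl⟩ := (hmem m).1 hm
      exact (hmem _).2 ⟨⟨r, hr⟩ * k, (mul_smul _ _ _)⟩
    · intro m _ n _ h
      exact MulAction.injective r h
    · intro m hm
      obtain ⟨k, rfl⟩ := (hmem m).1 hm
      refine ⟨r⁻¹ • (k : H) • y, (hmem _).2 ⟨⟨r, hr⟩⁻¹ * k, (mul_smul _ _ _)⟩, smul_inv_smul r _⟩
    · intro m _
      rfl

end fix

/-! ### The minimal overgroup -/

section main

variable {H : Type u} [Group H] [Finite H] {M : Type v} [Group M] [Finite M] [MulDistribMulAction H M]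
  {T A : Subgroup H} {V : Subgroup M} {x y : M}

omit [Finite H] [Finite M] in
theorem relIndex_ndvd {T R : Subgroup H} (hT : ¬ 2 ∣ T.index) (hTR : T ≤ R) : ¬ 2 ∣ T.relIndex R := fun h2 =>
  hT (h2.trans (Dvd.intro _ (relIndex_mul_index hTR)))

omit [Finite M] in
/-- `A ≤ T` -/
theorem A_le (h : Inp T A V x y) : A ≤ T := by
  have h1 : T ≤ MulAction.stabilizer H x := fun t ht => h.tx ht
  exact h.Ax.trans (o2_le_of_sylow h.two (relIndex_ndvd h.syl h1))

omit [Finite M] in
/-- `O₂(R)` fixes `⟨x^R⟩` -/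
theorem o2_le_fxr (h : Inp T A V x y) {R : Subgroup H} (hTR : T ≤ R) : o2 R ≤ fxr H (orb R x) := by
  intro c hc
  rw [mem_fxr_orb]
  intro g hg
  have h1 : g⁻¹ * c * g ∈ T := by
    apply o2_le_of_sylow h.two (relIndex_ndvd h.syl hTR)
    have := conj_mem_of_le (le_normalizer_o2 R) (inv_mem hg) hc
    rwa [inv_inv] at this
  have h2 := h.tx h1
  calc c • g • x = g • ((g⁻¹ * c * g) • x) := by rw [smul_smul, smul_smul]; congr 1; group
    _ = g • x := by rw [h2]

omit [Finite M] in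
/-- there is `R ≥ T` minimal with `A ≰ O₂(R)` -/
theorem exists_min (h : Inp T A V x y) : ∃ R : Subgroup H, T ≤ R ∧ ¬ A ≤ o2 R ∧
    ∀ K : Subgroup H, T ≤ K → K ≤ R → K ≠ R → A ≤ o2 K := by
  have h0 : ¬ A ≤ o2 (⊤ : Subgroup H) := by
    intro h1
    apply h.A1
    rw [eq_bot_iff]
    intro a ha
    refine mem_bot.2 (h.faith a fun m => ?_)
    have h2 := o2_le_fxr h le_top (h1 ha)
    rw [h.gen] at h2
    exact h2 m (mem_top m)
  have hfin : {K : Subgroup H | T ≤ K ∧ ¬ A ≤ o2 K}.Finite := Set.toFinite _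
  obtain ⟨R, hR⟩ := hfin.exists_minimal ⟨⊤, le_top, h0⟩
  refine ⟨R, hR.prop.1, hR.prop.2, fun K hTK hKR hne => ?_⟩
  by_contra h1
  exact hne (le_antisymm hKR (hR.le_of_le ⟨hTK, h1⟩ hKR))

/-- the situation in a minimal `R` -/
structure Mn (T A : Subgroup H) (V : Subgroup M) (x y : M) (R : Subgroup H) : Prop extends Inp T A V x y where
  ml : MLK.{u, v}
  TR : T ≤ R
  nR : ¬ A ≤ o2 R
  mn : ∀ K : Subgroup H, T ≤ K → K ≤ R → K ≠ R → A ≤ o2 K

namespace Mn

variable {R : Subgroup H}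

omit [Finite H] [Finite M] in
theorem U_inv {g : H} (hg : g ∈ R) {m : M} (hm : m ∈ orb R x) : g • m ∈ orb R x := smul_mem_orb hg hm

omit [Finite H] in
/-- a normal 2-subgroup of the stabiliser -/
theorem A_le_o2_of {Q K : Subgroup H} (hAQ : A ≤ Q) (hQ : IsPGroup 2 Q) (hK : K ≤ R)
    (hKn : ∀ g ∈ R, ∀ k ∈ K, g * k * g⁻¹ ∈ K) (hQn : ∀ g ∈ K, ∀ q ∈ Q, g * q * g⁻¹ ∈ Q) (hAK : A ≤ K) : A ≤ o2 R := by
  refine le_trans ?_ (ML.MinFrame.o2_le_o2 hK hKn)
  have h3 : Q ⊓ K ≤ o2 K := by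
    refine le_o2 inf_le_right (hQ.to_le inf_le_left) (le_normalizer_of fun g hg x hx => ⟨hQn g hg x hx.1, ?_⟩)
    exact K.mul_mem (K.mul_mem hg hx.2) (K.inv_mem hg)
  exact le_trans (le_inf hAQ hAK) h3

omit [Finite M] in
theorem AR (h : Mn T A V x y R) : A ≤ R := (A_le h.toInp).trans h.TR

omit [Finite H] [Finite M] in
theorem Tn (h : Mn T A V x y R) : ¬ 2 ∣ T.relIndex R := relIndex_ndvd h.syl h.TR

omit [Finite H] [Finite M] in
theorem conjx (_ : Mn T A V x y R) {g : H} (hg : g • x = x) {q : H} (hq : q ∈ o2 (MulAction.stabilizer H x)) :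
    g * q * g⁻¹ ∈ o2 (MulAction.stabilizer H x) := conj_mem_of_le (le_normalizer_o2 _) hg hq

omit [Finite H] [Finite M] in
theorem conjy (_ : Mn T A V x y R) {g : H} (hg : g • y = y) {q : H} (hq : q ∈ o2 (MulAction.stabilizer H y)) :
    g * q * g⁻¹ ∈ o2 (MulAction.stabilizer H y) := conj_mem_of_le (le_normalizer_o2 _) hg hq

omit [Finite M] in
/-- `A` does not centralise a vector whose stabiliser is in `C(x)` .. : `R ≰ C(x)` -/
theorem movx (h : Mn T A V x y R) : ∃ r ∈ R, r • x ≠ x := by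
  by_contra hc
  push Not at hc
  exact h.nR (A_le_o2_of h.Ax (o2_isPGroup _) le_rfl (fun g hg k hk => R.mul_mem (R.mul_mem hg hk) (R.inv_mem hg))
    (fun g hg q hq => h.conjx (hc g hg) hq) h.AR)

omit [Finite M] in
theorem movy (h : Mn T A V x y R) : ∃ r ∈ R, r • y ≠ y := by
  by_contra hc
  push Not at hc
  exact h.nR (A_le_o2_of h.Ay (o2_isPGroup _) le_rfl (fun g hg k hk => R.mul_mem (R.mul_mem hg hk) (R.inv_mem hg))
    (fun g hg q hq => h.conjy (hc g hg) hq) h.AR)

/-- (ML) for `R` and `x` -/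
theorem no (h : Mn T A V x y R) {B : Subgroup H} (hB : B ≤ A) :
    (fxr H (orb R x)).relIndex B ≤ (cv M (B : Set H)).relIndex (orb R x) := by
  have h1 := rel_subgroup (M := M) (p := False) R (h.ml R M (kgroup_of_surj h.KH R (MonoidHom.id R) fun x => ⟨x, rfl⟩)
    h.sq)
  exact h1 T (o2 (MulAction.stabilizer H x) ⊓ R) B x (mem_top _) h.two h.TR h.Tn (fun t ht => h.tx ht)
    ((o2_isPGroup _).to_le inf_le_left) inf_le_right (fun q hq => o2_le _ hq.1)
    (fun g hg hgx q hq => ⟨h.conjx hgx hq.1, R.mul_mem (R.mul_mem hg hq.2) (R.inv_mem hg)⟩)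
    (le_inf (hB.trans h.Ax) (hB.trans h.AR)) (fun a ha => h.el a (hB ha)) False.elim

omit [Finite H] [Finite M] in
theorem fxr_le {g : H} (hg : g ∈ fxr H (orb R x)) : g • x = x := hg x (mem_orb_self R x)

omit [Finite M] in
/-- `A ≰ C(U)` -/
theorem not_le_fxr (h : Mn T A V x y R) : ¬ A ≤ fxr H (orb R x) := by
  intro hc
  exact h.nR (A_le_o2_of h.Ax (o2_isPGroup _) (K := R ⊓ fxr H (orb R x)) inf_le_left
    (fun g hg k hk => ⟨R.mul_mem (R.mul_mem hg hk.1) (R.inv_mem hg), conj_mem_fxr (fun _ hg _ hm => U_inv hg hm) hg hk.2⟩)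
    (fun g hg q hq => h.conjx (fxr_le hg.2) hq) (le_inf h.AR hc))

/-- **`A ∩ C(U) = 1`, `|A| = |U : C_U(A)|`, `M = U C_M(A)`** -/
theorem exact_U (h : Mn T A V x y R) : A ⊓ fxr H (orb R x) = ⊥ ∧
    (cv M (A : Set H)).relIndex (orb R x) = Nat.card A ∧ orb R x ⊔ cv M (A : Set H) = ⊤ := by
  set U := orb R x with hU
  set B := A ⊓ fxr H U with hB
  have hBA : B ≤ A := inf_le_left
  have hno := h.no le_rfl
  rw [← hU] at hno
  have hcomm := comm_of_sq h.sq
  have h1 : (fxr H U).relIndex A * Nat.card B = Nat.card A := by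
    have h2 := card_mul_index (B.subgroupOf A)
    rw [← relIndex, hB, inf_relIndex_left] at h2
    have h3 : Nat.card ((A ⊓ fxr H U).subgroupOf A) = Nat.card B := by
      rw [hB, Nat.card_congr (subgroupOfEquivOfLe (inf_le_left : A ⊓ fxr H U ≤ A)).toEquiv]
    rw [h3] at h2
    rw [mul_comm]
    exact h2
  have hUB : U ≤ cv M (B : Set H) := cv_inf_eq_iff.2 inf_le_right
  have hAB : cv M (A : Set H) ≤ cv M (B : Set H) := cv_anti (SetLike.coe_subset_coe.2 hBA)
  have h2 : (cv M (A : Set H)).relIndex (cv M (B : Set H)) * (cv M (B : Set H)).index = Nat.card A := by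
    rw [← h.exact]
    exact relIndex_mul_index hAB
  have h3 : (cv M (A : Set H)).relIndex U ≤ (cv M (A : Set H)).relIndex (cv M (B : Set H)) :=
    relIndex_le_of_le_right hUB (NOThree.NoOver.relIndex_ne _ _)
  have hbot : B = ⊥ := by
    by_contra hne
    have h4 := h.atom B hBA hne fun h5 => h.not_le_fxr (by rw [← h5]; exact inf_le_right)
    have h5 : 0 < (fxr H U).relIndex A := Nat.pos_of_ne_zero (NOThree.NoOver.relIndex_ne _ _)
    have h6 : (fxr H U).relIndex A * Nat.card B < (cv M (A : Set H)).relIndex (cv M (B : Set H)) *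
        (cv M (B : Set H)).index := by
      calc (fxr H U).relIndex A * Nat.card B < (fxr H U).relIndex A * (cv M (B : Set H)).index :=
            Nat.mul_lt_mul_of_pos_left h4 h5
        _ ≤ _ := Nat.mul_le_mul_right _ (hno.trans h3)
    rw [h1, h2] at h6
    exact absurd h6 (lt_irrefl _)
  have hB1 : Nat.card B = 1 := by rw [hbot, card_bot]
  rw [hB1, mul_one] at h1
  have h6 : (cv M (A : Set H)).relIndex U = Nat.card A := by
    refine le_antisymm ?_ (h1 ▸ hno)
    calc (cv M (A : Set H)).relIndex U ≤ (cv M (A : Set H)).relIndex ⊤ :=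
          relIndex_le_of_le_right le_top (NOThree.NoOver.relIndex_ne _ _)
      _ = Nat.card A := by rw [relIndex_top_right, h.exact]
  refine ⟨hbot, h6, ?_⟩
  have hn : (cv M (A : Set H)).Normal := ⟨fun m hm g => by rwa [hcomm g m, mul_inv_cancel_right]⟩
  have h7 : (cv M (A : Set H)).relIndex (U ⊔ cv M (A : Set H)) * (U ⊔ cv M (A : Set H)).index =
      (cv M (A : Set H)).index := relIndex_mul_index le_sup_right
  rw [relIndex_sup_right, h6, h.exact] at h7
  have h8 : 0 < Nat.card A := Nat.card_pos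
  rw [← index_eq_one]
  exact Nat.eq_of_mul_eq_mul_left h8 (h7.trans (mul_one _).symm)

/-- `K₀ = ⟨A^R⟩` -/
def K₀ (A R : Subgroup H) : Subgroup H := closure {k | ∃ r ∈ R, ∃ a ∈ A, k = r * a * r⁻¹}

omit [Finite H] in
theorem A_le_K₀ : A ≤ K₀ A R := fun a ha => subset_closure ⟨1, R.one_mem, a, ha, by group⟩

omit [Finite H] in
theorem K₀_le (hA : A ≤ R) : K₀ A R ≤ R := by
  rw [K₀, closure_le]
  rintro _ ⟨r, hr, a, ha, rfl⟩
  exact R.mul_mem (R.mul_mem hr (hA ha)) (R.inv_mem hr)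

omit [Finite H] in
theorem K₀_conj {g k : H} (hg : g ∈ R) (hk : k ∈ K₀ A R) : g * k * g⁻¹ ∈ K₀ A R := by
  have h1 : K₀ A R ≤ (K₀ A R).comap (MulAut.conj g).toMonoidHom := by
    conv_lhs => rw [K₀]
    rw [closure_le]
    rintro _ ⟨r, hr, a, ha, rfl⟩
    refine subset_closure ⟨g * r, R.mul_mem hg hr, a, ha, ?_⟩
    change g * (r * a * r⁻¹) * g⁻¹ = _
    group
  exact h1 hk

omit [Finite M] in
/-- `R = K₀ T` -/
theorem sup_eq (h : Mn T A V x y R) : K₀ A R ⊔ T = R := by
  by_contra hne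
  have hle : K₀ A R ⊔ T ≤ R := sup_le (K₀_le h.AR) h.TR
  have h1 := h.mn _ le_sup_right hle hne
  have h2 : A ≤ o2 (K₀ A R) := by
    have h3 : o2 (K₀ A R ⊔ T) ⊓ K₀ A R ≤ o2 (K₀ A R) := by
      refine le_o2 inf_le_right ((o2_isPGroup _).to_le inf_le_left) (le_normalizer_of fun g hg x hx => ⟨?_, ?_⟩)
      · exact conj_mem_of_le (le_normalizer_o2 _) (mem_sup_left hg) hx.1
      · exact (K₀ A R).mul_mem ((K₀ A R).mul_mem hg hx.2) ((K₀ A R).inv_mem hg)
    exact (le_inf h1 A_le_K₀).trans h3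
  exact h.nR (h2.trans (ML.MinFrame.o2_le_o2 (K₀_le h.AR) fun g hg k hk => K₀_conj hg hk))

/-- `K₀` is trivial on `M / U` -/
theorem K₀_act (h : Mn T A V x y R) {k : H} (hk : k ∈ K₀ A R) (m : M) : k • m * m⁻¹ ∈ orb R x := by
  have hcomm := comm_of_sq h.sq
  set U := orb R x with hU
  let W : Subgroup H :=
    { carrier := {k | k ∈ R ∧ ∀ m : M, k • m * m⁻¹ ∈ U}
      one_mem' := ⟨R.one_mem, fun m => by rw [one_smul, mul_inv_cancel]; exact U.one_mem⟩
      mul_mem' := by
        rintro a b ⟨haR, ha⟩ ⟨hbR, hb⟩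
        refine ⟨R.mul_mem haR hbR, fun m => ?_⟩
        have h1 := U.mul_mem (ha (b • m)) (hb m)
        have e : a • b • m * (b • m)⁻¹ * (b • m * m⁻¹) = a • b • m * m⁻¹ := by group
        rwa [e, ← mul_smul] at h1
      inv_mem' := by
        rintro a ⟨haR, ha⟩
        refine ⟨R.inv_mem haR, fun m => ?_⟩
        have h1 := U.inv_mem (ha (a⁻¹ • m))
        rwa [smul_inv_smul, mul_inv_rev, inv_inv] at h1 }
  have h1 : K₀ A R ≤ W := by
    rw [K₀, closure_le]
    rintro _ ⟨r, hr, a, ha, rfl⟩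
    refine ⟨R.mul_mem (R.mul_mem hr (h.AR ha)) (R.inv_mem hr), fun m => ?_⟩
    have h2 : r⁻¹ • m ∈ U ⊔ cv M (A : Set H) := by rw [h.exact_U.2.2]; exact mem_top _
    have hn : (cv M (A : Set H)).Normal := ⟨fun m hm g => by rwa [hcomm g m, mul_inv_cancel_right]⟩
    obtain ⟨u, hu, c, hc, huc⟩ := mem_sup_of_normal_right.1 h2
    have h3 : a • r⁻¹ • m * (r⁻¹ • m)⁻¹ ∈ U := by
      rw [← huc, smul_mul', hc a ha, mul_inv_rev]
      have e : a • u * c * (c⁻¹ * u⁻¹) = a • u * u⁻¹ := by group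
      rw [e]
      exact U.mul_mem (U_inv (h.AR ha) hu) (U.inv_mem hu)
    have h4 := U_inv hr h3
    rwa [smul_mul', smul_inv', smul_inv_smul, ← mul_smul, ← mul_smul] at h4
  exact (h1 hk).2 m

/-- `R` is trivial on the coset `y U` -/
theorem R_act (h : Mn T A V x y R) {r : H} (hr : r ∈ R) : r • y * y⁻¹ ∈ orb R x := by
  have hn : T ≤ normalizer (K₀ A R : Set H) :=
    le_normalizer_of fun g hg k hk => K₀_conj (h.TR hg) hk
  have h1 : r ∈ K₀ A R ⊔ T := by rw [h.sup_eq]; exact hr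
  obtain ⟨k, hk, t, ht, rfl⟩ := ML.MinFrame.sup_eq_mul hn h1
  rw [mul_smul, h.ty ht]
  exact h.K₀_act hk y

/-- **the vector `u`** -/
theorem exists_u (h : Mn T A V x y R) : ∃ u ∈ orb R x, ∃ y₀ : M, u = y * y₀ ∧ ∀ r ∈ R, r • y₀ = y₀ := by
  obtain ⟨y₀, h1, h2⟩ := exists_fixed_coset h.sq h.Tn (fun t ht => h.ty ht) (fun r hr => h.R_act hr)
  exact ⟨y * y₀, h1, y₀, rfl, h2⟩

omit [Finite M] in
/-- there is a `T`-minimal `P ≤ R` which moves `x` -/
theorem exists_P (h : Mn T A V x y R) : ∃ P : Subgroup H, IsMinPar T P ∧ P ≤ R ∧ ∃ p ∈ P, p • x ≠ x := by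
  by_contra hc
  push Not at hc
  obtain ⟨r, hr, hrx⟩ := h.movx
  have h1 : R ≤ MulAction.stabilizer H x := by
    refine le_of_forall h.TR (fun g hg => h.nx g hg.2) fun P hP hPR p hp => hc P hP hPR p hp
  exact hrx (h1 hr)

omit [Finite M] in
/-- `V ≤ U` -/
theorem V_le (h : Mn T A V x y R) : V ≤ orb R x := by
  obtain ⟨P, hP, hPR, p, hp, hpx⟩ := h.exists_P
  have hV := (h.uni P hP ⟨p, hp, hpx⟩).1
  have hfin : Finite V := Nat.finite_of_card_ne_zero (by rw [h.cV]; norm_num)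
  set W : Subgroup M := orb R x ⊓ V with hW
  have hx : x ∈ W := ⟨mem_orb_self R x, h.xV⟩
  have hpx' : p • x ∈ W := ⟨smul_mem_orb_self (hPR hp), hV p hp x h.xV⟩
  have hWV : W ≤ V := inf_le_right
  have h1 : Nat.card W ∣ 4 := by
    rw [← h.cV]
    exact card_dvd_of_le hWV
  have h2 : 2 < Nat.card W := by
    have hfW : Finite W := Finite.of_injective _ (inclusion_injective hWV)
    have h3 : ({1, x, p • x} : Set M) ⊆ (W : Set M) := by
      rintro m (rfl | rfl | rfl)
      · exact W.one_mem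
      · exact hx
      · exact hpx'
    have h4 : ({1, x, p • x} : Set M).ncard = 3 := by
      rw [Set.ncard_eq_three]
      refine ⟨1, x, p • x, h.x1.symm, fun h5 => h.x1 ?_, fun h5 => hpx h5.symm, rfl⟩
      exact MulAction.injective p (show p • x = p • (1 : M) by rw [← h5, smul_one])
    have h5 := Set.ncard_le_ncard h3 (Set.toFinite _)
    rw [h4, ← Nat.card_coe_set_eq] at h5
    exact h5
  have h3 : Nat.card W = 4 := by
    have h4 : Nat.card W ≤ 4 := Nat.le_of_dvd (by norm_num) h1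
    interval_cases h5 : Nat.card W
    · omega
    · rfl
  have h4 : W = V := eq_of_le_of_card_ge hWV (by rw [h3, h.cV])
  rw [← h4]
  exact inf_le_left

/-- **The section** -/
theorem low_of (h : Mn T A V x y R) {H' : Type u} [Group H'] {M' : Type v} [Group M'] [MulDistribMulAction H' M']
    {π : R →* H'} {e : M' →* M} (D : Mor.Mor R π e) (he : e.range = orb R x)
    (hfaith : ∀ h' : H', (∀ m' : M', h' • m' = m') → h' = 1) :
    ∃ (x' u' : M'), Low (im π T) (im π A) (V.comap e) x' u' := by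
  have hU : ∀ m : M, m ∈ orb R x → ∃ m' : M', e m' = m := fun m hm => by rw [← he] at hm; exact hm
  obtain ⟨u, hu, y₀, hy₀, hfix⟩ := h.exists_u
  obtain ⟨x', hx'⟩ := hU x (mem_orb_self R x)
  obtain ⟨u', hu'⟩ := hU u hu
  have hcomm := comm_of_sq h.sq
  obtain ⟨hdis, hcard, hsup⟩ := h.exact_U
  have hfH : Finite H' := Finite.of_surjective π D.surj
  have hfM : Finite M' := Finite.of_injective e D.inj
  -- `u` and `y`
  have huy : ∀ r ∈ R, r • u = u ↔ r • y = y := by
    intro r hr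
    rw [hy₀, smul_mul', hfix r hr]
    exact mul_left_inj y₀
  obtain ⟨P₀, hP₀, hP₀R, hP₀x⟩ := h.exists_P
  have hnx : ∀ g' ∈ normalizer (im π T : Set H'), g' • x' = x' ∧ g' • u' = u' := by
    intro g' hg'
    obtain ⟨g, hg, hgn, rfl⟩ := exists_normalizer D.surj h.two h.TR h.Tn hg'
    refine ⟨(D.smul_eq_iff hg).2 (by rw [hx']; exact h.nx g hgn), (D.smul_eq_iff hg).2 ?_⟩
    rw [hu']
    exact (huy g hg).2 (h.ny g hgn)
  -- the kernel is trivial on `U`
  have hker : ∀ b, ∀ hb : b ∈ R, π ⟨b, hb⟩ = 1 → b ∈ fxr H (orb R x) := by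
    intro b hb hb1 m hm
    obtain ⟨m', rfl⟩ := hU m hm
    rw [← D.sm hb, hb1, one_smul]
  have hcardB : ∀ B : Subgroup H, B ≤ A → Nat.card (im π B) = Nat.card B := by
    intro B hB
    refine card_im (hB.trans h.AR) fun b hb hb1 => ?_
    have h1 : b ∈ A ⊓ fxr H (orb R x) := ⟨hB hb, hker b _ hb1⟩
    rw [hdis] at h1
    exact mem_bot.1 h1
  have hn : ∀ W : Subgroup M, W.Normal := fun W => ⟨fun m hm g => by rwa [hcomm g m, mul_inv_cancel_right]⟩
  have hidx : ∀ B : Subgroup H, B ≤ A → (cv M' ((im π B : Subgroup H') : Set H')).index = (cv M (B : Set H)).index := by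
    intro B hB
    rw [D.index_cv (hB.trans h.AR), he]
    have h1 : orb R x ⊔ cv M (B : Set H) = ⊤ :=
      eq_top_iff.2 (hsup.ge.trans (sup_le_sup_left (cv_anti (SetLike.coe_subset_coe.2 hB)) _))
    have := hn (cv M (B : Set H))
    rw [← relIndex_sup_right, h1, relIndex_top_right]
  have hyu : MulAction.stabilizer H' u' ≤ im π (MulAction.stabilizer H y) := by
    intro g' hg'
    obtain ⟨⟨g, hg⟩, rfl⟩ := D.surj g'
    refine mem_im_of hg ?_
    have h1 := (D.smul_eq_iff hg).1 (MulAction.mem_stabilizer_iff.1 hg')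
    rw [hu'] at h1
    exact (huy g hg).1 h1
  have hyu' : im π (MulAction.stabilizer H y) ≤ MulAction.stabilizer H' u' := by
    intro g' hg'
    obtain ⟨g, hg, hg1, rfl⟩ := mem_im.1 hg'
    refine MulAction.mem_stabilizer_iff.2 ((D.smul_eq_iff hg).2 ?_)
    rw [hu']
    exact (huy g hg).2 hg1
  refine ⟨x', u', ?_⟩
  exact
  { sq := fun m' => D.inj (by rw [map_mul, h.sq, map_one])
    faith := hfaith
    gen := by
      have h1 := D.orb_map R x'
      rw [inf_idem, im_top D.surj, hx', ← he] at h1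
      have h2 : (⊤ : Subgroup M').map e = e.range := (MonoidHom.range_eq_map e).symm
      rw [← h2] at h1
      exact map_injective D.inj h1
    two := im_isPGroup h.two
    syl := im_index D.surj h.Tn
    x1 := fun h1 => h.x1 (by rw [← hx', h1, map_one])
    y1 := fun h1 => by
      obtain ⟨r, hr, hry⟩ := h.movy
      apply hry
      rw [← huy r hr, ← hu', h1, map_one, smul_one]
    xy := fun h1 => by
      obtain ⟨p, hp, hpx⟩ := hP₀x
      apply hpx
      rw [← hx', h1, hu']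
      exact (huy p (hP₀R hp)).2 ((h.uni P₀ hP₀ ⟨p, hp, hpx⟩).2 p hp)
    nx := fun g hg => (hnx g hg).1
    ny := fun g hg => (hnx g hg).2
    cV := by
      have h1 : (V.comap e).map e = V := by
        rw [map_comap_eq, inf_eq_right, he]
        exact h.V_le
      rw [← card_map_of_injective (K := V.comap e) D.inj, h1, h.cV]
    xV := by rw [mem_comap, hx']; exact h.xV
    uni := by
      rintro P' hP' ⟨p', hp', hpx⟩
      obtain ⟨P, hP, hPR, rfl⟩ := exists_minPar D.surj h.TR hP'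
      obtain ⟨p, hpR, hp, rfl⟩ := mem_im.1 hp'
      have h1 : p • x ≠ x := fun h1 => hpx ((D.smul_eq_iff hpR).2 (by rw [hx', h1]))
      obtain ⟨h2, h3⟩ := h.uni P hP ⟨p, hp, h1⟩
      constructor
      · intro q' hq' w' hw'
        obtain ⟨q, hqR, hq, rfl⟩ := mem_im.1 hq'
        rw [mem_comap, D.sm hqR]
        exact h2 q hq _ hw'
      · intro q' hq'
        obtain ⟨q, hqR, hq, rfl⟩ := mem_im.1 hq'
        refine (D.smul_eq_iff hqR).2 ?_
        rw [hu']
        exact (huy q hqR).2 (h3 q hq)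
    el := by
      rintro a' ha'
      obtain ⟨a, haR, ha, rfl⟩ := mem_im.1 ha'
      rw [← map_mul]
      have h1 : (⟨a, haR⟩ : R) * ⟨a, haR⟩ = 1 := Subtype.ext (h.el a ha)
      rw [h1, map_one]
    A1 := fun h1 => h.A1 (by
      rw [← card_eq_one, ← hcardB A le_rfl, h1, card_bot])
    exact := by rw [hidx A le_rfl, hcardB A le_rfl, h.exact]
    atom := by
      intro C' hC' hC1 hC2
      set C : Subgroup H := A ⊓ pre π C' with hC
      have hCA : C ≤ A := inf_le_left
      have h1 : im π C = C' := by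
        apply le_antisymm
        · rw [← le_pre_iff (hCA.trans h.AR)]
          exact inf_le_right
        · intro c' hc'
          obtain ⟨c, hcR, hc, rfl⟩ := mem_im.1 (hC' hc')
          exact mem_im_of hcR ⟨hc, mem_pre.2 ⟨hcR, hc'⟩⟩
      rw [← h1, hcardB C hCA, hidx C hCA]
      refine h.atom C hCA (fun h2 => hC1 ?_) (fun h2 => hC2 ?_)
      · rw [← h1, ← card_eq_one, hcardB C hCA, h2, card_bot]
      · rw [← h1, h2]
    Ax := by
      rw [D.stab, hx']
      exact le_o2_im h.Ax (o2_le _) (o2_isPGroup _) fun g _ hg q hq => h.conjx hg hq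
    Ay := by
      rw [le_antisymm hyu hyu']
      exact le_o2_im h.Ay (o2_le _) (o2_isPGroup _) fun g _ hg q hq => h.conjy hg hq
    KH := kgroup_of_surj h.KH R π D.surj
    low := by
      intro R' hTR' hR'
      have h1 := h.mn (pre π R') ((le_pre_iff h.TR).2 hTR') pre_le (pre_ne D.surj hR')
      have h2 := (im_mono (π := π) h1).trans im_o2_le
      rwa [im_pre D.surj] at h2 }

end Mn

/-- **(P1), first half** -/
theorem exists_low (ml : MLK.{u, v}) (h : Inp T A V x y) :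
    ∃ (H' : Type u) (_ : Group H') (_ : Finite H') (M' : Type v) (_ : Group M') (_ : Finite M')
      (_ : MulDistribMulAction H' M') (T' A' : Subgroup H') (V' : Subgroup M') (x' y' : M'), Low T' A' V' x' y' := by
  obtain ⟨R, hTR, hnR, hmn⟩ := exists_min h
  have hM : Mn T A V x y R := { h with ml := ml, TR := hTR, nR := hnR, mn := hmn }
  have hU : ∀ g : R, ∀ u ∈ orb R x, g • u ∈ orb R x := fun g u hu => smul_mem_orb g.2 hu
  let _ := subAct (H := R) (orb R x) hU
  let N : Subgroup R := fxr R (⊤ : Subgroup (orb R x))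
  have hN : N.Normal := fxr_normal fun _ _ _ => mem_top _
  have htriv : ∀ n ∈ N, ∀ m : orb R x, n • m = m := fun n hn m => hn m (mem_top m)
  let _ := quoAct N htriv
  have D : Mor.Mor (M' := orb R x) R (QuotientGroup.mk' N) (orb R x).subtype :=
    ⟨QuotientGroup.mk'_surjective N, (orb R x).subtype_injective, fun _ _ => rfl⟩
  obtain ⟨x', u', hl⟩ := hM.low_of D (orb R x).range_subtype (by
    intro h' hh'
    obtain ⟨r, rfl⟩ := QuotientGroup.mk'_surjective N h'
    refine (QuotientGroup.eq_one_iff r).2 fun m _ => hh' m)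
  exact ⟨R ⧸ N, inferInstance, inferInstance, orb R x, inferInstance, inferInstance, inferInstance, _, _, _, x', u', hl⟩

end main

end Cfsg.Agent.Omega.KL.GenA
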