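import Cfsg.Agent.Omega.KL.LieTwo

/-!
# Groups of Lie type in characteristic two are generated by their genuine minimal parabolics (helper233)

`H = K T`, `K` normal and simple of Lie type in characteristic two (field and graph automorphisms in `T` allowed), `T` a
Sylow `2`-subgroup of `H`.

* `not_norm` : the minimal parabolics `RO` do not normalise `T ⊓ K`;
* **`le_of_split`, `le_of_lie`** : a subgroup `D ≥ T` which contains all the minimal parabolics over `T` which do not
  normalise `T ⊓ K` contains `K`;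
* **`fix_of_lie`** : a `T`-fixed point `x` such that all minimal parabolics over `T` which move `x` normalise `T ⊓ K` is
  fixed by `K` (the end (B) of THEOREM KL*(q) with diagonal parabolics, helper815 #24284 (b));
* `le_of_selfnorm`, `fix_of_selfnorm` : the same if the Sylow subgroup `T ⊓ K` of `K` is self-normalising (`U₃(3)`).
-/

set_option autoImplicit false
set_option linter.unusedSectionVars false

namespace Cfsg.Agent.Omega.KL.LieGen

open Cfsg.Agent.Tits.Core Cfsg.Agent.Tits.Core.Bldg Cfsg.Agent.Tits.Exchange Cfsg.Agent.Tits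
open Cfsg.Agent.FixBN Cfsg.Agent.FixBN.Cox Cfsg.Agent.UGT.U2.FOne Cfsg.Agent.Omega.ML.LieRow
open Cfsg.Agent.MinSimple.MinParabolic (IsMinPar le_of_forall)
open Cfsg.Agent.Omega.KL.LieTwo

variable {I : Type*} {Mx : CoxeterMatrix I} {W : Type*} [Group W] {cs : CoxeterSystem Mx W} {C : Type*}
  {Δ : Bldg cs C}

universe u v

variable {H : Type u} [Group H] {K : Subgroup H} [MulAction K C] (A : HAct Δ K)
  [F : OppRes.Cox cs] (S : Sys Δ K 2)

section Main

variable [K.Normal] [Nonempty C] {T : Subgroup H} (hKT : K ⊔ T = ⊤)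
variable {c : C} (hc : ∀ t ∈ T, A.θ t c = c) (hUc : S.U c = T.subgroupOf K)

include hUc in
/-- `RO` does not normalise `T ⊓ K` -/
theorem not_norm (hth : Δ.Thick) (i : I) :
    ¬ RO Δ S T (Orb A T i) c ≤ Subgroup.normalizer ((T ⊓ K : Subgroup H) : Set H) := by
  intro hN
  obtain ⟨a, b, hab, ha, hb⟩ := hth c i
  have hba : Δ.δ a b = cs.simple i := Δ.δ_eq_of_mem_Pan (Or.inr ha) (Or.inr hb) hab
  have hac : Δ.δ a c = cs.simple i := Δ.δ_symm_simple ha
  obtain ⟨u, hu, huc⟩ := S.exists_move (hac.trans hba.symm)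
  have hU : S.U c ≤ (RO Δ S T (Orb A T i) c).subgroupOf K := fun k hk => by
    rw [Subgroup.mem_subgroupOf]
    exact U_le_RO S (Δ.self_mem_Res _ c) hk
  obtain ⟨g, hg, rfl⟩ := exists_RO S hth (T := T) (Δ.Pan_subset_Res (mem_Orb A i) c (Or.inr ha)) hU
  have h3 : g * (g⁻¹ * u * g) * g⁻¹ ∈ S.U (g • c) := by
    have : g * (g⁻¹ * u * g) * g⁻¹ = u := by group
    rwa [this]
  have h4 := (S.conj_mem_U_iff).1 h3
  rw [hUc, Subgroup.mem_subgroupOf] at h4
  have h5 : ((g⁻¹ * u * g : K) : H) ∈ T ⊓ K := ⟨h4, (g⁻¹ * u * g : K).2⟩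
  have h6 := (Subgroup.mem_normalizer_iff.1 (hN hg) _).1 h5
  have h7 : (g : H) * ((g⁻¹ * u * g : K) : H) * (g : H)⁻¹ = u := by
    push_cast
    group
  rw [h7] at h6
  have h8 : u ∈ S.U c := by
    rw [hUc, Subgroup.mem_subgroupOf]
    exact h6.1
  have h9 := S.fix c u h8
  rw [h9] at huc
  rw [← huc] at hb
  have h10 : (1 : W) = cs.simple i := by
    rw [← hb, Δ.δ_self]
  have h11 : cs.length (cs.simple i) = 1 := cs.length_simple i
  rw [← h10, cs.length_one] at h11
  exact absurd h11 (by norm_num)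

include A hKT hc hUc in
/-- **a group `D ≥ T` which contains the minimal parabolics not normalising `T ⊓ K` contains `K`** -/
theorem le_of_hact [IsSimpleGroup K] [Nonempty I] (hth : Δ.Thick) {D : Subgroup H} (hTD : T ≤ D)
    (hD : ∀ P : Subgroup H, IsMinPar T P →
      ¬ P ≤ Subgroup.normalizer ((T ⊓ K : Subgroup H) : Set H) → P ≤ D) : K ≤ D := by
  have hUX : S.U c ≤ D.subgroupOf K := by
    rw [hUc]
    exact fun k hk => hTD hk
  have htp : tp Δ (D.subgroupOf K) c = Set.univ := by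
    refine Set.eq_univ_iff_forall.2 fun i => ?_
    have hn := not_norm A S hUc hth i
    have hmin : IsMinPar T (RO Δ S T (Orb A T i) c) := by
      refine isMinPar A S hKT hc hUc hth i fun h1 => hn fun g hg => ?_
      -- an element of `N(T)` normalises `T ⊓ K`
      have h2 := Subgroup.mem_normalizer_iff.1 (h1 hg)
      refine Subgroup.mem_normalizer_iff.2 fun t => ?_
      constructor
      · rintro ⟨h3, h4⟩
        exact ⟨(h2 t).1 h3, (inferInstance : K.Normal).conj_mem t h4 g⟩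
      · rintro ⟨h3, h4⟩
        refine ⟨(h2 t).2 h3, ?_⟩
        have h5 := (inferInstance : K.Normal).conj_mem _ h4 g⁻¹
        have h6 : g⁻¹ * (g * t * g⁻¹) * g⁻¹⁻¹ = t := by group
        rwa [h6] at h5
    have h1 := hD _ hmin hn
    exact mem_tp S hth (O := Orb A T i) (fun d hd k hk => h1 (U_le_RO S hd hk)) (mem_Orb A i)
  have h1 := eq_top_of_tp S hth hUX htp
  intro k hk
  have h2 : (⟨k, hk⟩ : K) ∈ D.subgroupOf K := by rw [h1]; trivial
  exact h2

end Main

end Cfsg.Agent.Omega.KL.LieGen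

namespace Cfsg.Agent.Omega.KL.LieGen

open Subgroup Cfsg Cfsg.Agent.ZN Cfsg.Agent.Omega.ML.Rows Cfsg.Agent.Omega.ML.LieRow Cfsg.Agent.UGT.U2.FOne
open Cfsg.Agent.Tits.Core Cfsg.Agent.Tits.OfBN Cfsg.Agent.Schreier.BNSch Cfsg.Agent.FixBN
open Cfsg.Agent.MinSimple.MinParabolic (IsMinPar le_of_forall)

universe u v

variable {H : Type u} [Group H] {K T D : Subgroup H}

/-- **`K` with a split (B,N)-pair of characteristic two.** -/
theorem le_of_split [Finite H] (norm : K.Normal) (simple : IsSimpleGroup K) (KT : K ⊔ T = ⊤) (two : IsPGroup 2 T)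
    (syl : ¬ 2 ∣ T.index) (hs : HasSplit 2 K) (hTD : T ≤ D)
    (hD : ∀ P : Subgroup H, IsMinPar T P → ¬ P ≤ normalizer ((T ⊓ K : Subgroup H) : Set H) → P ≤ D) : K ≤ D := by
  have : Fact (Nat.Prime 2) := ⟨Nat.prime_two⟩
  obtain ⟨P, U, hne, hsp⟩ := hs
  have hN : ((P.B ⊓ P.N).subgroupOf P.N).Normal := normal_subgroupOf P
  obtain ⟨Mx, cs, hcs⟩ := S0320.result P
  have hI : Finite P.S := OfBN.finite_I (Equiv.refl P.S)
  have hIn : Nonempty P.S := hne.to_subtype
  have S := OfBN.sys (Equiv.refl P.S) cs hcs hsp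
  have hth := thick P (Equiv.refl P.S) cs hcs
  obtain ⟨A⟩ := exists_hact S hth (fun τ => UGT.U2.FOne.exists_mv hsp (Equiv.refl P.S) cs hcs τ)
  obtain ⟨c, hc, hUc⟩ := exists_chamber A S hth two syl
  have hC : Nonempty (K ⧸ P.B) := ⟨c⟩
  exact le_of_hact A S KT hc hUc hth hTD hD

/-- **`K` of Lie type in characteristic two.** -/
theorem le_of_lie [Finite H] (norm : K.Normal) (simple : IsSimpleGroup K) (KT : K ⊔ T = ⊤) (two : IsPGroup 2 T)
    (syl : ¬ 2 ∣ T.index) (hK : IsLieTypeChar 2 K) (hTD : T ≤ D)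
    (hD : ∀ P : Subgroup H, IsMinPar T P → ¬ P ≤ normalizer ((T ⊓ K : Subgroup H) : Set H) → P ≤ D) : K ≤ D :=
  le_of_split norm simple KT two syl (hasSplit_of_lie hK) hTD hD

/-- the Sylow subgroup `T ⊓ K` of `K` is self-normalising: there is no minimal parabolic normalising `T ⊓ K` -/
theorem le_of_selfnorm [Finite H] (KT : K ⊔ T = ⊤) (norm : K.Normal)
    (hs : K ⊓ normalizer ((T ⊓ K : Subgroup H) : Set H) ≤ T) (hTD : T ≤ D)
    (hD : ∀ P : Subgroup H, IsMinPar T P → ¬ P ≤ normalizer ((T ⊓ K : Subgroup H) : Set H) → P ≤ D) : D = ⊤ := by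
  -- a subgroup over `T` in `N(T ⊓ K)` is `T`
  have h0 : ∀ P : Subgroup H, T ≤ P → P ≤ normalizer ((T ⊓ K : Subgroup H) : Set H) → P = T := by
    intro P hTP hP
    refine le_antisymm (fun p hp => ?_) hTP
    have h1 : p ∈ K ⊔ T := by rw [KT]; trivial
    obtain ⟨k, hk, t, ht, rfl⟩ := mem_sup_of_normal_left.1 h1
    have h2 : k ∈ P := by
      have := P.mul_mem hp (P.inv_mem (hTP ht))
      rwa [mul_inv_cancel_right] at this
    exact T.mul_mem (hs ⟨hk, hP h2⟩) ht
  have hNT : normalizer (T : Set H) ≤ normalizer ((T ⊓ K : Subgroup H) : Set H) := by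
    intro g hg
    have h2 := mem_normalizer_iff.1 hg
    refine mem_normalizer_iff.2 fun t => ?_
    constructor
    · rintro ⟨h3, h4⟩
      exact ⟨(h2 t).1 h3, norm.conj_mem t h4 g⟩
    · rintro ⟨h3, h4⟩
      refine ⟨(h2 t).2 h3, ?_⟩
      have h5 := norm.conj_mem _ h4 g⁻¹
      have h6 : g⁻¹ * (g * t * g⁻¹) * g⁻¹⁻¹ = t := by group
      rwa [h6] at h5
  have h1 : (⊤ : Subgroup H) ≤ D := by
    refine le_of_forall (S := T) le_top (fun g hg => ?_) fun P hP _ => ?_
    · have h2 := h0 _ le_normalizer hNT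
      exact hTD (h2 ▸ hg.2)
    · refine hD P hP fun h2 => ?_
      have h3 := h0 P hP.1 h2
      exact hP.not_le (h3 ▸ le_normalizer)
  exact top_le_iff.1 h1

variable {M : Type v} [MulAction H M] {x : M}

/-- **the end of (B), `K` with a split (B,N)-pair of characteristic two** -/
theorem fix_of_split [Finite H] (norm : K.Normal) (simple : IsSimpleGroup K) (KT : K ⊔ T = ⊤) (two : IsPGroup 2 T)
    (syl : ¬ 2 ∣ T.index) (hs : HasSplit 2 K) (tx : ∀ t ∈ T, t • x = x)
    (gen : ∀ P : Subgroup H, IsMinPar T P → (∃ p ∈ P, p • x ≠ x) →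
      P ≤ normalizer ((T ⊓ K : Subgroup H) : Set H)) : ∀ k ∈ K, k • x = x := by
  intro k hk
  refine MulAction.mem_stabilizer_iff.1 (le_of_split norm simple KT two syl hs (D := MulAction.stabilizer H x)
    (fun t ht => MulAction.mem_stabilizer_iff.2 (tx t ht)) (fun P hP hn p hp => ?_) hk)
  by_contra h1
  exact hn (gen P hP ⟨p, hp, fun h2 => h1 (MulAction.mem_stabilizer_iff.2 h2)⟩)

/-- **the end of (B), `K` of Lie type in characteristic two** -/
theorem fix_of_lie [Finite H] (norm : K.Normal) (simple : IsSimpleGroup K) (KT : K ⊔ T = ⊤) (two : IsPGroup 2 T)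
    (syl : ¬ 2 ∣ T.index) (hK : IsLieTypeChar 2 K) (tx : ∀ t ∈ T, t • x = x)
    (gen : ∀ P : Subgroup H, IsMinPar T P → (∃ p ∈ P, p • x ≠ x) →
      P ≤ normalizer ((T ⊓ K : Subgroup H) : Set H)) : ∀ k ∈ K, k • x = x :=
  fix_of_split norm simple KT two syl (hasSplit_of_lie hK) tx gen

/-- **the end of (B), `T ⊓ K` self-normalising in `K` (`U₃(3)`)** -/
theorem fix_of_selfnorm [Finite H] (norm : K.Normal) (KT : K ⊔ T = ⊤)
    (hs : K ⊓ normalizer ((T ⊓ K : Subgroup H) : Set H) ≤ T) (tx : ∀ t ∈ T, t • x = x)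
    (gen : ∀ P : Subgroup H, IsMinPar T P → (∃ p ∈ P, p • x ≠ x) →
      P ≤ normalizer ((T ⊓ K : Subgroup H) : Set H)) (h : H) : h • x = x := by
  have h1 : MulAction.stabilizer H x = ⊤ := by
    refine le_of_selfnorm KT norm hs (fun t ht => MulAction.mem_stabilizer_iff.2 (tx t ht)) fun P hP hn p hp => ?_
    by_contra h1
    exact hn (gen P hP ⟨p, hp, fun h2 => h1 (MulAction.mem_stabilizer_iff.2 h2)⟩)
  exact MulAction.mem_stabilizer_iff.1 (h1 ▸ mem_top h)

end Cfsg.Agent.Omega.KL.LieGen
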