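import Cfsg.Agent.Omega.ML.RowU33
import Cfsg.Agent.Omega.ML.Ex.Inv
import Cfsg.Agent.Omega.ML.Ex.Gen
import Cfsg.Agent.Omega.ML.Ex.RowU33W

/-!
# The row `U₃(3)` for two `T`-fixed vectors: the count (helper119)

* `UThreeCount.card_le` : `1 ≠ N` a normal 2-subgroup of `R ≤ SU₃(3)` ⟹ `|R| ≤ 144`;
* `sylow_normalizer` : a Sylow 2-subgroup of `SU₃(3)` is its own normalizer;
* **`eq_of_fixed`** : `InX H M K T A`, `K = SU₃(3)`, `|M| ≤ 64` ⟹ `|C_M(T)| ≤ 2`.
-/

set_option autoImplicit false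

namespace Cfsg.Agent.Omega.KL.UThreeCount

open Matrix Subgroup Cfsg
open Cfsg.Agent.Classification.RTwo.UThreeThree (K9 card_k9 card_k9' IsGood psuEquiv center_SU)
open Cfsg.Agent.OddHalf.Small.U33
open Cfsg.Agent.OddHalf.D4.Small.KU33
open Cfsg.Agent.OddHalf.D6.RThree.U33

section abs

/-! ### 2-local subgroups -/

variable {G : Type*} [Group G] [Finite G] {t : G}

theorem card_le_of {R O : Subgroup G} (ht1 : t ≠ 1) (ht : t ∈ O) (hn : ∀ r ∈ R, ∀ e ∈ O, r * e * r⁻¹ ∈ O)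
    (h4 : Nat.card O ≤ 4) (h96 : Nat.card (centralizer ({t} : Set G)) ≤ 96)
    (hV : (∀ g, g * t = t * g → ∀ e ∈ O, g * e * g⁻¹ ∈ O) → ∀ e ∈ O, e = 1 ∨ e = t) : Nat.card R ≤ 144 := by
  classical
  set C : Subgroup G := R ⊓ centralizer {t} with hC
  have hCR : C ≤ R := inf_le_left
  have hcc : C ≤ centralizer {t} := inf_le_right
  -- the orbit of `t`
  let X := {e : G // e ∈ O ∧ e ≠ 1}
  have hX : Nat.card X + 1 ≤ Nat.card O := by
    let f : Option X → O := fun o => match o with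
      | none => 1
      | some e => ⟨e.1, e.2.1⟩
    have hf : Function.Injective f := by
      intro a b hab
      rcases a with _ | a <;> rcases b with _ | b
      · rfl
      · exact absurd (congrArg Subtype.val hab).symm b.2.2
      · exact absurd (congrArg Subtype.val hab) a.2.2
      · exact congrArg some (Subtype.ext (show (a.1 : G) = b.1 from congrArg (fun w : O => (w : G)) hab))
    have h := Nat.card_le_card_of_injective f hf
    rwa [Finite.card_option] at h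
  have hrel : C.relIndex R ≤ Nat.card X := by
    let f : R → X := fun r => ⟨r * t * (r : G)⁻¹, hn r r.2 t ht, fun h => ht1 (by
      calc t = (r : G)⁻¹ * (r * t * (r : G)⁻¹) * r := by group
        _ = 1 := by rw [h]; group)⟩
    have hfi : ∀ a b : R, f a = f b → (QuotientGroup.mk a : R ⧸ C.subgroupOf R) = QuotientGroup.mk b := by
      intro a b hab
      refine QuotientGroup.eq.2 ?_
      have h1 : (a : G) * t * (a : G)⁻¹ = b * t * (b : G)⁻¹ := congrArg Subtype.val hab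
      refine mem_subgroupOf.2 ⟨(a⁻¹ * b).2, mem_centralizer_iff.2 ?_⟩
      intro z hz
      rw [Set.mem_singleton_iff.1 hz]
      show t * ((a : G)⁻¹ * b) = (a : G)⁻¹ * b * t
      calc t * ((a : G)⁻¹ * b) = (a : G)⁻¹ * (a * t * (a : G)⁻¹) * b := by group
        _ = (a : G)⁻¹ * (b * t * (b : G)⁻¹) * b := by rw [h1]
        _ = (a : G)⁻¹ * b * t := by group
    let F : (R ⧸ C.subgroupOf R) → X := fun q => f q.out
    have hF : Function.Injective F := by
      intro p q hpq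
      have := hfi _ _ hpq
      rwa [QuotientGroup.out_eq', QuotientGroup.out_eq'] at this
    exact Nat.card_le_card_of_injective F hF
  have hcard : Nat.card R = Nat.card C * C.relIndex R := by
    have h1 := (C.subgroupOf R).card_mul_index
    have h2 : Nat.card (C.subgroupOf R) = Nat.card C := Nat.card_congr (subgroupOfEquivOfLe hCR).toEquiv
    rw [h2] at h1
    exact h1.symm
  by_cases hO : ∀ e ∈ O, e = 1 ∨ e = t
  · -- `|O| = 2`
    have h1 : Nat.card X ≤ 1 := by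
      have : Subsingleton X := ⟨fun a b => Subtype.ext
        (((hO a.1 a.2.1).resolve_left a.2.2).trans ((hO b.1 b.2.1).resolve_left b.2.2).symm)⟩
      exact Finite.card_le_one_iff_subsingleton.2 this
    have h2 : Nat.card C ≤ 96 := (card_le_of_le hcc).trans h96
    rw [hcard]
    calc Nat.card C * C.relIndex R ≤ 96 * 1 := Nat.mul_le_mul h2 (hrel.trans h1)
      _ ≤ 144 := by norm_num
  · -- `|O| = 4`
    have h1 : Nat.card X ≤ 3 := by omega
    have h2 : 2 * Nat.card C ≤ Nat.card (centralizer ({t} : Set G)) := by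
      have hne : C ≠ centralizer {t} := by
        intro h3
        refine hO (hV fun g hg e he => hn g (hCR (h3 ▸ mem_centralizer_iff.2 ?_)) e he)
        intro z hz
        rw [Set.mem_singleton_iff.1 hz]
        exact hg.symm
      have h4 : Nat.card C * C.relIndex (centralizer {t}) = Nat.card (centralizer ({t} : Set G)) := by
        have h5 := (C.subgroupOf (centralizer {t})).card_mul_index
        have h6 : Nat.card (C.subgroupOf (centralizer {t})) = Nat.card C :=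
          Nat.card_congr (subgroupOfEquivOfLe hcc).toEquiv
        rw [h6] at h5
        exact h5
      have h5 : C.relIndex (centralizer {t}) ≠ 1 := fun h6 => hne (le_antisymm hcc (relIndex_eq_one.1 h6))
      have h6 : C.relIndex (centralizer {t}) ≠ 0 := by
        intro h7
        rw [h7, mul_zero] at h4
        exact Nat.card_pos.ne h4
      rw [← h4, mul_comm 2]
      exact Nat.mul_le_mul_left _ (by omega)
    rw [hcard]
    calc Nat.card C * C.relIndex R ≤ 48 * 3 := Nat.mul_le_mul (by omega) (hrel.trans h1)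
      _ ≤ 144 := by norm_num

/-- the elements of `Z(N)` of order at most 2 -/
def Om (N : Subgroup G) : Subgroup G where
  carrier := {u | u ∈ N ∧ u * u = 1 ∧ ∀ v ∈ N, u * v = v * u}
  mul_mem' := by
    rintro a b ⟨ha, ha2, hac⟩ ⟨hb, hb2, hbc⟩
    refine ⟨mul_mem ha hb, ?_, fun v hv => ?_⟩
    · calc a * b * (a * b) = a * (b * a) * b := by group
        _ = a * (a * b) * b := by rw [← hac b hb]
        _ = (a * a) * (b * b) := by group
        _ = 1 := by rw [ha2, hb2, one_mul]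
    · rw [mul_assoc, hbc v hv, ← mul_assoc, hac v hv, mul_assoc]
  one_mem' := ⟨one_mem _, one_mul _, fun v _ => by rw [one_mul, mul_one]⟩
  inv_mem' := by
    rintro a ⟨ha, ha2, hac⟩
    have h3 : a⁻¹ = a := inv_eq_of_mul_eq_one_right ha2
    show a⁻¹ ∈ N ∧ a⁻¹ * a⁻¹ = 1 ∧ ∀ v ∈ N, a⁻¹ * v = v * a⁻¹
    rw [h3]
    exact ⟨ha, ha2, hac⟩

omit [Finite G] in
theorem Om_conj {R N : Subgroup G} (hn : ∀ r ∈ R, ∀ n ∈ N, r * n * r⁻¹ ∈ N) : ∀ r ∈ R, ∀ e ∈ Om N, r * e * r⁻¹ ∈ Om N := by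
  rintro r hr e ⟨he, he2, hec⟩
  refine ⟨hn r hr e he, ?_, fun v hv => ?_⟩
  · calc r * e * r⁻¹ * (r * e * r⁻¹) = r * (e * e) * r⁻¹ := by group
      _ = 1 := by rw [he2]; group
  · have h3 : r⁻¹ * v * r ∈ N := by
      have := hn r⁻¹ (inv_mem hr) v hv
      rwa [inv_inv] at this
    calc r * e * r⁻¹ * v = r * (e * (r⁻¹ * v * r)) * r⁻¹ := by group
      _ = r * (r⁻¹ * v * r * e) * r⁻¹ := by rw [hec _ h3]
      _ = v * (r * e * r⁻¹) := by group

theorem Om_ne {N : Subgroup G} (h2 : IsPGroup 2 N) (h1 : N ≠ ⊥) : ∃ u ∈ Om N, u ≠ 1 := by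
  have hnt : Nontrivial N := (nontrivial_iff_ne_bot N).2 h1
  have : Fact (Nat.Prime 2) := ⟨Nat.prime_two⟩
  have hc : Nontrivial (center N) := h2.center_nontrivial
  have hc2 : 2 ∣ Nat.card (center N) := by
    obtain ⟨k, hk⟩ := IsPGroup.iff_card.1 (h2.to_subgroup (center N))
    rw [hk]
    refine dvd_pow_self 2 ?_
    rintro rfl
    have h3 : Nat.card (center N) = 1 := by rw [hk, pow_zero]
    exact (Finite.one_lt_card (α := center N)).ne' h3
  obtain ⟨c, hc⟩ := exists_prime_orderOf_dvd_card' 2 hc2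
  have hcc : c * c = 1 := by
    rw [← pow_two, ← hc]
    exact pow_orderOf_eq_one c
  refine ⟨((c : N) : G), ⟨(c : N).2, ?_, fun v hv => ?_⟩, fun h3 => ?_⟩
  · exact congrArg (fun w : center N => ((w : N) : G)) hcc
  · exact (congrArg Subtype.val (mem_center_iff.1 c.2 ⟨v, hv⟩)).symm
  · have h4 : c = 1 := Subtype.ext (Subtype.ext h3)
    rw [h4, orderOf_one] at hc
    omega

theorem card_le_abs (ht1 : t ≠ 1) (h4 : ∀ O : Subgroup G, t ∈ O → (∀ e ∈ O, e * e = 1) → Nat.card O ≤ 4)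
    (h96 : Nat.card (centralizer ({t} : Set G)) ≤ 96)
    (hV : ∀ O : Subgroup G, (∀ e ∈ O, e * e = 1) → t ∈ O → (∀ g, g * t = t * g → ∀ e ∈ O, g * e * g⁻¹ ∈ O) →
      ∀ e ∈ O, e = 1 ∨ e = t)
    (hconj : ∀ s : G, s * s = 1 → s ≠ 1 → ∃ g, g⁻¹ * s * g = t) {R N : Subgroup G}
    (hn : ∀ r ∈ R, ∀ n ∈ N, r * n * r⁻¹ ∈ N) (h2 : IsPGroup 2 N) (h1 : N ≠ ⊥) : Nat.card R ≤ 144 := by
  obtain ⟨u, hu, hu1⟩ := Om_ne h2 h1
  obtain ⟨g, hg⟩ := hconj u hu.2.1 hu1
  set φ : G ≃* G := MulAut.conj g⁻¹ with hφ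
  have hφa : ∀ w, φ w = g⁻¹ * w * g := fun w => by rw [hφ, MulAut.conj_apply, inv_inv]
  have hel : ∀ e ∈ (Om N).map φ.toMonoidHom, e * e = 1 := by
    rintro _ ⟨e, he, rfl⟩
    show φ e * φ e = 1
    rw [← map_mul, he.2.1, map_one]
  have ht : t ∈ (Om N).map φ.toMonoidHom := ⟨u, hu, by
    show φ u = t
    rw [hφa, hg]⟩
  have h3 := card_le_of (R := R.map φ.toMonoidHom) (O := (Om N).map φ.toMonoidHom) ht1 ht
    (by
      rintro _ ⟨r, hr, rfl⟩ _ ⟨e, he, rfl⟩
      refine ⟨r * e * r⁻¹, Om_conj hn r hr e he, ?_⟩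
      show φ (r * e * r⁻¹) = φ r * φ e * (φ r)⁻¹
      rw [map_mul, map_mul, map_inv]) (h4 _ ht hel) h96 (hV _ hel ht)
  rwa [card_map_of_injective φ.injective] at h3

/-- `n` normalises `S` ⟹ `n` centralises the unique involution of `Z(S)` -/
theorem comm_of_norm {S : Subgroup G} (ht1 : t ≠ 1) (ht2 : t * t = 1) (htS : t ∈ S) (htc : ∀ s ∈ S, s * t = t * s)
    (hu : ∀ y ∈ S, y * y = 1 → y ≠ 1 → (∀ s ∈ S, y * s = s * y) → y = t) {n : G} (hn : ∀ s ∈ S, n * s * n⁻¹ ∈ S) :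
    n * t = t * n := by
  have hn' : ∀ s ∈ S, n⁻¹ * s * n ∈ S := by
    intro s hs
    have h1 : S.map (MulAut.conj n).toMonoidHom ≤ S := by
      rintro _ ⟨t, ht, rfl⟩
      exact hn t ht
    have h2 : S.map (MulAut.conj n).toMonoidHom = S := by
      refine eq_of_le_of_card_ge h1 ?_
      rw [card_map_of_injective (MulAut.conj n).injective]
    obtain ⟨t, ht, hts⟩ := h2.symm ▸ hs
    have h3 : n * t * n⁻¹ = s := hts
    rw [← h3]
    have h4 : n⁻¹ * (n * t * n⁻¹) * n = t := by group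
    rwa [h4]
  have h1 : n * t * n⁻¹ = t := by
    refine hu _ (hn t htS) ?_ ?_ ?_
    · calc n * t * n⁻¹ * (n * t * n⁻¹) = n * (t * t) * n⁻¹ := by group
        _ = 1 := by rw [ht2]; group
    · intro h9
      apply ht1
      calc t = n⁻¹ * (n * t * n⁻¹) * n := by group
        _ = 1 := by rw [h9]; group
    · intro s hs
      have h1 := htc _ (hn' s hs)
      calc n * t * n⁻¹ * s = n * (t * (n⁻¹ * s * n)) * n⁻¹ := by group
        _ = n * (n⁻¹ * s * n * t) * n⁻¹ := by rw [h1]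
        _ = s * (n * t * n⁻¹) := by group
  exact mul_inv_eq_iff_eq_mul.1 h1

end abs

section kfact

/-- no four-group over `t0` is normalised by `C(t0)` -/
theorem no_four {E : Subgroup SU33} (el : ∀ e ∈ E, e * e = 1) (ht : t0 ∈ E)
    (hn : ∀ g, g * t0 = t0 * g → ∀ e ∈ E, g * e * g⁻¹ ∈ E) : ∀ e ∈ E, e = 1 ∨ e = t0 := by
  have hinv : ∀ z ∈ E, z⁻¹ = z := fun z hz => inv_eq_of_mul_eq_one_right (el z hz)
  have hcomm : ∀ x ∈ E, ∀ y ∈ E, x * y = y * x := by
    intro x hx y hy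
    calc x * y = (x * y)⁻¹ := (hinv _ (E.mul_mem hx hy)).symm
      _ = y⁻¹ * x⁻¹ := mul_inv_rev _ _
      _ = y * x := by rw [hinv _ hx, hinv _ hy]
  intro e he
  by_contra hcon
  push Not at hcon
  have h1 := ML.Ex.RowU33W.comm_ga (hcomm e he t0 ht) (el e he) hcon.1 hcon.2
  have h2 := hn ga ga_t0 e he
  rw [hcomm e he _ h2, mul_assoc, mul_assoc, mul_inv_cancel_left, mul_inv_cancel] at h1
  exact t0_ne h1.symm

theorem conj_t0 (s : SU33) (h1 : s * s = 1) (h2 : s ≠ 1) : ∃ g, g⁻¹ * s * g = t0 := ML.Ex.RowU33W.exists_conj h1 h2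

/-- the parameters of the elements of `C(t0)` -/
abbrev Par : Type := {q : (ZMod 3 × ZMod 3) × (ZMod 3 × ZMod 3) × (ZMod 3 × ZMod 3) //
  (⟨q.1.1, q.1.2⟩ : K9) * cj ⟨q.1.1, q.1.2⟩ = 1 ∧
    (⟨q.2.1.1, q.2.1.2⟩ : K9) * cj ⟨q.2.1.1, q.2.1.2⟩ + ⟨q.2.2.1, q.2.2.2⟩ * cj ⟨q.2.2.1, q.2.2.2⟩ = 1}

theorem card_par : Fintype.card Par = 96 := by decide +kernel

/-- `|C(t0)| ≤ 96` -/
theorem card_cent : Nat.card (centralizer ({t0} : Set SU33)) ≤ 96 := by
  have hc : ∀ x : centralizer ({t0} : Set SU33), (x : SU33) * t0 = t0 * x := fun x =>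
    (mem_centralizer_iff.1 x.2 t0 rfl).symm
  let f : centralizer ({t0} : Set SU33) → Par := fun x =>
    ⟨(((mt x 0 0).re, (mt x 0 0).im), ((mt x 1 1).re, (mt x 1 1).im), ((mt x 1 2).re, (mt x 1 2).im)),
      (param (hc x)).1, (param (hc x)).2.2.2⟩
  have hf : Function.Injective f := by
    intro x y h
    have h0 := congrArg Subtype.val h
    have h00 : mt x 0 0 = mt y 0 0 := QuadraticAlgebra.ext (congrArg (fun q => q.1.1) h0) (congrArg (fun q => q.1.2) h0)
    have h11 : mt x 1 1 = mt y 1 1 :=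
      QuadraticAlgebra.ext (congrArg (fun q => q.2.1.1) h0) (congrArg (fun q => q.2.1.2) h0)
    have h12 : mt x 1 2 = mt y 1 2 :=
      QuadraticAlgebra.ext (congrArg (fun q => q.2.2.1) h0) (congrArg (fun q => q.2.2.2) h0)
    obtain ⟨-, x21, x22, -⟩ := param (hc x)
    obtain ⟨-, y21, y22, -⟩ := param (hc y)
    obtain ⟨x01, x02, x10, x20⟩ := pattern (hc x)
    obtain ⟨y01, y02, y10, y20⟩ := pattern (hc y)
    refine Subtype.ext (mt_ext (Matrix.ext fun i j => ?_))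
    fin_cases i <;> fin_cases j
    · exact h00
    · exact x01.trans y01.symm
    · exact x02.trans y02.symm
    · exact x10.trans y10.symm
    · exact h11
    · exact h12
    · exact x20.trans y20.symm
    · exact (x21.trans (by rw [h00, h12])).trans y21.symm
    · exact (x22.trans (by rw [h00, h11])).trans y22.symm
  have h := Nat.card_le_card_of_injective f hf
  rwa [Nat.card_eq_fintype_card (α := Par), card_par] at h

/-- **2-local subgroups have order at most 144** (the truth is 96). -/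
theorem card_le {R N : Subgroup SU33} (hn : ∀ r ∈ R, ∀ n ∈ N, r * n * r⁻¹ ∈ N) (h2 : IsPGroup 2 N)
    (h1 : N ≠ ⊥) : Nat.card R ≤ 144 := by
  have hfin : Finite SU33 := finite_SU33
  exact card_le_abs t0_ne (fun O h3 h4 => Cfsg.Agent.Omega.ML.RowU33.inner_le h3 h4) card_cent
    (fun O h3 h4 h5 => no_four h3 h4 h5) conj_t0 hn h2 h1

/-! ### the normalizer of a Sylow 2-subgroup -/

/-- `diag(i, 1, -i)` -/
def eM : Matrix (Fin 3) (Fin 3) K9 := !![⟨0, 1⟩, 0, 0; 0, 1, 0; 0, 0, ⟨0, 2⟩]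

theorem eM_good : IsGood eM := by decide +kernel

/-- `diag(i, 1, -i)` in `SU₃(3)` -/
def ee : SU33 := eM_good.su

theorem mt_ee : mt ee = eM := rfl

theorem ee_mem : ee ∈ S := ⟨comm_iff.mpr ⟨rfl, rfl, rfl, rfl⟩, Or.inr rfl⟩

theorem gj_mem : gj ∈ S := ⟨comm_of_inQ j_mem, Or.inr rfl⟩

theorem gi_mem : gi ∈ S := ⟨comm_of_inQ i_mem, Or.inl rfl⟩

theorem norm_aux : ∀ a1 a2 b1 b2 d1 d2 u1 u2 : ZMod 3,
    (⟨a1, a2⟩ : K9) * cj ⟨a1, a2⟩ + ⟨b1, b2⟩ * cj ⟨b1, b2⟩ = 1 → (⟨d1, d2⟩ : K9) * cj ⟨d1, d2⟩ = 1 →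
    (⟨a1, a2⟩ : K9) = ⟨u1, u2⟩ * (-(cj ⟨d1, d2⟩ * cj ⟨b1, b2⟩)) →
    (⟨b1, b2⟩ : K9) * ⟨0, 2⟩ = ⟨u1, u2⟩ * (cj ⟨d1, d2⟩ * cj ⟨a1, a2⟩) → False := by
  decide +kernel

theorem norm_aux2 : ∀ a1 a2 b1 b2 u1 u2 : ZMod 3, (⟨a1, a2⟩ : K9) = ⟨u1, u2⟩ * ⟨a1, a2⟩ →
    (⟨b1, b2⟩ : K9) * ⟨0, 2⟩ = ⟨u1, u2⟩ * ⟨b1, b2⟩ → (⟨a1, a2⟩ : K9) = 0 ∨ (⟨b1, b2⟩ : K9) = 0 := by
  decide +kernel

theorem scal_aux : ∀ a1 a2 d1 d2 : ZMod 3, (⟨a1, a2⟩ : K9) * ⟨a1, a2⟩ = 1 →
    (⟨d1, d2⟩ : K9) * (⟨a1, a2⟩ * ⟨a1, a2⟩) = 1 → (⟨d1, d2⟩ : K9) = 1 := by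
  decide +kernel

/-- the unique involution of `Z(S)` -/
theorem eq_t0_of {y : SU33} (hyS : y ∈ S) (hyy : y * y = 1) (hy1 : y ≠ 1) (hyc : ∀ s ∈ S, y * s = s * y) :
    y = t0 := by
  obtain ⟨h12, h21, h11⟩ := scalar_of hyS.1 (hyc gi gi_mem) (hyc gj gj_mem)
  obtain ⟨h01, h02, h10, h20⟩ := pattern hyS.1
  have h5 : mt y 1 1 * mt y 1 1 = 1 := by
    have h6 := congrArg (fun w : SU33 => mt w 1 1) hyy
    simp only [mt_mul_apply, h10, h12] at h6
    rw [mt_one] at h6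
    simpa using h6
  have h6 : mt y 0 0 * (mt y 1 1 * mt y 1 1) = 1 := by
    have hdet := det_eq y
    rw [Matrix.det_fin_three, h01, h02, h10, h20, h12, h21, ← h11] at hdet
    linear_combination hdet
  have h7 : mt y 0 0 = 1 := by
    generalize mt y 0 0 = d at h6
    generalize mt y 1 1 = a at h5 h6
    obtain ⟨d1, d2⟩ := d
    obtain ⟨a1, a2⟩ := a
    exact scal_aux a1 a2 d1 d2 h5 h6
  have h8 : mt y *ᵥ (Pi.single 0 1) = Pi.single 0 1 := by
    funext i
    rw [Matrix.mulVec_single_one]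
    fin_cases i
    · simpa using h7
    · simpa using h10
    · simpa using h20
  exact eq_t0 hyy hy1 h8

theorem mem_of_ee {n s : SU33} (hnt : n * t0 = t0 * n) (hs : s ∈ S) (hse : n * ee = s * n) : n ∈ S := by
  refine ⟨hnt, ?_⟩
  obtain ⟨h00, h21, h22, h11⟩ := param hnt
  obtain ⟨h01, h02, h10, h20⟩ := pattern hnt
  obtain ⟨s01, s02, s10, s20⟩ := pattern hs.1
  have e11 : mt n 1 1 = mt s 1 1 * mt n 1 1 + mt s 1 2 * mt n 2 1 := by
    have h1 := congrArg (fun w : SU33 => mt w 1 1) hse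
    simp only [mt_mul_apply, s10, mt_ee] at h1
    have k0 : eM 0 1 = 0 := rfl
    have k1 : eM 1 1 = 1 := rfl
    have k2 : eM 2 1 = 0 := rfl
    rw [k0, k1, k2] at h1
    linear_combination h1
  have e12 : mt n 1 2 * ⟨0, 2⟩ = mt s 1 1 * mt n 1 2 + mt s 1 2 * mt n 2 2 := by
    have h1 := congrArg (fun w : SU33 => mt w 1 2) hse
    simp only [mt_mul_apply, s10, mt_ee] at h1
    have k0 : eM 0 2 = 0 := rfl
    have k1 : eM 1 2 = 0 := rfl
    have k2 : eM 2 2 = ⟨0, 2⟩ := rfl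
    rw [k0, k1, k2] at h1
    linear_combination h1
  rcases hs.2 with h | h
  · exfalso
    rw [h, zero_mul, zero_add] at e11 e12
    rw [h21] at e11
    rw [h22] at e12
    generalize mt n 0 0 = d at h00 e11 e12
    generalize mt n 1 1 = a at h11 e11 e12
    generalize mt n 1 2 = b at h11 e11 e12
    generalize mt s 1 2 = u at e11 e12
    obtain ⟨d1, d2⟩ := d
    obtain ⟨a1, a2⟩ := a
    obtain ⟨b1, b2⟩ := b
    obtain ⟨u1, u2⟩ := u
    exact norm_aux a1 a2 b1 b2 d1 d2 u1 u2 h11 h00 e11 e12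
  · rw [h, zero_mul, add_zero] at e11 e12
    generalize mt n 1 1 = a at e11
    generalize mt n 1 2 = b at e12
    generalize mt s 1 1 = u at e11 e12
    obtain ⟨a1, a2⟩ := a
    obtain ⟨b1, b2⟩ := b
    obtain ⟨u1, u2⟩ := u
    exact norm_aux2 a1 a2 b1 b2 u1 u2 e11 e12

theorem t0_mem : t0 ∈ S := ⟨rfl, Or.inr rfl⟩

/-- `N(S) = S` -/
theorem norm_S {n : SU33} (hn : ∀ s ∈ S, n * s * n⁻¹ ∈ S) : n ∈ S := by
  have hfin : Finite SU33 := finite_SU33
  refine mem_of_ee (comm_of_norm t0_ne t0_t0 t0_mem (fun s hs => hs.1) (fun y h1 h2 h3 h4 => eq_t0_of h1 h2 h3 h4) hn)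
    (hn ee ee_mem) ?_
  rw [inv_mul_cancel_right]

end kfact

section sylow

open scoped Pointwise

theorem exists_conj_sylow {G : Type*} [Group G] [Finite G] {P Q R : Subgroup G} (hP : IsPGroup 2 P)
    (hQ : IsPGroup 2 Q) (hPR : P ≤ R) (hQR : Q ≤ R) (hPi : ¬ 2 ∣ P.index) (hQi : ¬ 2 ∣ Q.index) :
    ∃ r ∈ R, (∀ p ∈ P, r * p * r⁻¹ ∈ Q) ∧ ∀ q ∈ Q, r⁻¹ * q * r ∈ P := by
  have : Fact (Nat.Prime 2) := ⟨Nat.prime_two⟩
  have h1 : ¬ 2 ∣ (P.subgroupOf R).index := fun h => hPi (h.trans (Dvd.intro _ (relIndex_mul_index hPR)))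
  have h2 : ¬ 2 ∣ (Q.subgroupOf R).index := fun h => hQi (h.trans (Dvd.intro _ (relIndex_mul_index hQR)))
  have h3 : IsPGroup 2 (P.subgroupOf R) := hP.comap_subtype
  have h4 : IsPGroup 2 (Q.subgroupOf R) := hQ.comap_subtype
  obtain ⟨r, hr⟩ := MulAction.exists_smul_eq R (h3.toSylow h1) (h4.toSylow h2)
  have hr' : MulAut.conj r • (P.subgroupOf R) = Q.subgroupOf R := congrArg (fun S : Sylow 2 R => (S : Subgroup R)) hr
  refine ⟨r, r.2, fun p hp => ?_, fun q hq => ?_⟩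
  · have h5 : MulAut.conj r • (⟨p, hPR hp⟩ : R) ∈ MulAut.conj r • (P.subgroupOf R) :=
      Subgroup.smul_mem_pointwise_smul _ _ _ (mem_subgroupOf.2 hp)
    rw [hr'] at h5
    exact h5
  · have h5 : (⟨q, hQR hq⟩ : R) ∈ MulAut.conj r • (P.subgroupOf R) := by
      rw [hr']
      exact mem_subgroupOf.2 hq
    obtain ⟨p, hp, hpq⟩ := h5
    have h6 : (r : G) * p * (r : G)⁻¹ = q := congrArg Subtype.val hpq
    have h7 : (r : G)⁻¹ * q * r = p := by rw [← h6]; group
    rw [h7]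
    exact hp

/-- `|G : R| = |K : K ∩ R|` if `G = KR` -/
theorem relIndex_eq {G : Type*} [Group G] [Finite G] {K R : Subgroup G} [K.Normal] (h : K ⊔ R = ⊤) :
    R.relIndex K = R.index := by
  have h1 : K.relIndex R = K.index := by
    rw [← relIndex_sup_right R K, sup_comm, h, relIndex_top_right]
  have h2 := K.card_mul_index
  have h3 := R.card_mul_index
  have h4 : Nat.card ↥(K ⊓ R) * K.relIndex R = Nat.card R := by
    have h5 := relIndex_mul_relIndex (⊥ : Subgroup G) (K ⊓ R) R bot_le inf_le_right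
    rwa [relIndex_bot_left, relIndex_bot_left, inf_relIndex_right] at h5
  have h5 : Nat.card ↥(K ⊓ R) * R.relIndex K = Nat.card K := by
    have h5 := relIndex_mul_relIndex (⊥ : Subgroup G) (K ⊓ R) K bot_le inf_le_left
    rwa [relIndex_bot_left, relIndex_bot_left, inf_relIndex_left] at h5
  have h6 : 0 < K.index := Nat.pos_of_ne_zero index_ne_zero_of_finite
  have h7 : 0 < Nat.card ↥(K ⊓ R) := Nat.card_pos
  have h8 : (Nat.card ↥(K ⊓ R) * K.index) * R.relIndex K = (Nat.card ↥(K ⊓ R) * K.index) * R.index := by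
    calc (Nat.card ↥(K ⊓ R) * K.index) * R.relIndex K = (Nat.card ↥(K ⊓ R) * R.relIndex K) * K.index := by ring
      _ = Nat.card R * R.index := by rw [h5, h2, h3]
      _ = (Nat.card ↥(K ⊓ R) * K.index) * R.index := by rw [← h4, h1]
  exact Nat.eq_of_mul_eq_mul_left (Nat.mul_pos h7 h6) h8

/-- **Sylow 2-subgroups of `SU₃(3)` are self-normalizing.** -/
theorem sylow_normalizer {P : Subgroup SU33} (h2 : IsPGroup 2 P) (hi : ¬ 2 ∣ P.index) {n : SU33}
    (hn : ∀ p ∈ P, n * p * n⁻¹ ∈ P) : n ∈ P := by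
  have hfin : Finite SU33 := finite_SU33
  have hS : ¬ 2 ∣ (S : Subgroup SU33).index := fun h => by
    have := odd_S
    rw [← Nat.not_even_iff_odd, even_iff_two_dvd] at this
    exact this h
  obtain ⟨r, -, h3, h4⟩ := exists_conj_sylow isPGroup_S h2 le_top le_top hS hi
  have h5 : r⁻¹ * n * r ∈ S := by
    refine norm_S fun s hs => ?_
    have h6 := h4 _ (hn _ (h3 s hs))
    have h7 : r⁻¹ * (n * (r * s * r⁻¹) * n⁻¹) * r = r⁻¹ * n * r * s * (r⁻¹ * n * r)⁻¹ := by group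
    rwa [h7] at h6
  have h6 := h3 _ h5
  have h7 : r * (r⁻¹ * n * r) * r⁻¹ = n := by group
  rwa [h7] at h6

end sylow

section action

open Cfsg.Agent.ZN Cfsg.Agent.Omega.NOThree.NoOver Cfsg.Agent.Omega.ML.CD Cfsg.Agent.Omega.ML.Ex
open Cfsg.Agent.ClassTwoFusion.Quad
open Cfsg.Agent.MinSimple.VModule (o2_isPGroup o2_le le_o2 le_normalizer_o2)

universe u v

variable {H : Type u} [Group H] {M : Type v} [Group M] [MulDistribMulAction H M] {K T A : Subgroup H}

/-- `N_H(T) = T` -/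
theorem mem_of_normalizes [Finite H] (h : InX H M K T A) (e : K ≃* SU33) {n : H} (hn : ∀ t ∈ T, n * t * n⁻¹ ∈ T) :
    n ∈ T := by
  have hN := h.norm
  have h1 : n ∈ K ⊔ T := h.gen ▸ mem_top n
  obtain ⟨k, hk, t, ht, rfl⟩ := mem_sup_of_normal_left.1 h1
  refine mul_mem ?_ ht
  have hk' : ∀ s ∈ T, k * s * k⁻¹ ∈ T := by
    intro s hs
    have h2 := hn (t⁻¹ * s * t) (mul_mem (mul_mem (inv_mem ht) hs) ht)
    have h3 : k * t * (t⁻¹ * s * t) * (k * t)⁻¹ = k * s * k⁻¹ := by group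
    rwa [h3] at h2
  have h2 : IsPGroup 2 ((T.subgroupOf K).map e.toMonoidHom) := (h.two.comap_subtype).map _
  have h3 : ¬ 2 ∣ ((T.subgroupOf K).map e.toMonoidHom).index := by
    have h4 : ((T.subgroupOf K).map e.toMonoidHom).index = (T.subgroupOf K).index := by
      rw [index_map_of_bijective (f := e.toMonoidHom) e.bijective]
    rw [h4]
    show ¬ 2 ∣ T.relIndex K
    rw [relIndex_eq h.gen]
    exact h.syl
  have h4 := sylow_normalizer h2 h3 (n := e ⟨k, hk⟩) (by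
    rintro _ ⟨s, hs, rfl⟩
    refine ⟨⟨k, hk⟩ * s * ⟨k, hk⟩⁻¹, ?_, ?_⟩
    · exact hk' s hs
    · show e (⟨k, hk⟩ * s * ⟨k, hk⟩⁻¹) = e ⟨k, hk⟩ * e s * (e ⟨k, hk⟩)⁻¹
      rw [map_mul, map_mul, map_inv])
  obtain ⟨s, hs, hse⟩ := h4
  have h5 : s = ⟨k, hk⟩ := e.injective hse
  rw [h5] at hs
  exact hs

theorem index_out (e : K ≃* SU33) : (MulAut.conj : K →* MulAut K).range.index = 2 := by
  rw [← index_inn]
  have h1 : (MulAut.conj : SU33 →* MulAut SU33).range =
      (MulAut.conj : K →* MulAut K).range.map (MulAut.congr e).toMonoidHom := by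
    ext φ
    constructor
    · rintro ⟨g, rfl⟩
      refine ⟨MulAut.conj (e.symm g), ⟨_, rfl⟩, ?_⟩
      refine MulEquiv.ext fun x => ?_
      show e (e.symm g * e.symm x * (e.symm g)⁻¹) = g * x * g⁻¹
      simp
    · rintro ⟨_, ⟨g, rfl⟩, rfl⟩
      refine ⟨e g, ?_⟩
      refine MulEquiv.ext fun x => ?_
      show e g * x * (e g)⁻¹ = e (g * e.symm x * g⁻¹)
      simp
  rw [h1, index_map_of_bijective (MulAut.congr e).bijective]

/-- **Orbits have length at least 42.** -/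
theorem index_stabilizer [Finite H] [Finite M] (h : InX H M K T A) (e : K ≃* SU33) {x : M} (hx : ∀ t ∈ T, t • x = x)
    (hx1 : x ≠ 1) : 42 ≤ (MulAction.stabilizer H x).index := by
  have hN := h.norm
  set R := MulAction.stabilizer H x with hR
  have hT : T ≤ R := fun t ht => MulAction.mem_stabilizer_iff.2 (hx t ht)
  have hRt : R ≠ ⊤ := by
    intro h1
    apply hx1
    have h2 : x ∈ cv M (K : Set H) := fun k _ => MulAction.mem_stabilizer_iff.1 (h1 ▸ mem_top k : k ∈ R)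
    rw [Gen.cv_eq_bot h] at h2
    exact mem_bot.1 h2
  obtain ⟨z, hzA, hzK, hz1⟩ := Inv.asx_exists_mem h.asx (by rw [index_out e]; have := h.four; omega)
  have hzo := h.low R hT hRt hzA
  have hgen : K ⊔ R = ⊤ := top_le_iff.1 (h.gen ▸ sup_le_sup_left hT K)
  have h1 : Nat.card ((R.subgroupOf K).map e.toMonoidHom) ≤ 144 := by
    refine card_le (N := ((o2 R).subgroupOf K).map e.toMonoidHom) ?_ ?_ ?_
    · rintro _ ⟨r, hr, rfl⟩ _ ⟨n, hn, rfl⟩
      refine ⟨r * n * r⁻¹, ?_, ?_⟩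
      · have h2 : (r : H) ∈ normalizer (o2 R : Set H) := le_normalizer_o2 R hr
        exact (mem_normalizer_iff.1 h2 _).1 hn
      · show e (r * n * r⁻¹) = e r * e n * (e r)⁻¹
        rw [map_mul, map_mul, map_inv]
    · exact ((o2_isPGroup R).comap_subtype).map _
    · intro h2
      have h3 : e ⟨z, hzK⟩ ∈ ((o2 R).subgroupOf K).map e.toMonoidHom := ⟨⟨z, hzK⟩, hzo, rfl⟩
      rw [h2, mem_bot] at h3
      have h4 : (⟨z, hzK⟩ : K) = 1 := e.injective (by rw [h3, map_one])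
      exact hz1 (congrArg Subtype.val h4)
  have h2 : Nat.card (R.subgroupOf K) ≤ 144 := by
    rwa [card_map_of_injective (f := e.toMonoidHom) e.injective] at h1
  have h3 : Nat.card (R.subgroupOf K) * R.relIndex K = Nat.card K := (R.subgroupOf K).card_mul_index
  have h4 : Nat.card K = 6048 := by rw [Nat.card_congr e.toEquiv, card_SU]
  rw [relIndex_eq hgen, h4] at h3
  by_contra h5
  push Not at h5
  have h6 : Nat.card (R.subgroupOf K) * R.index ≤ 144 * 41 := Nat.mul_le_mul h2 (by omega)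
  omega

/-- **`|C_M(T)| ≤ 2`** if `|M| ≤ 84` -/
theorem eq_of_fixed [Finite H] [Finite M] (h : InX H M K T A) (e : K ≃* SU33) (hM : Nat.card M ≤ 84) {x y : M}
    (hx : ∀ t ∈ T, t • x = x) (hy : ∀ t ∈ T, t • y = y) (hx1 : x ≠ 1) (hy1 : y ≠ 1) : x = y := by
  by_contra hxy
  -- the orbits are different
  have hdis : Disjoint (MulAction.orbit H x) (MulAction.orbit H y) := by
    rw [Set.disjoint_left]
    rintro _ ⟨a, rfl⟩ ⟨b, hb⟩
    apply hxy
    -- `x = g y`
    set g := a⁻¹ * b with hg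
    have hgy : g • y = x := by
      have hb' : b • y = a • x := hb
      rw [hg, mul_smul, hb', inv_smul_smul]
    set R := MulAction.stabilizer H x with hR
    have hT : T ≤ R := fun t ht => MulAction.mem_stabilizer_iff.2 (hx t ht)
    have hgT : T.map (MulAut.conj g).toMonoidHom ≤ R := by
      rintro _ ⟨t, ht, rfl⟩
      refine MulAction.mem_stabilizer_iff.2 ?_
      show (g * t * g⁻¹) • x = x
      rw [mul_smul, mul_smul, ← hgy, inv_smul_smul, hy t ht]
    have hi : (T.map (MulAut.conj g).toMonoidHom).index = T.index :=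
      index_map_of_bijective (f := (MulAut.conj g).toMonoidHom) (MulAut.conj g).bijective T
    obtain ⟨r, hr, h1, -⟩ := exists_conj_sylow (P := T.map (MulAut.conj g).toMonoidHom) (Q := T) (h.two.map _) h.two
      hgT hT (by rw [hi]; exact h.syl) h.syl
    have h2 : r * g ∈ T := by
      refine mem_of_normalizes h e fun t ht => ?_
      have h3 := h1 _ ⟨t, ht, rfl⟩
      have h4 : r * ((MulAut.conj g).toMonoidHom t) * r⁻¹ = r * g * t * (r * g)⁻¹ := by
        show r * (g * t * g⁻¹) * r⁻¹ = _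
        group
      rwa [h4] at h3
    have h3 := hy _ h2
    rw [mul_smul, hgy, MulAction.mem_stabilizer_iff.1 hr] at h3
    exact h3
  have hox := index_stabilizer h e hx hx1
  have hoy := index_stabilizer h e hy hy1
  rw [MulAction.index_stabilizer] at hox hoy
  have h1x : (1 : M) ∉ MulAction.orbit H x ∪ MulAction.orbit H y := by
    rintro (⟨a, ha⟩ | ⟨a, ha⟩)
    · exact hx1 ((smul_eq_iff_eq_inv_smul _ |>.1 ha).trans (smul_one _))
    · exact hy1 ((smul_eq_iff_eq_inv_smul _ |>.1 ha).trans (smul_one _))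
  have h2 : (MulAction.orbit H x ∪ MulAction.orbit H y).ncard =
      (MulAction.orbit H x).ncard + (MulAction.orbit H y).ncard :=
    Set.ncard_union_eq hdis (Set.toFinite _) (Set.toFinite _)
  have h3 : (insert (1 : M) (MulAction.orbit H x ∪ MulAction.orbit H y)).ncard =
      (MulAction.orbit H x ∪ MulAction.orbit H y).ncard + 1 := Set.ncard_insert_of_notMem h1x (Set.toFinite _)
  have h4 : (insert (1 : M) (MulAction.orbit H x ∪ MulAction.orbit H y)).ncard ≤ Nat.card M := by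
    rw [← Set.ncard_univ]
    exact Set.ncard_le_ncard (Set.subset_univ _) (Set.toFinite _)
  omega

end action

end Cfsg.Agent.Omega.KL.UThreeCount
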