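import Cfsg.Agent.Omega.KL.LieGen
import Cfsg.Agent.Omega.KL.UThreeCount
import Cfsg.Agent.Omega.ML.Ex.RowU33X
import Cfsg.Agent.Omega.ML.Ex.Two

/-!
# The end (B) of THEOREM KL*(q) with diagonal parabolics (helper233): `U₃(3)`, and both exits together

* `selfnorm_of_u33` : `K = U₃(3)` normal in `H`: `T ⊓ K` is self-normalising in `K`;
* **`fix_of_u33`** : a `T`-fixed point `x` such that all minimal parabolics over `T` which move `x` normalise `T ⊓ K` is
  fixed by `H`;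
* **`fix_of_exit`** : `K` of Lie type in characteristic two or `U₃(3)`;
* **`false_of_inX`** : no such `x ≠ 1` in a module on which `K` is irreducible and non-trivial.
-/

set_option autoImplicit false

namespace Cfsg.Agent.Omega.KL.LieGen

open Subgroup Cfsg Cfsg.Agent.ZN
open Cfsg.Agent.Classification.RTwo.UThreeThree (K9 card_k9 psuEquiv)
open Cfsg.Agent.OddHalf.Small.U33
open Cfsg.Agent.MinSimple.MinParabolic (IsMinPar le_of_forall)

universe u v

variable {H : Type u} [Group H] {K T : Subgroup H}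

/-- `K = U₃(3)` : a Sylow 2-subgroup of `K` is self-normalising -/
theorem selfnorm_of_u33 [Finite H] (norm : K.Normal) (two : IsPGroup 2 T) (syl : ¬ 2 ∣ T.index)
    (hK : Omega.ML.Rows.IsUThreeThree K) : K ⊓ normalizer ((T ⊓ K : Subgroup H) : Set H) ≤ T := by
  obtain ⟨F, _, _, hF, ⟨e0⟩⟩ := hK
  have hcard : Fintype.card F = Fintype.card K9 := by rw [hF, card_k9]
  let g : F ≃+* K9 := FiniteField.ringEquivOfCardEq hcard
  let e : K ≃* SU33 := e0.trans ((psuEquiv hF).trans (LieClassical.FieldTransfer.suCongr 3 3 g))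
  rintro k ⟨hk, hkn⟩
  have hi : ¬ 2 ∣ (T.subgroupOf K).index := Lib.SylowNormalInf.not_dvd_relIndex (two.toSylow syl) K
  have h2 : IsPGroup 2 ((T.subgroupOf K).map e.toMonoidHom) := (two.comap_subtype).map _
  have h3 : ¬ 2 ∣ ((T.subgroupOf K).map e.toMonoidHom).index := by
    have h4 : ((T.subgroupOf K).map e.toMonoidHom).index = (T.subgroupOf K).index := by
      rw [index_map_of_bijective (f := e.toMonoidHom) e.bijective]
    rw [h4]
    exact hi
  have h4 := UThreeCount.sylow_normalizer h2 h3 (n := e ⟨k, hk⟩) (by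
    rintro _ ⟨s, hs, rfl⟩
    refine ⟨⟨k, hk⟩ * s * ⟨k, hk⟩⁻¹, ?_, ?_⟩
    · have h5 : (s : H) ∈ T ⊓ K := ⟨hs, s.2⟩
      exact ((mem_normalizer_iff.1 hkn _).1 h5).1
    · show e (⟨k, hk⟩ * s * ⟨k, hk⟩⁻¹) = e ⟨k, hk⟩ * e s * (e ⟨k, hk⟩)⁻¹
      rw [map_mul, map_mul, map_inv])
  obtain ⟨s, hs, hse⟩ := h4
  have h5 : s = ⟨k, hk⟩ := e.injective hse
  rw [h5] at hs
  exact hs

variable {M : Type v} [MulAction H M] {x : M}

/-- **the end of (B), `K = U₃(3)`** -/
theorem fix_of_u33 [Finite H] (norm : K.Normal) (KT : K ⊔ T = ⊤) (two : IsPGroup 2 T)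
    (syl : ¬ 2 ∣ T.index) (hK : Omega.ML.Rows.IsUThreeThree K) (tx : ∀ t ∈ T, t • x = x)
    (gen : ∀ P : Subgroup H, IsMinPar T P → (∃ p ∈ P, p • x ≠ x) →
      P ≤ normalizer ((T ⊓ K : Subgroup H) : Set H)) (h : H) : h • x = x :=
  fix_of_selfnorm norm KT (selfnorm_of_u33 norm two syl hK) tx gen h

/-- **the end of (B), both exits of `ExitN`** -/
theorem fix_of_exit [Finite H] (norm : K.Normal) (simple : IsSimpleGroup K) (KT : K ⊔ T = ⊤) (two : IsPGroup 2 T)
    (syl : ¬ 2 ∣ T.index) (hK : IsLieTypeChar 2 K ∨ Omega.ML.Rows.IsUThreeThree K) (tx : ∀ t ∈ T, t • x = x)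
    (gen : ∀ P : Subgroup H, IsMinPar T P → (∃ p ∈ P, p • x ≠ x) →
      P ≤ normalizer ((T ⊓ K : Subgroup H) : Set H)) : ∀ k ∈ K, k • x = x := by
  rcases hK with hK | hK
  · exact fix_of_lie norm simple KT two syl hK tx gen
  · exact fun k _ => fix_of_u33 norm KT two syl hK tx gen k

/-- **the end of (B) for one component** -/
theorem false_of_inX {H : Type u} [Group H] [Finite H] {M : Type v} [Group M] [MulDistribMulAction H M]
    {K T A : Subgroup H} {x : M} (h : Omega.ML.Ex.InX H M K T A)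
    (hK : IsLieTypeChar 2 K ∨ Omega.ML.Rows.IsUThreeThree K) (x1 : x ≠ 1) (tx : ∀ t ∈ T, t • x = x)
    (gen : ∀ P : Subgroup H, IsMinPar T P → (∃ p ∈ P, p • x ≠ x) →
      P ≤ normalizer ((T ⊓ K : Subgroup H) : Set H)) : False := by
  have h1 := fix_of_exit h.norm h.simple h.gen h.two h.syl hK tx gen
  have hN := h.norm
  have h2 : ∀ g : H, g • x = x := by
    intro g
    have h3 : g ∈ K ⊔ T := h.gen ▸ mem_top g
    obtain ⟨k, hk, t, ht, rfl⟩ := mem_sup_of_normal_left.1 h3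
    rw [mul_smul, tx t ht, h1 k hk]
  -- `⟨x⟩` is a submodule
  have h4 : ∀ g : H, ∀ w ∈ zpowers x, g • w ∈ zpowers x := by
    rintro g w ⟨n, rfl⟩
    refine ⟨n, ?_⟩
    change x ^ n = g • (x ^ n)
    rw [smul_zpow', h2 g]
  have hs := h.simple
  rcases h.irr _ h4 with h5 | h5
  · exact x1 (by rwa [zpowers_eq_bot] at h5)
  · -- `M = ⟨x⟩` is centralised by `K`
    obtain ⟨k, hk⟩ := exists_ne (1 : K)
    refine hk (Subtype.ext (h.faith k fun m => ?_))
    have h6 : m ∈ zpowers x := h5 ▸ mem_top m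
    obtain ⟨n, rfl⟩ := h6
    change (k : H) • (x ^ n) = x ^ n
    rw [smul_zpow', h2]

end Cfsg.Agent.Omega.KL.LieGen
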