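import Cfsg.Agent.Omega.KL.LieTwo
import Cfsg.Agent.Omega.CR.BlK

/-!
# LEMMA CRX: one `T`-fixed vector when all minimal parabolics over `T` moving `x` have the same `⟨x ^ R⟩` (helper178)

`H = K T`, `K` normal, simple, with a split (B,N)-pair of characteristic two (`T` may contain field and graph
automorphisms), `T` a Sylow `2`-subgroup, `M` irreducible for `K`, `x` fixed by `T` and by `N(T)`, moved by `H`;
all minimal parabolics over `T` moving `x` normalise `V ∋ x`, and `V ≤ ⟨x ^ P⟩`. Then every vector of `M` fixed by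
`T ⊓ K` is `1` or `x`. Nothing is assumed on `|V|`, nothing on a second fixed vector.

* `Uni T V x` : the hypotheses;
* `fixS` : the stabiliser of the chamber fixes `x`;
* **`fixed_of_hact`**, **`fixed_of_split`**, **`fixed_of_lie`** : a vector fixed by `T ⊓ K` is `1` or `x`.
-/

set_option autoImplicit false
set_option linter.unusedSectionVars false

namespace Cfsg.Agent.Omega.KL.LieUni

open Cfsg.Agent.Tits.Core Cfsg.Agent.Tits.Core.Bldg Cfsg.Agent.Tits.Exchange Cfsg.Agent.Tits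
open Cfsg.Agent.FixBN Cfsg.Agent.FixBN.Cox Cfsg.Agent.UGT.U2.FOne Cfsg.Agent.Omega.ML.LieRow
open Cfsg.Agent.MinSimple.MinParabolic (IsMinPar le_of_forall)
open Cfsg.Agent.Omega.ML.MinFrame (orb)
open Cfsg.Agent.Omega.KL.LieTwo

universe u v

/-- the hypotheses of LEMMA CRX on `x` -/
structure Uni {H : Type u} [Group H] {M : Type v} [Group M] [MulDistribMulAction H M] (T : Subgroup H)
    (V : Subgroup M) (x : M) : Prop where
  sq : ∀ m : M, m * m = 1
  two : IsPGroup 2 T
  syl : ¬ 2 ∣ T.index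
  tx : T ≤ MulAction.stabilizer H x
  x1 : x ≠ 1
  xV : x ∈ V
  nx : ∀ g ∈ Subgroup.normalizer (T : Set H), g • x = x
  mv : ∃ g : H, g • x ≠ x
  uni : ∀ P, IsMinPar T P → (∃ p ∈ P, p • x ≠ x) → (∀ p ∈ P, ∀ w ∈ V, p • w ∈ V) ∧ V ≤ orb P x

variable {I : Type*} {Mx : CoxeterMatrix I} {W : Type*} [Group W] {cs : CoxeterSystem Mx W} {C : Type*}
  {Δ : Bldg cs C}

local prefix:100 "ℓ" => cs.length

variable {H : Type u} [Group H] {K : Subgroup H} [MulAction K C] (A : HAct Δ K)
  [F : OppRes.Cox cs] (S : Sys Δ K 2)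

section Main

variable [K.Normal] [Nonempty C] {T : Subgroup H} (hKT : K ⊔ T = ⊤)
variable {c : C} (hc : ∀ t ∈ T, A.θ t c = c) (hUc : S.U c = T.subgroupOf K)
variable {M : Type v} [Group M] [MulDistribMulAction H M] {V : Subgroup M} {x : M} (h : Uni T V x)

include A hKT hc hUc h in
/-- **`U c` moves `V`** -/
theorem exists_move [IsSimpleGroup K] [Nonempty I] (hth : Δ.Thick) : ∃ k ∈ S.U c, ∃ w ∈ V, (k : H) • w ≠ w := by
  by_contra hcon
  push Not at hcon
  -- some `RO` moves `x`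
  set X : Subgroup K := (MulAction.stabilizer H x).subgroupOf K with hX
  have hUX : S.U c ≤ X := by
    rw [hUc]
    exact fun k hk => h.tx hk
  have hXt : X ≠ ⊤ := by
    intro hXt
    obtain ⟨g, hg⟩ := h.mv
    apply hg
    obtain ⟨k, t, ht, rfl⟩ := exists_kt A S hKT g
    rw [mul_smul, h.tx ht]
    have h1 : k ∈ X := by rw [hXt]; trivial
    exact h1
  obtain ⟨i, hi⟩ : ∃ i, i ∉ tp Δ X c := by
    by_contra h1
    push Not at h1
    exact hXt (eq_top_of_tp S hth hUX (Set.eq_univ_iff_forall.2 h1))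
  have hmv : ¬ ∀ p ∈ RO Δ S T (Orb A T i) c, p • x = x := by
    intro h1
    apply hi
    refine mem_tp S hth (O := Orb A T i) ?_ (mem_Orb A i)
    intro d hd k hk
    exact h1 k (U_le_RO S hd hk)
  have hmin : IsMinPar T (RO Δ S T (Orb A T i) c) := by
    refine isMinPar A S hKT hc hUc hth i ?_
    intro h1
    exact hmv fun p hp => h.nx p (h1 hp)
  have hV : ∀ p ∈ RO Δ S T (Orb A T i) c, ∀ w ∈ V, p • w ∈ V := by
    have h2 := hmv
    push Not at h2
    exact (h.uni _ hmin h2).1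
  apply hmv
  have hle : RO Δ S T (Orb A T i) c ≤ MulAction.stabilizer H x := by
    refine RO_le S (fun t ht => h.tx ht) ?_
    intro d hd k hk
    have hU : S.U c ≤ (RO Δ S T (Orb A T i) c).subgroupOf K := fun k hk => by
      rw [Subgroup.mem_subgroupOf]
      exact U_le_RO S (Δ.self_mem_Res _ c) hk
    obtain ⟨g, hg, rfl⟩ := exists_RO S hth (T := T) hd hU
    have h3 : g * (g⁻¹ * k * g) * g⁻¹ ∈ S.U (g • c) := by
      have : g * (g⁻¹ * k * g) * g⁻¹ = k := by group
      rwa [this]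
    have h4 := hcon _ ((S.conj_mem_U_iff).1 h3) _ (hV _ (inv_mem hg) x h.xV)
    have h5 : (k : H) • x = (g : H) • ((g⁻¹ * k * g : K) : H) • (g : H)⁻¹ • x := by
      rw [smul_smul, smul_smul]
      congr 1
      push_cast
      group
    rw [MulAction.mem_stabilizer_iff, h5, h4, smul_inv_smul]
  exact fun p hp => hle hp

include A hKT hc hUc h in
/-- **the stabiliser of `c` fixes `x`** -/
theorem fixS [Finite H] [IsSimpleGroup K] [Nonempty I] (hth : Δ.Thick) {g : H} (hg : A.θ g c = c) :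
    g • x = x := by
  obtain ⟨k₀, hk₀, w₀, hw₀, hne⟩ := exists_move A S hKT hc hUc h hth
  let B : Subgroup H :=
    { carrier := {g | A.θ g c = c}
      one_mem' := A.θ_one c
      mul_mem' := fun {a b} (ha : A.θ a c = c) (hb : A.θ b c = c) => by
        change A.θ (a * b) c = c
        rw [A.θ_mul, hb, ha]
      inv_mem' := fun {a} (ha : A.θ a c = c) => by
        change A.θ a⁻¹ c = c
        have := A.θ_inv_θ a c
        rwa [ha] at this }
  have hB : B ≤ MulAction.stabilizer H x := by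
    refine le_of_forall (S := T) (fun t ht => hc t ht) (fun g hg => h.nx g hg.2) ?_
    intro P hP hPB
    by_contra hPx
    have hmv : ∃ p ∈ P, p • x ≠ x := by
      by_contra h1
      push Not at h1
      exact hPx fun p hp => h1 p hp
    -- `U c` fixes `x ^ P`, so `V`
    apply hne
    have h1 : orb P x ≤ (FixedPoints.subgroup ((S.U c).map K.subtype) M) := by
      rw [orb, Subgroup.closure_le]
      rintro _ ⟨p, hp, rfl⟩
      rintro ⟨_, k, hk, rfl⟩
      change (k : H) • p • x = p • x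
      have h3 := conj_mem_U A S p⁻¹ hk
      have h3' : A.θ p⁻¹ c = c := B.inv_mem (hPB hp)
      rw [h3', hUc] at h3
      have h4 : ((MulAut.conjNormal p⁻¹ k : K) : H) • x = x := h.tx h3
      rw [MulAut.conjNormal_apply, inv_inv] at h4
      have h5 : (k : H) • p • x = p • (p⁻¹ * (k : H) * p) • x := by
        rw [smul_smul, smul_smul]
        congr 1
        group
      rw [h5, h4]
    exact h1 ((h.uni P hP hmv).2 hw₀) ⟨k₀, k₀, hk₀, rfl⟩
  exact hB hg

include A hKT hc hUc h in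
/-- **a vector fixed by `U c` is `1` or `x`** -/
theorem fixed_of_hact [Finite H] [Finite M] [IsSimpleGroup K] [Nonempty I] (hth : Δ.Thick) (hsp : HasSplit 2 K)
    (irr : ∀ N : Subgroup M, (∀ k ∈ K, ∀ w ∈ N, k • w ∈ N) → N = ⊥ ∨ N = ⊤) (hi : ¬ 2 ∣ (T.subgroupOf K).index)
    {y : M} (hy : ∀ t ∈ T ⊓ K, t • y = y) : y = 1 ∨ y = x := by
  have h1 : ∀ m ∈ Subgroup.zpowers x, m = 1 ∨ m = x := by
    rintro m ⟨n, rfl⟩
    change x ^ n = 1 ∨ x ^ n = x
    rcases Int.even_or_odd' n with ⟨k, rfl | rfl⟩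
    · left
      rw [zpow_mul, zpow_ofNat, pow_two, h.sq, one_zpow]
    · right
      rw [zpow_add, zpow_mul, zpow_ofNat, pow_two, h.sq, one_zpow, one_mul, zpow_one]
  refine h1 y (CR.Bl.cr_split hsp (S := T.subgroupOf K) (h.two.comap_of_injective _ K.subtype_injective) hi h.sq
    (fun N hN => irr N fun k hk w hw => hN ⟨k, hk⟩ w hw) (W := Subgroup.zpowers x) ?_ ?_ ?_ y ?_)
  · rintro w hw ⟨s, hs⟩ hsT
    rcases h1 w hw with rfl | rfl
    · exact smul_one _
    · exact h.tx (Subgroup.mem_subgroupOf.1 hsT)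
  · intro n hn w hw
    have h2 : n • c = c := by
      refine U_inj hth (S := S) ?_
      ext u
      have h3 := (Subgroup.mem_normalizer_iff.1 (inv_mem hn)) u
      rw [inv_inv] at h3
      rw [hUc, h3, ← hUc, ← S.conj_mem_U_iff (g := n) (x := c) (u := n⁻¹ * u * n)]
      have : n * (n⁻¹ * u * n) * n⁻¹ = u := by group
      rw [this]
    have h4 : (n : H) • x = x := fixS A S hKT hc hUc h hth (by rw [A.θ_K, h2])
    rcases h1 w hw with rfl | rfl
    · rw [smul_one]; exact one_mem _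
    · change (n : H) • w ∈ _
      rw [h4]; exact hw
  · exact fun h2 => h.x1 (Subgroup.zpowers_eq_bot.1 h2)
  · rintro ⟨s, hs⟩ hsT
    exact hy s ⟨hsT, hs⟩

end Main

end Cfsg.Agent.Omega.KL.LieUni

namespace Cfsg.Agent.Omega.KL.LieUni

open Subgroup Cfsg Cfsg.Agent.ZN Cfsg.Agent.Omega.ML.Rows Cfsg.Agent.Omega.ML.LieRow Cfsg.Agent.UGT.U2.FOne
open Cfsg.Agent.Tits.Core Cfsg.Agent.Tits.OfBN Cfsg.Agent.Schreier.BNSch Cfsg.Agent.FixBN

universe u v

/-- **LEMMA CRX for a split (B,N)-pair of characteristic two**: a vector of `M` fixed by `T ⊓ K` is `1` or `x`. -/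
theorem fixed_of_split {H : Type u} [Group H] [Finite H] {M : Type v} [Group M] [Finite M] [MulDistribMulAction H M]
    {K T : Subgroup H} {V : Subgroup M} {x : M} (h : Uni T V x)
    (irr : ∀ N : Subgroup M, (∀ k ∈ K, ∀ w ∈ N, k • w ∈ N) → N = ⊥ ∨ N = ⊤) (norm : K.Normal)
    (simple : IsSimpleGroup K) (KT : K ⊔ T = ⊤) (hs : HasSplit 2 K) {y : M} (hy : ∀ t ∈ T ⊓ K, t • y = y) :
    y = 1 ∨ y = x := by
  have : Fact (Nat.Prime 2) := ⟨Nat.prime_two⟩
  have hi : ¬ 2 ∣ (T.subgroupOf K).index := Lib.SylowNormalInf.not_dvd_relIndex (h.two.toSylow h.syl) K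
  have hs0 := hs
  obtain ⟨P, U, hne, hsp⟩ := hs
  have hN : ((P.B ⊓ P.N).subgroupOf P.N).Normal := normal_subgroupOf P
  obtain ⟨Mx, cs, hcs⟩ := S0320.result P
  have hI : Finite P.S := OfBN.finite_I (Equiv.refl P.S)
  have hIn : Nonempty P.S := hne.to_subtype
  have S := OfBN.sys (Equiv.refl P.S) cs hcs hsp
  have hth := thick P (Equiv.refl P.S) cs hcs
  obtain ⟨A⟩ := exists_hact S hth (fun τ => UGT.U2.FOne.exists_mv hsp (Equiv.refl P.S) cs hcs τ)
  obtain ⟨c, hc, hUc⟩ := exists_chamber A S hth h.two h.syl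
  have hC : Nonempty (K ⧸ P.B) := ⟨c⟩
  exact fixed_of_hact A S KT hc hUc h hth hs0 irr hi hy

/-- **LEMMA CRX for groups of Lie type in characteristic two**: a vector of `M` fixed by `T ⊓ K` is `1` or `x`. -/
theorem fixed_of_lie {H : Type u} [Group H] [Finite H] {M : Type v} [Group M] [Finite M] [MulDistribMulAction H M]
    {K T : Subgroup H} {V : Subgroup M} {x : M} (h : Uni T V x)
    (irr : ∀ N : Subgroup M, (∀ k ∈ K, ∀ w ∈ N, k • w ∈ N) → N = ⊥ ∨ N = ⊤) (norm : K.Normal)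
    (simple : IsSimpleGroup K) (KT : K ⊔ T = ⊤) (hK : IsLieTypeChar 2 K) {y : M} (hy : ∀ t ∈ T ⊓ K, t • y = y) :
    y = 1 ∨ y = x :=
  fixed_of_split h irr norm simple KT (hasSplit_of_lie hK) hy

/-- the same for the vectors fixed by `T` -/
theorem fixed_T {H : Type u} [Group H] [Finite H] {M : Type v} [Group M] [Finite M] [MulDistribMulAction H M]
    {K T : Subgroup H} {V : Subgroup M} {x : M} (h : Uni T V x)
    (irr : ∀ N : Subgroup M, (∀ k ∈ K, ∀ w ∈ N, k • w ∈ N) → N = ⊥ ∨ N = ⊤) (norm : K.Normal)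
    (simple : IsSimpleGroup K) (KT : K ⊔ T = ⊤) (hK : IsLieTypeChar 2 K) {y : M}
    (hy : T ≤ MulAction.stabilizer H y) : y = 1 ∨ y = x :=
  fixed_of_lie h irr norm simple KT hK fun _ ht => hy ht.1

end Cfsg.Agent.Omega.KL.LieUni
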