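import Cfsg.Agent.Omega.KL.Def
import Cfsg.Agent.Omega.ML.MinOut

/-!
# THEOREM KL: sections (helper529)

`R ≤ H` acts on the subgroup `e(M')` of `M` like the group `H' = π(R)` acts on `M'`.

* `Mor R π e` : this situation;  `im X = π(X ∩ R)`, `pre X' = π⁻¹(X')`;
* `Mor.exists_minPar` : every `T'`-minimal `P'`, `T' = im T`, is the image of a `T`-minimal `P ≤ R`;
* `Mor.exists_normalizer` : `N(T')` is the image of `N_R(T)`, `T` a Sylow 2-subgroup of `R`;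
* `Mor.o2_le` : `im (O₂(X)) ≤ O₂(im X)`;  `stab`, `orb`, `cv`.
-/

set_option autoImplicit false
set_option linter.dupNamespace false

namespace Cfsg.Agent.Omega.KL.Mor

open Subgroup Cfsg Cfsg.Agent.ZN Cfsg.Agent.ClassTwoFusion.Quad Cfsg.Agent.Omega.ML.MinFrame
open Cfsg.Agent.MinSimple.MinParabolic (IsMinPar le_of_forall)
open Cfsg.Agent.MinSimple.VModule (o2_isPGroup o2_le le_o2 le_normalizer_o2 o2_le_of_sylow)

variable {H : Type*} [Group H] {H' : Type*} [Group H']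

/-- the image of `X ∩ R` -/
def im {R : Subgroup H} (π : R →* H') (X : Subgroup H) : Subgroup H' := (X.subgroupOf R).map π

/-- the preimage -/
def pre {R : Subgroup H} (π : R →* H') (X' : Subgroup H') : Subgroup H := (X'.comap π).map R.subtype

variable {R : Subgroup H} {π : R →* H'}

theorem mem_im {X : Subgroup H} {x' : H'} : x' ∈ im π X ↔ ∃ x, ∃ hx : x ∈ R, x ∈ X ∧ π ⟨x, hx⟩ = x' := by
  constructor
  · rintro ⟨⟨x, hx⟩, hx', rfl⟩
    exact ⟨x, hx, hx', rfl⟩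
  · rintro ⟨x, hx, hx', rfl⟩
    exact ⟨⟨x, hx⟩, hx', rfl⟩

theorem mem_im_of {X : Subgroup H} {x : H} (hx : x ∈ R) (h : x ∈ X) : π ⟨x, hx⟩ ∈ im π X := mem_im.2 ⟨x, hx, h, rfl⟩

theorem mem_pre {X' : Subgroup H'} {x : H} : x ∈ pre π X' ↔ ∃ hx : x ∈ R, π ⟨x, hx⟩ ∈ X' := by
  constructor
  · rintro ⟨⟨x, hx⟩, hx', rfl⟩
    exact ⟨hx, hx'⟩
  · rintro ⟨hx, hx'⟩
    exact ⟨⟨x, hx⟩, hx', rfl⟩

theorem pre_le {X' : Subgroup H'} : pre π X' ≤ R := fun _ hx => (mem_pre.1 hx).1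

theorem im_mono {X Y : Subgroup H} (h : X ≤ Y) : im π X ≤ im π Y := by
  intro x' hx'
  obtain ⟨x, hx, hx1, rfl⟩ := mem_im.1 hx'
  exact mem_im_of hx (h hx1)

theorem pre_mono {X Y : Subgroup H'} (h : X ≤ Y) : pre π X ≤ pre π Y := by
  intro x hx
  obtain ⟨hx, hx1⟩ := mem_pre.1 hx
  exact mem_pre.2 ⟨hx, h hx1⟩

theorem im_pre (hπ : Function.Surjective π) (X' : Subgroup H') : im π (pre π X') = X' := by
  ext x'
  rw [mem_im]
  constructor
  · rintro ⟨x, hx, hx1, rfl⟩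
    exact (mem_pre.1 hx1).2
  · intro hx'
    obtain ⟨⟨x, hx⟩, rfl⟩ := hπ x'
    exact ⟨x, hx, mem_pre.2 ⟨hx, hx'⟩, rfl⟩

theorem le_pre_im {X : Subgroup H} (h : X ≤ R) : X ≤ pre π (im π X) := fun _ hx =>
  mem_pre.2 ⟨h hx, mem_im_of (h hx) hx⟩

theorem le_pre_iff {X : Subgroup H} {X' : Subgroup H'} (h : X ≤ R) : X ≤ pre π X' ↔ im π X ≤ X' := by
  constructor
  · intro h1 x' hx'
    obtain ⟨x, hx, hx1, rfl⟩ := mem_im.1 hx'
    exact (mem_pre.1 (h1 hx1)).2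
  · intro h1
    exact (le_pre_im h).trans (pre_mono h1)

theorem im_top (hπ : Function.Surjective π) : im π R = ⊤ := by
  rw [eq_top_iff]
  intro x' _
  obtain ⟨⟨x, hx⟩, rfl⟩ := hπ x'
  exact mem_im_of hx hx

theorem pre_top : pre π (⊤ : Subgroup H') = R := le_antisymm pre_le fun _ hx => mem_pre.2 ⟨hx, mem_top _⟩

theorem pre_ne {X' : Subgroup H'} (hπ : Function.Surjective π) (h : X' ≠ ⊤) : pre π X' ≠ R := by
  intro h1
  apply h
  rw [← im_pre hπ X', h1, im_top hπ]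

theorem conj_mem_im {X Y : Subgroup H} (hn : ∀ g ∈ R, g ∈ Y → ∀ x ∈ X, g * x * g⁻¹ ∈ X) {g' x' : H'}
    (hg : g' ∈ im π Y) (hx : x' ∈ im π X) : g' * x' * g'⁻¹ ∈ im π X := by
  obtain ⟨g, hgR, hgY, rfl⟩ := mem_im.1 hg
  obtain ⟨x, hxR, hxX, rfl⟩ := mem_im.1 hx
  rw [← map_mul, ← map_inv, ← map_mul]
  exact mem_im_of (R.mul_mem (R.mul_mem hgR hxR) (R.inv_mem hgR)) (hn g hgR hgY x hxX)

theorem im_isPGroup {X : Subgroup H} (h : IsPGroup 2 X) : IsPGroup 2 (im π X) := h.comap_subtype.map _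

/-- `O₂` -/
theorem im_o2_le {X : Subgroup H} : im π (o2 X) ≤ o2 (im π X) := by
  refine le_o2 (im_mono (o2_le X)) (im_isPGroup (o2_isPGroup X)) (le_normalizer_of fun g hg x hx => ?_)
  exact conj_mem_im (fun g _ hg x hx => conj_mem_of_le (le_normalizer_o2 X) hg hx) hg hx

/-- a normal 2-subgroup `Q` of `Y` -/
theorem le_o2_im {A Q Y : Subgroup H} (hA : A ≤ Q) (hQ : Q ≤ Y) (h2 : IsPGroup 2 Q)
    (hn : ∀ g ∈ R, g ∈ Y → ∀ x ∈ Q, g * x * g⁻¹ ∈ Q) : im π A ≤ o2 (im π Y) :=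
  (im_mono hA).trans (le_o2 (im_mono hQ) (im_isPGroup h2) (le_normalizer_of fun _ hg _ hx => conj_mem_im hn hg hx))

theorem im_index [Finite H] {T : Subgroup H} (hπ : Function.Surjective π) (hT : ¬ 2 ∣ T.relIndex R) :
    ¬ 2 ∣ (im π T).index := by
  intro h2
  apply hT
  have h3 : (im π T).index ∣ (T.subgroupOf R).index := index_map_dvd _ hπ
  exact h2.trans h3

theorem card_im {B : Subgroup H} (hB : B ≤ R) (hinj : ∀ b, ∀ hb : b ∈ B, π ⟨b, hB hb⟩ = 1 → b = 1) :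
    Nat.card (im π B) = Nat.card B := by
  symm
  refine Nat.card_congr (Equiv.ofBijective
    (fun b : B => (⟨π ⟨b, hB b.2⟩, mem_im_of (hB b.2) b.2⟩ : im π B)) ⟨?_, ?_⟩)
  · intro b c hbc
    have h1 : π ⟨b, hB b.2⟩ = π ⟨c, hB c.2⟩ := congrArg Subtype.val hbc
    have h2 : π ⟨b * c⁻¹, hB (B.mul_mem b.2 (B.inv_mem c.2))⟩ = 1 := by
      have h3 : (⟨b * c⁻¹, hB (B.mul_mem b.2 (B.inv_mem c.2))⟩ : R) = ⟨b, hB b.2⟩ * ⟨c, hB c.2⟩⁻¹ := rfl
      rw [h3, map_mul, map_inv, h1, mul_inv_cancel]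
    have h3 := hinj _ (B.mul_mem b.2 (B.inv_mem c.2)) h2
    exact Subtype.ext (mul_inv_eq_one.1 h3)
  · rintro ⟨x', hx'⟩
    obtain ⟨x, hx, hx1, rfl⟩ := mem_im.1 hx'
    exact ⟨⟨x, hx1⟩, rfl⟩

/-- **Minimal parabolics lift.** -/
theorem exists_minPar [Finite H] (hπ : Function.Surjective π) {T : Subgroup H} (hT : T ≤ R) {P' : Subgroup H'}
    (h : IsMinPar (im π T) P') : ∃ P : Subgroup H, IsMinPar T P ∧ P ≤ R ∧ im π P = P' := by
  obtain ⟨M', hM', hmax⟩ := h.exists_max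
  have key : ∀ X : Subgroup H, X ≤ pre π P' → T ≤ X → ¬ X ≤ pre π M' → im π X = P' := by
    intro X hX hTX hXM
    by_contra hne
    have h1 : im π X ≤ P' := (le_pre_iff (hX.trans pre_le)).1 hX
    exact hXM ((le_pre_iff (hX.trans pre_le)).2 (hmax _ (im_mono hTX) (lt_of_le_of_ne h1 hne)))
  have hTP : T ≤ pre π P' := (le_pre_iff hT).2 h.le
  by_contra hcon
  push Not at hcon
  have h1 : pre π P' ≤ pre π M' := by
    refine le_of_forall hTP ?_ ?_
    · by_contra h2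
      have h3 : T ≤ pre π P' ⊓ normalizer (T : Set H) := le_inf hTP le_normalizer
      have h4 := key _ inf_le_left h3 h2
      apply h.not_le
      rw [← h4]
      refine le_normalizer_of fun g hg x hx => conj_mem_im (fun g _ hg x hx => ?_) hg hx
      exact (mem_normalizer_iff.1 hg.2 x).1 hx
    · intro P hP hPP
      by_contra h2
      exact hcon P hP (hPP.trans pre_le) (key P hPP hP.le h2)
  have h2 : P' ≤ M' := by
    rw [← im_pre hπ P', ← im_pre hπ M']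
    exact im_mono h1
  exact absurd hM' (not_lt_of_ge h2)

/-- **The normalizer of the Sylow subgroup lifts.** -/
theorem exists_normalizer [Finite H] (hπ : Function.Surjective π) {T : Subgroup H} (hT2 : IsPGroup 2 T) (hTR : T ≤ R)
    (hTi : ¬ 2 ∣ T.relIndex R) {g' : H'} (hg' : g' ∈ normalizer (im π T : Set H')) :
    ∃ g, ∃ hg : g ∈ R, g ∈ normalizer (T : Set H) ∧ π ⟨g, hg⟩ = g' := by
  have hTE : T ≤ pre π (im π T) := le_pre_im hTR
  have hTX : T ≤ pre π (normalizer (im π T : Set H')) := hTE.trans (pre_mono le_normalizer)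
  have h1 := MinSimple.Basic.frattini (L := pre π (im π T)) hTX hT2
    (fun h2 => hTi (h2.trans (Dvd.intro _ (relIndex_mul_relIndex T _ R hTX pre_le))))
    (le_normalizer_of fun g hg x hx => by
      obtain ⟨hgR, hg1⟩ := mem_pre.1 hg
      obtain ⟨hxR, hx1⟩ := mem_pre.1 hx
      refine mem_pre.2 ⟨R.mul_mem (R.mul_mem hgR hxR) (R.inv_mem hgR), ?_⟩
      have h2 : (⟨g * x * g⁻¹, R.mul_mem (R.mul_mem hgR hxR) (R.inv_mem hgR)⟩ : R) = ⟨g, hgR⟩ * ⟨x, hxR⟩ * ⟨g, hgR⟩⁻¹ :=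
        rfl
      rw [h2, map_mul, map_mul, map_inv]
      exact (mem_normalizer_iff.1 hg1 _).1 hx1)
  rw [inf_eq_left.2 hTE] at h1
  have h2 : pre π (normalizer (im π T : Set H')) ≤ pre π (im π (normalizer (T : Set H))) := by
    refine h1.trans (sup_le (pre_mono (im_mono le_normalizer)) ?_)
    rintro x ⟨hx, hx1⟩
    exact mem_pre.2 ⟨(mem_pre.1 hx).1, mem_im_of _ hx1⟩
  obtain ⟨⟨n, hn⟩, rfl⟩ := hπ g'
  obtain ⟨hn', h3⟩ := mem_pre.1 (h2 (mem_pre.2 ⟨hn, hg'⟩))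
  obtain ⟨g, hg, hg1, hg2⟩ := mem_im.1 h3
  exact ⟨g, hg, hg1, hg2⟩

/-! ### The module -/

variable {M : Type*} [Group M] [MulDistribMulAction H M] {M' : Type*} [Group M'] [MulDistribMulAction H' M']

/-- `R` acts on `e(M')` like `H' = π(R)` on `M'` -/
structure Mor (R : Subgroup H) (π : R →* H') (e : M' →* M) : Prop where
  surj : Function.Surjective π
  inj : Function.Injective e
  eq : ∀ (r : R) (m' : M'), e (π r • m') = (r : H) • e m'

namespace Mor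

variable {e : M' →* M}

theorem sm (D : Mor R π e) {r : H} (hr : r ∈ R) (m' : M') : e (π ⟨r, hr⟩ • m') = r • e m' := D.eq ⟨r, hr⟩ m'

theorem smul_eq_iff (D : Mor R π e) {r : H} (hr : r ∈ R) {m' n' : M'} : π ⟨r, hr⟩ • m' = n' ↔ r • e m' = e n' := by
  rw [← D.sm hr]
  exact D.inj.eq_iff.symm

theorem orb_map (D : Mor R π e) (X : Subgroup H) (m' : M') :
    (orb (im π X) m').map e = orb (X ⊓ R) (e m') := by
  apply le_antisymm
  · rw [map_le_iff_le_comap]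
    refine orb_le fun g' hg' => ?_
    obtain ⟨g, hg, hgX, rfl⟩ := mem_im.1 hg'
    rw [mem_comap, D.sm hg]
    exact smul_mem_orb_self ⟨hgX, hg⟩
  · exact orb_le fun g hg => ⟨π ⟨g, hg.2⟩ • m', smul_mem_orb_self (mem_im_of hg.2 hg.1), D.sm hg.2 m'⟩

theorem cv_comap (D : Mor R π e) {A : Subgroup H} (hA : A ≤ R) :
    (cv M (A : Set H)).comap e = cv M' ((im π A : Subgroup H') : Set H') := by
  ext m'
  constructor
  · intro h1 a' ha'
    obtain ⟨a, haR, ha, rfl⟩ := mem_im.1 ha'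
    exact (D.smul_eq_iff haR).2 (h1 a ha)
  · intro h1 a ha
    exact (D.smul_eq_iff (hA ha)).1 (h1 _ (mem_im_of (hA ha) ha))

/-- indices in `M'` -/
theorem index_cv (D : Mor R π e) {A : Subgroup H} (hA : A ≤ R) :
    (cv M' ((im π A : Subgroup H') : Set H')).index = (cv M (A : Set H)).relIndex e.range := by
  rw [← D.cv_comap hA, index_comap]

theorem stab (D : Mor R π e) (m' : M') : MulAction.stabilizer H' m' = im π (MulAction.stabilizer H (e m')) := by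
  ext g'
  obtain ⟨⟨g, hg⟩, rfl⟩ := D.surj g'
  rw [mem_im, MulAction.mem_stabilizer_iff]
  constructor
  · intro h1
    exact ⟨g, hg, (D.smul_eq_iff hg).1 h1, rfl⟩
  · rintro ⟨k, hk, hk1, hk2⟩
    rw [← hk2]
    exact (D.smul_eq_iff hk).2 hk1

end Mor

end Cfsg.Agent.Omega.KL.Mor
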