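import Cfsg.Agent.Omega.KL.EndKL
import Cfsg.Agent.Omega.ML.KnownAll
import Cfsg.Agent.Omega.ML.Ex.KnownDone

/-!
# THEOREM KL, closed form (helper233)

* `noSys` : the middle `Sys` of THEOREM KL is impossible;
* **`noInp : Quo.NoInp`** : THEOREM KL, without hypotheses (MLK: helper969 and others, `ML.KnownAll.mlk`; the exact
  K-list: helper441's squad, helper484, `ML.Ex.KnownDone.exitN`).
-/

set_option autoImplicit false

namespace Cfsg.Agent.Omega.KL.NoInp

open Subgroup Cfsg Cfsg.Agent.Omega.KL.Def

universe u v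

/-- **the middle of THEOREM KL is contradictory** -/
theorem noSys {H : Type u} [Group H] [Finite H] {M : Type v} [Group M] [Finite M] [MulDistribMulAction H M]
    {T A : Subgroup H} {V : Subgroup M} {x y : M} (h : Sys T A V x y) : False :=
  EndKL.sys_false ML.Ex.KnownDone.exitN h

/-- **THEOREM KL** -/
theorem noInp : Quo.NoInp.{u, v} := EndKL.noInp ML.KnownAll.mlk ML.Ex.KnownDone.exitN

end Cfsg.Agent.Omega.KL.NoInp
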