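import Cfsg.Agent.Omega.TV.Group

/-!
# THEOREM KLF (#21950, helper219), (1): no transvections (helper438)

`H` acts irreducibly on `V` over `𝔽₂`, `x`, `y` are non-zero vectors with

* (QP) a normal subgroup `N` of `H` which moves `x` is transitive on `x^H` (`H = N C_H(x)`);
* (z) `C_H(x + y) ≤ C_H(x)`.

Then no transvection induced by `H` has its centre in `x^H` (`Dat.no_tv`); multiplicative form: `no_tv_mul`,
`no_tv_mul'` ((QP) as `N ⊔ C_H(x) = ⊤`).

Proof: `Φ_c` = the functionals of the induced transvections with centre `c ∈ x^H`; it kills `x` or `y`.  The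
adjacency relation is connected of diameter 2 by (QP) (`near`).  `Φ_c` moves `y` for some `c`; the neighbours `a` of
`x` are not adjacent to `c` (otherwise `Φ_{a + c}` kills neither `x` nor `y`), but `x` and `c` have a common neighbour.
-/

set_option autoImplicit false

namespace Cfsg.Agent.Omega.KL.NoTv

open Module Cfsg.Agent.Omega.TV

section lin

variable {H : Type*} [Group H] {V : Type*} [AddCommGroup V] [Module (ZMod 2) V]

/-- The two vectors. -/
structure Dat (ρ : H →* (V ≃ₗ[ZMod 2] V)) (x y : V) : Prop where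
  x0 : x ≠ 0
  y0 : y ≠ 0
  irr : ∀ U : Submodule (ZMod 2) V, (∀ (g : H), ∀ u ∈ U, ρ g u ∈ U) → U = ⊥ ∨ U = ⊤
  qp : ∀ N : Subgroup H, N.Normal → (∃ n ∈ N, ρ n x ≠ x) → ∀ g : H, ∃ n ∈ N, ρ g x = ρ n x
  z : ∀ g : H, ρ g (x + y) = x + y → ρ g x = x

variable {ρ : H →* (V ≃ₗ[ZMod 2] V)} {x y : V}

/-- the orbit of `x` -/
def Om (ρ : H →* (V ≃ₗ[ZMod 2] V)) (x : V) : Set V := {v | ∃ g : H, ρ g x = v}

theorem mem_Om (x : V) : x ∈ Om ρ x := ⟨1, rone ρ x⟩

/-- the transvections with centre in `x^H` -/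
def tvs (ρ : H →* (V ≃ₗ[ZMod 2] V)) (x : V) : Set H :=
  {g | ∃ r ∈ Om ρ x, ∃ φ : Dual (ZMod 2) V, φ r = 0 ∧ ∀ v, ρ g v = v + φ v • r}

theorem tvs_conj {g : H} (hg : g ∈ tvs ρ x) (k : H) : k * g * k⁻¹ ∈ tvs ρ x := by
  obtain ⟨r, ⟨l, rfl⟩, φ, h0, h1⟩ := hg
  refine ⟨_, ⟨k * l, rmul ρ k l x⟩, φ ∘ₗ (ρ k⁻¹ : V ≃ₗ[ZMod 2] V).toLinearMap, by simp [h0], fun v => ?_⟩
  rw [rmul, rmul, h1, map_add, rinv', map_smul]
  simp

/-- the normal subgroup generated by the transvections does not leave the class -/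
theorem near_of_mem [Finite V] (s : TV.Sys ρ (Om ρ x)) {g : H} (hg : g ∈ Subgroup.normalClosure (tvs ρ x)) :
    ∀ c ∈ Om ρ x, TV.Sys.Near ρ (Om ρ x) c (ρ g c) := by
  induction hg using Subgroup.closure_induction with
  | mem g hg =>
    obtain ⟨t, ht, hc⟩ := Group.mem_conjugatesOfSet_iff.1 hg
    obtain ⟨k, hk⟩ := isConj_iff.1 hc
    obtain ⟨r, hr, φ, h0, h1⟩ := hk ▸ tvs_conj ht k
    intro c hc
    rw [h1]
    rcases z2 (φ c) with e | e
    · rw [e, zero_smul, add_zero]
      exact s.near_refl hc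
    · have hf : Fn ρ r φ := ⟨h0, _, h1⟩
      have ha : Adj ρ r c := ⟨φ, hf, e⟩
      refine ⟨r, hr, s.symm hr hc ha, ?_⟩
      exact ⟨φ, hf, by rw [e, one_smul, map_add, e, h0, add_zero]⟩
  | one => intro c hc; rw [rone]; exact s.near_refl hc
  | mul a b _ _ ha hb =>
    intro c hc
    rw [rmul]
    exact s.near_trans hc (s.inv _ _ hc) (s.inv _ _ (s.inv _ _ hc)) (hb c hc) (ha _ (s.inv _ _ hc))
  | inv a _ ha =>
    intro c hc
    have h1 := ha _ (s.inv a⁻¹ _ hc)
    rw [rinv'] at h1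
    exact s.near_symm (s.inv _ _ hc) hc h1

namespace Dat

variable (h : Dat ρ x y)

include h

theorem span : Submodule.span (ZMod 2) (Om ρ x) = ⊤ := by
  refine (h.irr _ ?_).resolve_left ?_
  · intro g u hu
    induction hu using Submodule.span_induction with
    | mem u hu =>
      obtain ⟨k, rfl⟩ := hu
      exact Submodule.subset_span ⟨g * k, rmul ρ g k x⟩
    | zero => rw [map_zero]; exact Submodule.zero_mem _
    | add a b _ _ ha hb => rw [map_add]; exact Submodule.add_mem _ ha hb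
    | smul c a _ ha => rw [map_smul]; exact Submodule.smul_mem _ c ha
  · intro h1
    have h2 : x ∈ Submodule.span (ZMod 2) (Om ρ x) := Submodule.subset_span (mem_Om x)
    rw [h1, Submodule.mem_bot] at h2
    exact h.x0 h2

/-- a transvection with centre in `x^H` gives the setting of THEOREM TV -/
theorem sys {r : V} (hr : r ∈ Om ρ x) {φ : Dual (ZMod 2) V} (h0 : φ ≠ 0) (hφ : Fn ρ r φ) :
    TV.Sys ρ (Om ρ x) where
  zero := by
    rintro ⟨g, hg⟩
    exact h.x0 ((ρ g).map_eq_zero_iff.1 hg)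
  inv := by
    rintro g r ⟨k, rfl⟩
    exact ⟨g * k, rmul ρ g k x⟩
  trans := by
    rintro r ⟨k, rfl⟩ s ⟨l, rfl⟩
    exact ⟨l * k⁻¹, by rw [rmul, rinv]⟩
  span := h.span
  ex := ⟨r, hr, φ, h0, hφ⟩
  chain := by
    intro U hU g h1 h2 v
    rcases h.irr U hU with rfl | rfl
    · exact v_eq_of_add ((Submodule.mem_bot _).1 (h2 v))
    · exact h1 v trivial

/-- `Φ_c` kills `x` or `y` -/
theorem kill {c : V} (hc : c ≠ 0) {φ ψ : Dual (ZMod 2) V} (hφ : Fn ρ c φ) (hψ : Fn ρ c ψ) (h1 : φ x = 1)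
    (h2 : ψ y = 1) : False := by
  have key : ∀ χ : Dual (ZMod 2) V, Fn ρ c χ → χ x = 1 → χ y = 1 → False := by
    rintro χ ⟨h0, g, hg⟩ e1 e2
    have e3 : ρ g (x + y) = x + y := by
      rw [hg, map_add, e1, e2]
      have : (1 : ZMod 2) + 1 = 0 := by decide
      rw [this, zero_smul, add_zero]
    have e4 := h.z g e3
    rw [hg, e1, one_smul] at e4
    exact hc (by simpa using e4)
  rcases z2 (φ y) with e1 | e1
  · rcases z2 (ψ x) with e2 | e2
    · exact key _ (hφ.add hψ) (by rw [LinearMap.add_apply, h1, e2, add_zero])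
        (by rw [LinearMap.add_apply, e1, h2, zero_add])
    · exact key _ hψ e2 h2
  · exact key _ hφ h1 e1

/-- there is only one class -/
theorem near [Finite V] (s : TV.Sys ρ (Om ρ x)) {c : V} (hc : c ∈ Om ρ x) : TV.Sys.Near ρ (Om ρ x) x c := by
  obtain ⟨g, rfl⟩ := hc
  have h1 : ∃ n ∈ Subgroup.normalClosure (tvs ρ x), ρ n x ≠ x := by
    obtain ⟨r, hr, hx⟩ := s.exists_adj (mem_Om x)
    obtain ⟨φ, ⟨h0, t, ht⟩, h2⟩ := s.symm (mem_Om x) hr hx
    refine ⟨t, Subgroup.subset_normalClosure ⟨r, hr, φ, h0, ht⟩, ?_⟩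
    rw [ht, h2, one_smul]
    intro e
    exact s.ne_zero hr (by simpa using e)
  obtain ⟨n, hn, h2⟩ := h.qp _ inferInstance h1 g
  rw [h2]
  exact near_of_mem s hn x (mem_Om x)

/-- **(1) of THEOREM KLF**: no transvection has its centre in `x^H`. -/
theorem no_tv [Finite V] {r : V} (hr : r ∈ Om ρ x) {φ₀ : Dual (ZMod 2) V} (hφ₀ : Fn ρ r φ₀) : φ₀ = 0 := by
  by_contra hne
  have s := h.sys hr hne hφ₀
  -- some `c` has a functional which is non-zero at `y`
  obtain ⟨c, hc, ψ, hψ, hψy⟩ : ∃ c ∈ Om ρ x, ∃ ψ, Fn ρ c ψ ∧ ψ y = 1 := by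
    by_contra hcon
    push Not at hcon
    have h1 : y ∈ TV.Sys.rad ρ (Om ρ x) := fun r hr φ hφ => z2_ne_one (hcon r hr φ hφ)
    rcases h.irr (TV.Sys.rad ρ (Om ρ x)) (fun g u hu => s.rad_inv g hu) with h2 | h2
    · rw [h2, Submodule.mem_bot] at h1
      exact h.y0 h1
    · obtain ⟨t, ht, h3⟩ := s.exists_one hne
      have h4 : t ∈ TV.Sys.rad ρ (Om ρ x) := by rw [h2]; trivial
      rw [h4 r hr φ₀ hφ₀] at h3
      exact zero_ne_one h3
  have hc0 := s.ne_zero hc
  -- `Φ_c` kills `x`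
  have hcx : ∀ φ, Fn ρ c φ → φ x = 0 := fun φ hφ => z2_ne_one fun e => h.kill hc0 hφ hψ e hψy
  -- the orthogonality of the two classes
  have hperp : ∀ a ∈ Om ρ x, Adj ρ a x → ¬ Adj ρ a c := by
    intro a ha hax hac
    have ha0 := s.ne_zero ha
    obtain ⟨φ'', hφ'', e''⟩ := hax
    have hay : ∀ φ, Fn ρ a φ → φ y = 0 := fun φ hφ => z2_ne_one fun e => h.kill ha0 hφ'' hφ e'' e
    have e1 : ψ a = 1 := by
      refine z2_ne_zero fun e => ?_
      have h1 := s.fn_of_adj hc ha (s.symm ha hc hac) hψ e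
      rw [hay _ h1] at hψy
      exact zero_ne_one hψy
    obtain ⟨φ, hφ, e2⟩ := hac
    have h1 : Fn ρ (c + a) (ψ + φ) := by
      have := Fn.cc hψ hφ
      rwa [e2, e1, one_smul, one_smul] at this
    have h2 : Fn ρ (a + c) (φ'' + φ'' c • ψ) := by
      have := Fn.cc hφ'' hψ
      rwa [e1, one_smul] at this
    have hm : c + a ∈ Om ρ x := s.add_mem hc ⟨φ, hφ, e2⟩
    rw [add_comm] at h2
    refine h.kill (s.ne_zero hm) h2 h1 ?_ ?_
    · rw [LinearMap.add_apply, LinearMap.smul_apply, e'', hcx _ hψ, smul_zero, add_zero]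
    · rw [LinearMap.add_apply, hψy, hay _ hφ, add_zero]
  obtain ⟨u, hu, h1, h2⟩ := h.near s hc
  exact hperp u hu (s.symm (mem_Om x) hu h1) h2

end Dat

end lin

section mul

variable {H : Type*} [Group H] {M : Type*} [Group M] [MulDistribMulAction H M]

/-- **(1) of THEOREM KLF**, multiplicative form. -/
theorem no_tv_mul [Finite M] (sq : ∀ m : M, m * m = 1) {x y : M} (x1 : x ≠ 1) (y1 : y ≠ 1)
    (irr : ∀ W : Subgroup M, (∀ h : H, ∀ w ∈ W, h • w ∈ W) → W = ⊥ ∨ W = ⊤)
    (qp : ∀ N : Subgroup H, N.Normal → (∃ n ∈ N, n • x ≠ x) → ∀ g : H, ∃ n ∈ N, g • x = n • x)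
    (z : ∀ g : H, g • (x * y) = x * y → g • x = x) {t g : H}
    (ht : ∀ m : M, t • m = m ∨ t • m = m * g • x) (m : M) : t • m = m := by
  have comm : ∀ a b : M, a * b = b * a := by
    intro a b
    have h1 : ∀ c : M, c⁻¹ = c := fun c => inv_eq_of_mul_eq_one_right (sq c)
    calc a * b = (a * b)⁻¹ := (h1 _).symm
      _ = b⁻¹ * a⁻¹ := mul_inv_rev _ _
      _ = b * a := by rw [h1, h1]
  let i1 : AddCommGroup (Additive M) :=
    { (inferInstance : AddGroup (Additive M)) with
      add_comm := fun v w => congrArg Additive.ofMul (comm (Additive.toMul v) (Additive.toMul w)) }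
  let i2 : Module (ZMod 2) (Additive M) := AddCommGroup.zmodModule (n := 2) fun v => by
    rw [two_nsmul]
    exact congrArg Additive.ofMul (sq (Additive.toMul v))
  have : Finite (Additive M) := inferInstanceAs (Finite M)
  let e : H → (Additive M ≃ₗ[ZMod 2] Additive M) := fun h =>
    { toFun := fun v => Additive.ofMul (h • Additive.toMul v)
      map_add' := fun v w => congrArg Additive.ofMul (smul_mul' h (Additive.toMul v) (Additive.toMul w))
      map_smul' := fun c v => by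
        rcases z2 c with rfl | rfl
        · simp only [zero_smul, RingHom.id_apply]
          exact congrArg Additive.ofMul (smul_one h)
        · simp only [one_smul, RingHom.id_apply]
      invFun := fun v => Additive.ofMul (h⁻¹ • Additive.toMul v)
      left_inv := fun v => congrArg Additive.ofMul (inv_smul_smul h (Additive.toMul v))
      right_inv := fun v => congrArg Additive.ofMul (smul_inv_smul h (Additive.toMul v)) }
  let ρ : H →* (Additive M ≃ₗ[ZMod 2] Additive M) :=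
    { toFun := e
      map_one' := LinearEquiv.ext fun v => congrArg Additive.ofMul (one_smul H (Additive.toMul v))
      map_mul' := fun a b => LinearEquiv.ext fun v =>
        congrArg Additive.ofMul (mul_smul a b (Additive.toMul v)) }
  have hρ : ∀ (h : H) (v : M), ρ h (Additive.ofMul v) = Additive.ofMul (h • v) := fun _ _ => rfl
  have inj : Function.Injective (Additive.ofMul : M → Additive M) := Additive.ofMul.injective
  have hd : Dat ρ (Additive.ofMul x) (Additive.ofMul y) := by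
    refine ⟨fun h0 => x1 (inj h0), fun h0 => y1 (inj h0), ?_, ?_, ?_⟩
    · intro U hU
      let W : Subgroup M :=
        { carrier := {w | Additive.ofMul w ∈ U}
          one_mem' := U.zero_mem
          mul_mem' := fun {a b} ha hb => U.add_mem ha hb
          inv_mem' := fun {a} ha => U.neg_mem ha }
      rcases irr W (fun h w hw => hU h _ hw) with h0 | h0
      · refine Or.inl ((Submodule.eq_bot_iff U).2 fun u hu => ?_)
        have h1 : Additive.toMul u ∈ W := hu
        rw [h0, Subgroup.mem_bot] at h1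
        exact congrArg Additive.ofMul h1
      · refine Or.inr (Submodule.eq_top_iff'.2 fun u => ?_)
        have h1 : Additive.toMul u ∈ W := by rw [h0]; exact Subgroup.mem_top _
        exact h1
    · rintro N hN ⟨n, hn, h0⟩ g
      obtain ⟨k, hk, h1⟩ := qp N hN ⟨n, hn, fun h1 => h0 (congrArg Additive.ofMul h1)⟩ g
      exact ⟨k, hk, congrArg Additive.ofMul h1⟩
    · intro g hg
      exact congrArg Additive.ofMul (z g (inj hg))
  have hr0 : Additive.ofMul (g • x) ≠ (0 : Additive M) := by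
    intro h0
    apply x1
    have h1 : g • x = 1 := inj h0
    have h2 := congrArg (fun w => g⁻¹ • w) h1
    simpa using h2
  obtain ⟨φ, hφ⟩ := exists_functional (ρ t) hr0 (fun v => by
    rcases ht (Additive.toMul v) with h1 | h1
    · exact Or.inl (congrArg Additive.ofMul h1)
    · exact Or.inr (congrArg Additive.ofMul h1))
  have h0 : φ (Additive.ofMul (g • x)) = 0 := by
    refine z2_ne_one fun h1 => ?_
    have h2 := hφ (Additive.ofMul (g • x))
    rw [h1, one_smul, v_add_self] at h2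
    exact hr0 ((ρ t).map_eq_zero_iff.1 h2)
  have h1 := hd.no_tv ⟨g, rfl⟩ (show Fn ρ (Additive.ofMul (g • x)) φ from ⟨h0, t, hφ⟩)
  have h2 := hφ (Additive.ofMul m)
  rw [h1, LinearMap.zero_apply, zero_smul, add_zero] at h2
  exact inj h2

/-- (QP) as `N ⊔ C_H(x) = ⊤` for all normal subgroups `N` moving `x`. -/
theorem no_tv_mul' [Finite M] (sq : ∀ m : M, m * m = 1) {x y : M} (x1 : x ≠ 1) (y1 : y ≠ 1)
    (irr : ∀ W : Subgroup M, (∀ h : H, ∀ w ∈ W, h • w ∈ W) → W = ⊥ ∨ W = ⊤)
    (qp : ∀ N : Subgroup H, N.Normal → (∃ n ∈ N, n • x ≠ x) → N ⊔ MulAction.stabilizer H x = ⊤)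
    (z : ∀ g : H, g • (x * y) = x * y → g • x = x) {t g : H}
    (ht : ∀ m : M, t • m = m ∨ t • m = m * g • x) (m : M) : t • m = m := by
  refine no_tv_mul sq x1 y1 irr (fun N hN h0 k => ?_) z ht m
  have h1 : k ∈ N ⊔ MulAction.stabilizer H x := by rw [qp N hN h0]; exact Subgroup.mem_top _
  obtain ⟨n, hn, s, hs, rfl⟩ := Subgroup.mem_sup_of_normal_left.1 h1
  exact ⟨n, hn, by rw [mul_smul, MulAction.mem_stabilizer_iff.1 hs]⟩

end mul

end Cfsg.Agent.Omega.KL.NoTv
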