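import Cfsg.Agent.Omega.KL.Plug

/-!
# THEOREM KL: the plug over `TC.Fr` for a subgroup of `C_i` (CARD #18791 `[A]` and `[B]`; helper836 #22393 (3))

683's `Plug.pre` with a subgroup `C`, `T, P (i+1) ≤ C ≤ C_i`, `N_i = ⟨v (i+1) ^ C⟩`, instead of `C_i`, and a vector
`p ∈ N_i`, `p ∉ ⟨v i⟩`, with `[p, g] ∈ ⟨v i⟩ ↔ g ∈ N(V i)` for `g ∈ C` instead of `p ∈ V i ≤ N_i` :

* **`preT`** : the input of THEOREM KL for `C` on `N_i / ⟨v i⟩`, `x = v (i+1)`, `y = p`;
* **`false_ofT`** : contradiction from THEOREM KL.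
-/

set_option autoImplicit false
set_option linter.unusedSectionVars false

namespace Cfsg.Agent.Omega.KL.PlugT

open Subgroup Cfsg Cfsg.Agent.ZN Cfsg.Agent.Omega.MinPar Cfsg.Agent.Omega.TC Cfsg.Agent.Omega.KL.Plug
open Cfsg.Agent.Omega.OM.KTwo (CC QQ WU NU EU ne_add_one eq_add_one add_one_add_one le_normalizer_V le_V)
open Cfsg.Agent.ClassTwoFusion.Quad Cfsg.Agent.Omega.ML.MinFrame
open Cfsg.Agent.MinSimple.MinParabolic (IsMinPar)
open Cfsg.Agent.Omega.NoFF.Basic (conj_conj mem_conj conj_le_iff comm_symm comm_mono Z_le_V V_le)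
open Cfsg.Agent.Omega.NOThreeL.Pair (conj_eq_of_mem conj_le_normalizer)
open Cfsg.Agent.ZN.ChoiceSit (Syl syl_conj syl_not_dvd)
open Cfsg.Agent.MinSimple.VModule (o2_isPGroup)
open scoped Pointwise

universe u

variable {G : Type u} [Group G]

variable [Finite G] {T : Subgroup G} {V P : Fin 2 → Subgroup G} {v : Fin 2 → G} (D : Fr T V P v)

include D

/-- **the input of THEOREM KL** for `C ≤ C_i` -/
theorem preT {i : Fin 2} {C : Subgroup G} (hK : IsKGroup C) (hTC : T ≤ C) (hCC : C ≤ CC v i) (hPC : P (i + 1) ≤ C)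
    (hgenG : ∀ U : Subgroup G, v (i + 1) ∈ U → C ≤ normalizer (U : Set G) → NU V v i ≤ U)
    {p : G} (hp : p ∈ NU V v i) (hpZ : p ∉ zpowers (v i))
    (hpst : ∀ g ∈ C, g * p * g⁻¹ * p⁻¹ ∈ zpowers (v i) ↔ g ∈ normalizer (V i : Set G))
    (hU : ∀ R : Subgroup G, IsMinPar T R → R ≤ C → ¬ R ≤ CC v (i + 1) → R ≤ normalizer (V i : Set G))
    {A : Subgroup G} (hA2 : ∀ a ∈ A, a ^ 2 = 1) (hAD : A ≤ o2 (centralizer (zc T : Set G)))
    (hAV : A ≤ o2 (normalizer (V i : Set G) ⊓ C)) (hEx : OM.PG.Int.Ex A (NU V v i))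
    (hAn : ¬ A ≤ centralizer (NU V v i : Set G)) :
    ∃ (M : Type u) (_ : Group M) (_ : Finite M) (_ : MulDistribMulAction C M) (W : Subgroup M) (x y : M),
      Quo.Pre (T.subgroupOf C) (A.subgroupOf C) W x y := by
  have hij := ne_add_one i
  have hji := hij.symm
  set N : Subgroup G := NU V v i with hN
  set Z : Subgroup G := zpowers (v i) with hZ
  have hCN : C ≤ normalizer (N : Set G) := hCC.trans (D.C_le_N_N i)
  have hCCv : ∀ c ∈ CC v i, c * v i = v i * c := fun c hc => mem_centralizer_singleton_iff.1 hc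
  have hCZc : ∀ c ∈ CC v i, ∀ z ∈ Z, c * z * c⁻¹ = z := by
    intro c hc z hz
    obtain ⟨n, rfl⟩ := mem_zpowers_iff.1 hz
    have h1 : Commute c (v i) := hCCv c hc
    rw [(h1.zpow_right n).eq, mul_inv_cancel_right]
  have hCCZ : CC v i ≤ normalizer (Z : Set G) := by
    intro c hc
    rw [mem_normalizer_iff]
    intro z
    refine ⟨fun hz => by rw [hCZc c hc z hz]; exact hz, fun hz => ?_⟩
    have h1 := hCZc c⁻¹ (inv_mem hc) _ hz
    have e : c⁻¹ * (c * z * c⁻¹) * c⁻¹⁻¹ = z := by group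
    rw [e] at h1
    rw [h1]
    exact hz
  have hCZ : C ≤ normalizer (Z : Set G) := hCC.trans hCCZ
  have hZmem : ∀ z ∈ Z, z = 1 ∨ z = v i := by
    intro z hz
    obtain ⟨n, rfl⟩ := mem_zpowers_iff.1 hz
    rcases Int.even_or_odd' n with ⟨k, rfl | rfl⟩
    · left; rw [zpow_mul, zpow_two, D.v_sq, one_zpow]
    · right; rw [zpow_add, zpow_mul, zpow_two, D.v_sq, one_zpow, one_mul, zpow_one]
  have hvZ : v (i + 1) ∉ Z := by
    intro h
    rcases hZmem _ h with h1 | h1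
    · exact D.ne _ h1
    · exact Phi.v_ne D hji h1
  have hnor : (Z.subgroupOf N).Normal := normal_subgroupOf_of_le_normalizer ((D.N_le_C i i).trans hCCZ)
  let _ := ML.Final.conjAct hCN hCZ
  let mk : N →* N ⧸ Z.subgroupOf N := QuotientGroup.mk' (Z.subgroupOf N)
  have hmk : Function.Surjective mk := QuotientGroup.mk'_surjective _
  have hmem : ∀ (g : C) (n : N), (g : G) * n * (g : G)⁻¹ ∈ N := fun g n =>
    (mem_normalizer_iff.1 (hCN g.2) n).1 n.2
  have hsm : ∀ (g : C) (n : N), g • mk n = mk ⟨(g : G) * n * (g : G)⁻¹, hmem g n⟩ := fun _ _ => rfl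
  have hone : ∀ a b : N, mk a = mk b ↔ (a : G) * (b : G)⁻¹ ∈ Z := by
    intro a b
    rw [← mul_inv_eq_one, ← map_inv, ← map_mul, ← MonoidHom.mem_ker, QuotientGroup.ker_mk']
    exact Iff.rfl
  have hfix : ∀ (g : C) (n : N), g • mk n = mk n ↔ (g : G) * n * (g : G)⁻¹ * (n : G)⁻¹ ∈ Z := by
    intro g n
    rw [hsm, hone]
  set x : N ⧸ Z.subgroupOf N := mk ⟨v (i + 1), D.mem_N i⟩ with hx
  set y : N ⧸ Z.subgroupOf N := mk ⟨p, hp⟩ with hy
  set W : Subgroup (N ⧸ Z.subgroupOf N) := ((V (i + 1)).subgroupOf N).map mk with hW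
  have hAT : A ≤ T := hAD.trans D.o2D_le_T
  have hAC : A ≤ C := hAT.trans hTC
  -- `⟨v (i+1) ^ C⟩ = N`
  have hNH : NH v i C = N := le_antisymm (D.NH_le_N hCC) (hgenG _ (mem_NH v i C) (le_normalizer_NH v i C))
  -- the kernel
  have hker : ∀ c : C, (∀ m : N ⧸ Z.subgroupOf N, c • m = m) ↔ (c : G) ∈ centralizer (N : Set G) := by
    intro c
    constructor
    · intro h
      have h1 := D.ker_le (i := i) (H := C) (Y := Z) hTC hCC hCZ hvZ c.2 (by
        rw [hNH]
        intro n hn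
        exact (hfix c ⟨n, hn⟩).1 (h _))
      rwa [hNH] at h1
    · intro h m
      obtain ⟨n, rfl⟩ := hmk m
      rw [hfix, ← mem_centralizer_iff.1 h n n.2, mul_inv_cancel_right, mul_inv_cancel]
      exact one_mem _
  -- the stabilisers
  have hsx : ∀ c : C, c ∈ MulAction.stabilizer C x ↔ (c : G) ∈ centralizer (zc T : Set G) := by
    intro c
    rw [MulAction.mem_stabilizer_iff, hfix]
    constructor
    · exact fun h => D.stab_le hTC hCC hCZ hvZ c c.2 h
    · intro h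
      have h1 : (c : G) * v (i + 1) = v (i + 1) * c := mem_centralizer_singleton_iff.1 (D.cent_zc_le (i + 1) h)
      change (c : G) * v (i + 1) * (c : G)⁻¹ * (v (i + 1))⁻¹ ∈ Z
      rw [h1, mul_inv_cancel_right, mul_inv_cancel]
      exact one_mem _
  have hsy : ∀ c : C, c ∈ MulAction.stabilizer C y ↔ (c : G) ∈ normalizer (V i : Set G) ⊓ C := by
    intro c
    rw [MulAction.mem_stabilizer_iff, hfix]
    exact (hpst c c.2).trans ⟨fun h => ⟨h, c.2⟩, fun h => h.1⟩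
  -- `N_C(T)`
  have hnT : ∀ g ∈ normalizer (T.subgroupOf C : Set C), (g : G) ∈ C ⊓ normalizer (T : Set G) := by
    intro g hg
    refine mem_inf.2 ⟨g.2, ?_⟩
    rw [mem_normalizer_iff]
    intro t
    constructor
    · intro ht
      exact (mem_normalizer_iff.1 hg ⟨t, hTC ht⟩).1 ht
    · intro ht
      have h1 : (g : G)⁻¹ * ((g : G) * t * (g : G)⁻¹) * (g : G)⁻¹⁻¹ ∈ T :=
        (mem_normalizer_iff.1 (inv_mem hg) ⟨(g : G) * t * (g : G)⁻¹, hTC ht⟩).1 ht
      have e : (g : G)⁻¹ * ((g : G) * t * (g : G)⁻¹) * (g : G)⁻¹⁻¹ = t := by group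
      rwa [e] at h1
  -- the index of the fixed space
  have hcvle : (centralizer (A : Set G)).subgroupOf N ≤ (cv (N ⧸ Z.subgroupOf N) (A.subgroupOf C : Set C)).comap mk := by
    intro n hn a ha
    refine (hfix a n).2 ?_
    have h1 := mem_centralizer_iff.1 (mem_subgroupOf.1 hn) a (mem_subgroupOf.1 ha)
    rw [h1, mul_inv_cancel_right, mul_inv_cancel]
    exact one_mem _
  have hfxr : fxr C (⊤ : Subgroup (N ⧸ Z.subgroupOf N)) = (centralizer (N : Set G)).subgroupOf C := by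
    ext c
    rw [mem_subgroupOf, ← hker]
    exact ⟨fun h m => h m (mem_top m), fun h m _ => h m⟩
  have hle : (cv (N ⧸ Z.subgroupOf N) (A.subgroupOf C : Set C)).index ≤
      (fxr C (⊤ : Subgroup (N ⧸ Z.subgroupOf N))).relIndex (A.subgroupOf C) := by
    rw [hfxr, relIndex_subgroupOf hAC, ← index_comap_of_surjective _ hmk]
    refine (index_antitone hcvle).trans ?_
    exact hEx.ge
  have huni : ∀ R : Subgroup C, IsMinPar (T.subgroupOf C) R → (∃ r ∈ R, r • x ≠ x) →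
      (∀ r ∈ R, ∀ w ∈ W, r • w ∈ W) ∧ ∀ r ∈ R, r • y = y := by
    intro R hR hmv
    have hR' := minPar_map hTC hR
    have hRC : R.map C.subtype ≤ C := map_subtype_le R
    have hRm : ¬ R.map C.subtype ≤ CC v (i + 1) := by
      intro h
      obtain ⟨r, hr, hrx⟩ := hmv
      apply hrx
      have h1 : (r : G) * v (i + 1) = v (i + 1) * r := mem_centralizer_singleton_iff.1 (h (mem_map_of_mem C.subtype hr))
      rw [hfix]
      change (r : G) * v (i + 1) * (r : G)⁻¹ * (v (i + 1))⁻¹ ∈ Z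
      rw [h1, mul_inv_cancel_right, mul_inv_cancel]
      exact one_mem _
    have h1 := D.uni (i + 1) i hji _ hR' (hRC.trans hCC) hRm
    have h2 := hU _ hR' hRC hRm
    refine ⟨?_, ?_⟩
    · rintro r hr _ ⟨w, hw, rfl⟩
      rw [hsm]
      refine ⟨_, ?_, rfl⟩
      exact mem_subgroupOf.2 ((mem_normalizer_iff.1 (h1 (mem_map_of_mem C.subtype hr)) _).1 (mem_subgroupOf.1 hw))
    · intro r hr
      exact MulAction.mem_stabilizer_iff.1 ((hsy r).2 (mem_inf.2 ⟨h2 (mem_map_of_mem C.subtype hr), r.2⟩))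
  refine ⟨N ⧸ Z.subgroupOf N, inferInstance, inferInstance, inferInstance, W, x, y, ?_⟩
  refine Quo.Pre.mk ?_ ?_ ?_ ?_ ?_ ?_ ?_ ?_ ?_ ?_ ?_ huni ?_ ?_ ?_ ?_ hle hK
  · intro m
    obtain ⟨n, rfl⟩ := hmk m
    rw [← map_mul, ← map_one mk, hone]
    have h1 : (n : G) * n = 1 := by rw [← pow_two]; exact D.N_sq i n n.2
    simp [h1]
  · -- generation
    set U : Subgroup G := ((orb (⊤ : Subgroup C) x).comap mk).map N.subtype with hUd
    have hUmem : ∀ a : N, (a : G) ∈ U ↔ mk a ∈ orb (⊤ : Subgroup C) x := by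
      intro a
      constructor
      · rintro ⟨b, hb, hba⟩
        rw [← (Subtype.ext hba : b = a)]
        exact hb
      · exact fun ha => ⟨a, ha, rfl⟩
    have h1 : N ≤ U := by
      refine hgenG U ((hUmem ⟨v (i + 1), D.mem_N i⟩).2 (mem_orb_self _ x)) ?_
      have key : ∀ g ∈ C, ∀ a ∈ U, g * a * g⁻¹ ∈ U := by
        rintro g hg a ⟨b, hb, rfl⟩
        have h2 := smul_mem_orb (g := (⟨g, hg⟩ : C)) (mem_top _) hb
        rw [hsm ⟨g, hg⟩ b] at h2
        exact (hUmem ⟨_, hmem ⟨g, hg⟩ b⟩).2 h2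
      intro g hg
      rw [mem_normalizer_iff]
      intro a
      refine ⟨key g hg a, fun ha => ?_⟩
      have h2 := key g⁻¹ (inv_mem hg) _ ha
      have e : g⁻¹ * (g * a * g⁻¹) * g⁻¹⁻¹ = a := by group
      rwa [e] at h2
    rw [eq_top_iff]
    intro m _
    obtain ⟨n, rfl⟩ := hmk m
    exact (hUmem n).1 (h1 n.2)
  · exact D.T_isPGroup.comap_of_injective C.subtype C.subtype_injective
  · intro h2
    apply syl_not_dvd (D.syl i)
    rw [← relIndex_mul_relIndex T C (CC v i) hTC hCC]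
    exact Dvd.dvd.mul_right h2 _
  · intro h
    rw [hx, ← map_one mk, hone] at h
    exact hvZ (by simpa using h)
  · intro h
    rw [hy, ← map_one mk, hone] at h
    exact hpZ (by simpa using h)
  · -- `x ≠ y`: `P (i+1)` fixes `y` and moves `x`
    intro h
    apply D.mv (i + 1)
    intro q hq
    have hqC := hPC hq
    have h1 : (⟨q, hqC⟩ : C) ∈ MulAction.stabilizer C y :=
      (hsy ⟨q, hqC⟩).2 (mem_inf.2 ⟨D.PN (i + 1) i hq, hqC⟩)
    rw [← h] at h1
    exact D.cent_zc_le (i + 1) ((hsx ⟨q, hqC⟩).1 h1)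
  · intro g hg
    exact MulAction.mem_stabilizer_iff.1 ((hsx g).2 (D.norm_T_le i ⟨hCC (hnT g hg).1, (hnT g hg).2⟩))
  · intro g hg
    exact MulAction.mem_stabilizer_iff.1 ((hsy g).2 (mem_inf.2 ⟨nT_le D i ⟨hCC (hnT g hg).1, (hnT g hg).2⟩, g.2⟩))
  · -- `|W| = 4`
    have h1 : ∀ a ∈ (V (i + 1)).subgroupOf N, mk a = 1 → a = 1 := by
      intro a ha h2
      rw [← map_one mk, hone] at h2
      have h3 : (a : G) ∈ Z := by simpa using h2
      rcases hZmem _ h3 with h4 | h4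
      · exact Subtype.ext h4
      · exfalso
        apply Phi.v_notMem D hji
        rw [← h4]
        exact mem_subgroupOf.1 ha
    have h2 : Nat.card ((V (i + 1)).subgroupOf N) = 4 := by
      rw [← D.four (i + 1)]
      exact Nat.card_congr (subgroupOfEquivOfLe (D.V_le_N i)).toEquiv
    rw [← h2]
    have hinj : Function.Injective (mk.subgroupMap ((V (i + 1)).subgroupOf N)) := by
      rw [injective_iff_map_eq_one]
      rintro ⟨a, ha⟩ h3
      exact Subtype.ext (h1 a ha (congrArg Subtype.val h3))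
    exact (Nat.card_congr (Equiv.ofBijective _ ⟨hinj, mk.subgroupMap_surjective _⟩)).symm
  · exact ⟨⟨v (i + 1), D.mem_N i⟩, mem_subgroupOf.2 (D.mem (i + 1)), rfl⟩
  · intro a ha
    have h1 := hA2 a (mem_subgroupOf.1 ha)
    rw [← pow_two]
    exact Subtype.ext h1
  · exact sub_o2 hsx hAD
  · exact sub_o2 hsy hAV
  · by_contra hcon
    push Not at hcon
    apply hAn
    intro a ha
    exact (hker ⟨a, hAC ha⟩).1 fun m => hcon ⟨a, hAC ha⟩ (mem_subgroupOf.2 ha) m


/-- **THEOREM KL kills such a `C` as soon as there is an exact group in `O₂(D) ∩ O₂(N_C(V i))`.** -/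
theorem false_ofT (hML : ML.Final.MLK.{u, u}) (hKL : Quo.NoInp.{u, u}) {i : Fin 2} {C : Subgroup G} (hK : IsKGroup C)
    (hTC : T ≤ C) (hCC : C ≤ CC v i) (hPC : P (i + 1) ≤ C)
    (hgenG : ∀ U : Subgroup G, v (i + 1) ∈ U → C ≤ normalizer (U : Set G) → NU V v i ≤ U)
    {p : G} (hp : p ∈ NU V v i) (hpZ : p ∉ zpowers (v i))
    (hpst : ∀ g ∈ C, g * p * g⁻¹ * p⁻¹ ∈ zpowers (v i) ↔ g ∈ normalizer (V i : Set G))
    (hU : ∀ R : Subgroup G, IsMinPar T R → R ≤ C → ¬ R ≤ CC v (i + 1) → R ≤ normalizer (V i : Set G))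
    {A : Subgroup G} (hA2 : ∀ a ∈ A, a ^ 2 = 1) (hAD : A ≤ o2 (centralizer (zc T : Set G)))
    (hAV : A ≤ o2 (normalizer (V i : Set G) ⊓ C)) (hEx : OM.PG.Int.Ex A (NU V v i))
    (hAn : ¬ A ≤ centralizer (NU V v i : Set G)) : False := by
  obtain ⟨M, _, _, _, W, x, y, h⟩ := preT D hK hTC hCC hPC hgenG hp hpZ hpst hU hA2 hAD hAV hEx hAn
  exact h.false hML hKL

end Cfsg.Agent.Omega.KL.PlugT
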