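import Cfsg.Agent.Omega.KL.Def
import Cfsg.Agent.Lib.MinNormalNonabelian

/-!
# THEOREM KL, (2): the structure of `H` in `Sys` (helper969)

`H` has a minimal normal subgroup `E` which is not abelian, `H = ET`, `C_H(E) = 1`, and `T` is transitive on the set
`minSet E` of the simple factors of `E`.
-/

set_option autoImplicit false
set_option linter.unusedSectionVars false

namespace Cfsg.Agent.Omega.KL.Str

open Subgroup Cfsg Cfsg.Agent.ZN Cfsg.Agent.ClassTwoFusion.Quad Cfsg.Agent.Omega.ML.MinFrame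
open Cfsg.Agent.Omega.KL.Def Cfsg.Agent.Lib.MinNormalNonabelian
open Cfsg.Agent.MinSimple.MinParabolic (IsMinPar le_of_forall)
open Cfsg.Agent.MinSimple.VModule (o2_isPGroup o2_le le_o2 le_normalizer_o2)

universe u v

variable {H : Type u} [Group H] [Finite H] {M : Type v} [Group M] [MulDistribMulAction H M]
  {T A : Subgroup H} {V : Subgroup M} {x y : M}

/-- a normal subgroup which fixes a non-trivial vector is trivial -/
theorem eq_bot_of_fix (hf : ∀ h : H, (∀ m : M, h • m = m) → h = 1)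
    (hirr : ∀ W : Subgroup M, (∀ h : H, ∀ w ∈ W, h • w ∈ W) → W = ⊥ ∨ W = ⊤) {N : Subgroup H} (hN : N.Normal)
    {m : M} (hm : m ≠ 1) (h : ∀ n ∈ N, n • m = m) : N = ⊥ := by
  have h1 : cv M (N : Set H) = ⊤ := by
    rcases hirr (cv M (N : Set H)) (by
      intro g w hw n hn
      have h2 := hw (g⁻¹ * n * g) (by simpa using hN.conj_mem n hn g⁻¹)
      calc n • g • w = g • ((g⁻¹ * n * g) • w) := by simp only [← mul_smul]; congr 1; group
        _ = g • w := by rw [h2]) with h2 | h2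
    · exfalso
      have h3 : m ∈ cv M (N : Set H) := fun n hn => h n hn
      rw [h2, mem_bot] at h3
      exact hm h3
    · exact h2
  rw [eq_bot_iff]
  intro n hn
  rw [mem_bot]
  refine hf n fun w => ?_
  have h2 : w ∈ cv M (N : Set H) := h1 ▸ mem_top w
  exact h2 n hn

/-- the normaliser form of normality -/
theorem normal_of_sup {K T : Subgroup H} (h : K ⊔ T = ⊤) {N : Subgroup H} (hK : K ≤ normalizer (N : Set H))
    (hT : T ≤ normalizer (N : Set H)) : N.Normal := by
  rw [← normalizer_eq_top_iff, eq_top_iff, ← h]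
  exact sup_le hK hT

/-- `R = (R ∩ N) S` if `S ≤ R ≤ NS` -/
theorem dedekind {N S R : Subgroup H} (hN : N.Normal) (hSR : S ≤ R) (hR : R ≤ N ⊔ S) : R ⊓ N ⊔ S = R := by
  apply le_antisymm (sup_le inf_le_left hSR)
  intro r hr
  have h1 := hR hr
  rw [mem_sup_of_normal_left] at h1
  obtain ⟨n, hn, s, hs, rfl⟩ := h1
  refine mul_mem_sup ⟨?_, hn⟩ hs
  have := mul_mem hr (inv_mem (hSR hs))
  rwa [mul_inv_cancel_right] at this

/-- `O₂(N) ≤ O₂(H)` for `N ⊴ H` -/
theorem le_o2_top {N Q : Subgroup H} (hN : N.Normal) (hQN : Q ≤ N) (hQ : IsPGroup 2 Q)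
    (hn : N ≤ normalizer (Q : Set H)) : Q ≤ o2 (⊤ : Subgroup H) := by
  have h1 : Q ≤ o2 N := le_o2 hQN hQ hn
  refine h1.trans (le_o2 le_top (o2_isPGroup N) ?_)
  have h2 : normalizer (N : Set H) ≤ normalizer (o2 N : Set H) := by
    have h3 : (pCore 2 N).Characteristic := Lib.Cores.pCore_characteristic 2
    intro g hg
    have h4 : ∀ g ∈ normalizer (N : Set H), ∀ z ∈ o2 N, g * z * g⁻¹ ∈ o2 N := by
      rintro g hg _ ⟨z, hz, rfl⟩
      let e : N ≃* N := MulAut.conjNormal (H := N) g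
      have h5 := (characteristic_iff_map_eq.1 h3 e)
      have h6 : e z ∈ pCore 2 N := by
        rw [← h5]
        exact mem_map_of_mem _ hz
      exact ⟨e z, h6, by simp [e, MulAut.conjNormal_apply]⟩
    rw [mem_normalizer_iff]
    intro z
    refine ⟨h4 g hg z, fun hz => ?_⟩
    have h5 := h4 g⁻¹ (inv_mem hg) _ hz
    have h6 : g⁻¹ * (g * z * g⁻¹) * g⁻¹⁻¹ = z := by group
    rwa [h6] at h5
  rw [normalizer_eq_top_iff.2 hN] at h2
  exact h2

namespace SysF

variable (h : Sys T A V x y)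
include h

/-- `H` moves `x` -/
theorem moves : ∃ g : H, g • x ≠ x := by
  by_contra hc
  push Not at hc
  have h1 : orb (⊤ : Subgroup H) x ≤ zpowers x := orb_le fun g _ => by rw [hc g]; exact mem_zpowers x
  rw [h.gen] at h1
  have h2 : y ∈ zpowers x := h1 (mem_top y)
  obtain ⟨k, hk⟩ := mem_zpowers_iff.1 h2
  have h3 : x ^ (2 : ℤ) = 1 := by rw [zpow_two, h.sq]
  rcases Int.even_or_odd' k with ⟨j, hj | hj⟩
  · apply h.y1
    rw [← hk, hj, zpow_mul, h3, one_zpow]
  · apply h.xy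
    rw [← hk, hj, zpow_add, zpow_mul, h3, one_zpow, one_mul, zpow_one]

theorem o2_top : o2 (⊤ : Subgroup H) = ⊥ := by
  have h1 : o2 (⊤ : Subgroup H) ≤ T := by
    have h2 : T ≤ normalizer (o2 (⊤ : Subgroup H) : Set H) := le_top.trans (le_normalizer_o2 _)
    have h3 : IsPGroup 2 (o2 (⊤ : Subgroup H) ⊔ T : Subgroup H) :=
      IsPGroup.to_sup_of_normal_left' (o2_isPGroup _) h.two h2
    have h4 := Subgroup.relIndex_mul_index (le_sup_right : T ≤ o2 (⊤ : Subgroup H) ⊔ T)
    have h5 : T.relIndex (o2 (⊤ : Subgroup H) ⊔ T) = 1 := by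
      obtain ⟨n, hn⟩ := IsPGroup.iff_card.1 h3
      have h6 : T.relIndex (o2 (⊤ : Subgroup H) ⊔ T) ∣ 2 ^ n := by
        rw [← hn]
        exact relIndex_dvd_card _ _
      obtain ⟨k, -, hk⟩ := (Nat.dvd_prime_pow Nat.prime_two).1 h6
      rcases Nat.eq_zero_or_pos k with h7 | h7
      · rw [hk, h7, pow_zero]
      · exfalso
        apply h.syl
        rw [← h4, hk]
        exact dvd_mul_of_dvd_left (dvd_pow_self 2 h7.ne') _
    exact le_sup_left.trans (relIndex_eq_one.1 h5)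
  refine eq_bot_of_fix h.faith h.irr ?_ h.x1 fun n hn => h.toTwo.tx (h1 hn)
  rw [← normalizer_eq_top_iff, eq_top_iff]
  exact le_normalizer_o2 _

/-- a normal subgroup has no normal 2-subgroup -/
theorem bot_of_norm {N Q : Subgroup H} (hN : N.Normal) (hQN : Q ≤ N) (hQ : IsPGroup 2 Q)
    (hn : N ≤ normalizer (Q : Set H)) : Q = ⊥ := by
  have h1 := le_o2_top hN hQN hQ hn
  rw [o2_top h] at h1
  exact le_bot_iff.1 h1

theorem comm_sub {N : Subgroup H} (hN : N.Normal) (hA : A ≤ centralizer (N : Set H)) :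
    N ≤ centralizer (normalClosure (A : Set H) : Set H) := by
  have h1 : normalClosure (A : Set H) ≤ centralizer (N : Set H) := by
    have : (centralizer (N : Set H)).Normal := inferInstance
    exact normalClosure_le_normal hA
  intro n hn
  rw [mem_centralizer_iff]
  intro k hk
  exact (mem_centralizer_iff.1 (h1 hk) n hn).symm

/-- `[N, A] = 1` if `NT < H` -/
theorem comm_of_ne {N : Subgroup H} (hN : N.Normal) (hne : N ⊔ T ≠ ⊤) : A ≤ centralizer (N : Set H) := by
  have h1 := h.low (N ⊔ T) le_sup_right hne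
  have h2 : N ⊓ o2 (N ⊔ T) = ⊥ := by
    refine bot_of_norm h hN inf_le_left ((o2_isPGroup _).to_le inf_le_right) ?_
    intro n hn
    have h3 := le_normalizer_o2 (N ⊔ T) (mem_sup_left hn)
    rw [mem_normalizer_iff] at h3 ⊢
    intro z
    constructor
    · rintro ⟨hz1, hz2⟩
      exact ⟨hN.conj_mem z hz1 n, (h3 z).1 hz2⟩
    · rintro ⟨hz1, hz2⟩
      refine ⟨?_, (h3 z).2 hz2⟩
      have := hN.conj_mem _ hz1 n⁻¹
      have h6 : n⁻¹ * (n * z * n⁻¹) * n⁻¹⁻¹ = z := by group
      rwa [h6] at this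
  intro a ha
  rw [mem_centralizer_iff]
  intro n hn
  have h3 : n * a * n⁻¹ * a⁻¹ ∈ N ⊓ o2 (N ⊔ T) := by
    constructor
    · have h4 : a * n⁻¹ * a⁻¹ ∈ N := hN.conj_mem _ (inv_mem hn) a
      have h5 : n * a * n⁻¹ * a⁻¹ = n * (a * n⁻¹ * a⁻¹) := by group
      rw [h5]
      exact N.mul_mem hn h4
    · exact (o2 (N ⊔ T)).mul_mem ((mem_normalizer_iff.1 (le_normalizer_o2 (N ⊔ T) (mem_sup_left hn)) a).1 (h1 ha))
        ((o2 (N ⊔ T)).inv_mem (h1 ha))
  rw [h2, mem_bot] at h3
  have h4 : n * a = (n * a * n⁻¹ * a⁻¹) * (a * n) := by group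
  rw [h4, h3, one_mul]

/-- `H = K₀T` -/
theorem sup_closure : normalClosure (A : Set H) ⊔ T = ⊤ := by
  by_contra hne
  have h1 : A ≤ centralizer (normalClosure (A : Set H) : Set H) := comm_of_ne h inferInstance hne
  have h2 := h.low _ le_sup_right hne
  have h3 : normalClosure (A : Set H) ⊓ o2 (normalClosure (A : Set H) ⊔ T) = ⊥ := by
    refine bot_of_norm h inferInstance inf_le_left ((o2_isPGroup _).to_le inf_le_right) ?_
    intro n hn
    have h3 := le_normalizer_o2 (normalClosure (A : Set H) ⊔ T) (mem_sup_left hn)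
    rw [mem_normalizer_iff] at h3 ⊢
    intro z
    have hN : (normalClosure (A : Set H)).Normal := inferInstance
    constructor
    · rintro ⟨hz1, hz2⟩
      exact ⟨hN.conj_mem z hz1 n, (h3 z).1 hz2⟩
    · rintro ⟨hz1, hz2⟩
      refine ⟨?_, (h3 z).2 hz2⟩
      have := hN.conj_mem _ hz1 n⁻¹
      have h6 : n⁻¹ * (n * z * n⁻¹) * n⁻¹⁻¹ = z := by group
      rwa [h6] at this
  apply h.A1
  rw [eq_bot_iff, ← h3]
  exact le_inf subset_normalClosure h2

/-- a minimal normal subgroup not centralised by `K₀` -/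
theorem exists_E : ∃ E : Subgroup H, E.Normal ∧ E ⊔ T = ⊤ ∧ ¬ A ≤ centralizer (E : Set H) ∧
    ∀ N : Subgroup H, N.Normal → N ≤ E → N = ⊥ ∨ N = E := by
  classical
  -- the smallest normal subgroup not centralised by `A`
  have hex : ∃ n : ℕ, ∃ E : Subgroup H, E.Normal ∧ ¬ A ≤ centralizer (E : Set H) ∧ Nat.card E = n := by
    refine ⟨_, ⊤, inferInstance, ?_, rfl⟩
    intro h1
    apply h.A1
    have h2 : A ≤ o2 (⊤ : Subgroup H) := by
      refine le_o2 le_top (h.two.to_le h.AT) ?_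
      intro g _
      rw [mem_normalizer_iff]
      intro z
      have h3 : ∀ z ∈ A, g * z * g⁻¹ = z := fun z hz => by
        rw [mem_centralizer_iff.1 (h1 hz) g (mem_top g), mul_inv_cancel_right]
      constructor
      · intro hz
        rwa [h3 z hz]
      · intro hz
        have h4 : g * (g * z * g⁻¹) * g⁻¹ = g * z * g⁻¹ := h3 _ hz
        have h5 : g * z * g⁻¹ = z := by
          have h6 := congrArg (fun w => g⁻¹ * w * g) h4
          simpa [mul_assoc] using h6
        rwa [h5] at hz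
    rw [o2_top h] at h2
    exact le_bot_iff.1 h2
  obtain ⟨E, hE, hEA, hEn⟩ := Nat.find_spec hex
  have hmin : ∀ N : Subgroup H, N.Normal → N ≤ E → N ≠ E → A ≤ centralizer (N : Set H) := by
    intro N hN hNE hne
    by_contra hc
    have h1 := Nat.find_min' hex ⟨N, hN, hc, rfl⟩
    rw [← hEn] at h1
    exact hne (eq_of_le_of_card_ge hNE h1)
  have hET : E ⊔ T = ⊤ := by
    by_contra hne
    exact hEA (comm_of_ne h hE hne)
  -- `Z = C_E(K₀)` is trivial
  set K := normalClosure (A : Set H) with hK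
  have hKn : K.Normal := inferInstance
  have hZn : (E ⊓ centralizer (K : Set H)).Normal := inferInstance
  have hZ : E ⊓ centralizer (K : Set H) = ⊥ := by
    by_cases hfix : ∀ n ∈ E ⊓ centralizer (K : Set H), n • x = x
    · exact eq_bot_of_fix h.faith h.irr hZn h.x1 hfix
    exfalso
    push Not at hfix
    obtain ⟨n, hn, hnx⟩ := hfix
    have h1 : ∃ P : Subgroup H, IsMinPar T P ∧ P ≤ (E ⊓ centralizer (K : Set H)) ⊔ T ∧
        ¬ P ≤ MulAction.stabilizer H x := by
      by_contra hc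
      push Not at hc
      have h2 : (E ⊓ centralizer (K : Set H)) ⊔ T ≤ MulAction.stabilizer H x :=
        le_of_forall le_sup_right (fun g hg => MulAction.mem_stabilizer_iff.2 (h.nx g hg.2)) hc
      exact hnx (MulAction.mem_stabilizer_iff.1 (h2 (mem_sup_left hn)))
    obtain ⟨P, hP, hPZ, hPx⟩ := h1
    have h2 : ∃ p ∈ P, p • x ≠ x := by
      by_contra hc
      push Not at hc
      exact hPx fun p hp => MulAction.mem_stabilizer_iff.2 (hc p hp)
    have h3 := (h.uni P hP h2).2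
    have h4 := dedekind hZn hP.le hPZ
    have h5 : (P ⊓ (E ⊓ centralizer (K : Set H))).Normal := by
      refine normal_of_sup (sup_closure h) ?_ ?_
      · intro k hk
        rw [mem_normalizer_iff]
        intro z
        have h6 : ∀ z ∈ centralizer (K : Set H), k * z * k⁻¹ = z := fun z hz => by
          rw [mem_centralizer_iff.1 hz k hk, mul_inv_cancel_right]
        constructor
        · rintro ⟨hz1, hz2, hz3⟩
          rw [h6 z hz3]
          exact ⟨hz1, hz2, hz3⟩
        · rintro ⟨hz1, hz2, hz3⟩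
          have h7 : k * (k * z * k⁻¹) * k⁻¹ = k * z * k⁻¹ := h6 _ hz3
          have h8 : k * z * k⁻¹ = z := by
            have h9 := congrArg (fun w => k⁻¹ * w * k) h7
            simpa [mul_assoc] using h9
          rw [h8] at hz1 hz2 hz3
          exact ⟨hz1, hz2, hz3⟩
      · intro t ht
        rw [mem_normalizer_iff]
        intro z
        constructor
        · rintro ⟨hz1, hz2⟩
          exact ⟨P.mul_mem (P.mul_mem (hP.le ht) hz1) (P.inv_mem (hP.le ht)), hZn.conj_mem z hz2 t⟩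
        · rintro ⟨hz1, hz2⟩
          have h7 : t⁻¹ * (t * z * t⁻¹) * t⁻¹⁻¹ = z := by group
          refine ⟨?_, ?_⟩
          · rw [← h7]
            exact P.mul_mem (P.mul_mem (P.inv_mem (hP.le ht)) hz1) (P.inv_mem (P.inv_mem (hP.le ht)))
          · rw [← h7]
            exact hZn.conj_mem _ hz2 t⁻¹
    have h6 : P ⊓ (E ⊓ centralizer (K : Set H)) = ⊥ :=
      eq_bot_of_fix h.faith h.irr h5 h.y1 fun n hn => h3 n hn.1
    rw [h6, bot_sup_eq] at h4
    exact hP.ne h4
  refine ⟨E, hE, hET, hEA, fun N hN hNE => ?_⟩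
  by_cases hne : N = E
  · exact Or.inr hne
  · left
    rw [eq_bot_iff, ← hZ]
    exact le_inf hNE (comm_sub h hN (hmin N hN hNE hne))

/-- a minimal normal supplement of `T` is not abelian -/
theorem not_comm {E : Subgroup H} (hE : E.Normal) (hET : E ⊔ T = ⊤) (hEA : ¬ A ≤ centralizer (E : Set H))
    (hmin : ∀ N : Subgroup H, N.Normal → N ≤ E → N = ⊥ ∨ N = E) : ¬ ∀ a ∈ E, ∀ b ∈ E, Commute a b := by
  intro hab
  have hE1 : E ≠ ⊥ := by
    rintro rfl
    apply hEA
    intro a _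
    rw [mem_centralizer_iff]
    intro n hn
    rw [coe_bot, Set.mem_singleton_iff] at hn
    rw [hn, one_mul, mul_one]
  obtain ⟨p, hp, hpE, -⟩ := abelian_structure E hE1 hmin hab
  have hp2 : p ≠ 2 := by
    rintro rfl
    exact hE1 (bot_of_norm h hE le_rfl hpE le_normalizer)
  have : Fact p.Prime := ⟨hp⟩
  have htriv : ∀ z : H, z ∈ E → ∀ Q : Subgroup H, IsPGroup 2 Q → z ∈ Q → z = 1 := by
    intro z hz Q hQ hzQ
    have h1 : Disjoint E Q := IsPGroup.disjoint_of_ne _ _ hp2 _ _ hpE hQ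
    have h2 : z ∈ E ⊓ Q := ⟨hz, hzQ⟩
    rw [disjoint_iff.1 h1, mem_bot] at h2
    exact h2
  -- the subgroup `D` of `E` centralised by all `T`-conjugates of `A`
  let D : Subgroup H := E ⊓ centralizer {z : H | ∃ t ∈ T, ∃ a ∈ A, z = t * a * t⁻¹}
  have hDT : ∀ s ∈ T, ∀ d ∈ D, s * d * s⁻¹ ∈ D := by
    intro s hs d hd
    refine ⟨hE.conj_mem d hd.1 s, mem_centralizer_iff.2 ?_⟩
    rintro _ ⟨t, ht, a, ha, rfl⟩
    have h1 := mem_centralizer_iff.1 hd.2 _ ⟨s⁻¹ * t, mul_mem (inv_mem hs) ht, a, ha, rfl⟩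
    have h2 := congrArg (fun w => s * w * s⁻¹) h1
    simp only [mul_inv_rev, inv_inv] at h2
    calc t * a * t⁻¹ * (s * d * s⁻¹) = s * (s⁻¹ * t * a * (t⁻¹ * s) * d) * s⁻¹ := by group
      _ = s * (d * (s⁻¹ * t * a * (t⁻¹ * s))) * s⁻¹ := h2
      _ = s * d * s⁻¹ * (t * a * t⁻¹) := by group
  have hDn : T ≤ normalizer (D : Set H) := by
    intro s hs
    rw [mem_normalizer_iff]
    intro z
    refine ⟨hDT s hs z, fun hz => ?_⟩
    have h1 := hDT s⁻¹ (inv_mem hs) _ hz
    have h2 : s⁻¹ * (s * z * s⁻¹) * s⁻¹⁻¹ = z := by group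
    rwa [h2] at h1
  refine h.nmax ⟨D ⊔ T, ?_, ?_⟩
  · intro htop
    apply hEA
    intro a ha
    rw [mem_centralizer_iff]
    intro e he
    have h1 : e ∈ D ⊔ T := htop ▸ mem_top e
    have h2 : e ∈ ((D ⊔ T : Subgroup H) : Set H) := h1
    rw [coe_mul_of_right_le_normalizer_left D T hDn] at h2
    obtain ⟨d, hd, t, ht, rfl⟩ := h2
    have h3 : t ∈ E := by
      have := E.mul_mem (E.inv_mem hd.1) he
      simpa using this
    have h4 : t = 1 := htriv t h3 T h.two ht
    rw [h4]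
    simp only [mul_one]
    have h5 := mem_centralizer_iff.1 hd.2 a ⟨1, one_mem T, a, ha, by group⟩
    exact h5.symm
  · intro R hTR hR
    have h1 : R ⊓ E ⊔ T = R := dedekind hE hTR (by rw [hET]; exact le_top)
    rw [← h1]
    refine sup_le_sup_right ?_ T
    intro e he
    refine ⟨he.2, mem_centralizer_iff.2 ?_⟩
    rintro _ ⟨t, ht, a, ha, rfl⟩
    have h2 := h.low R hTR hR ha
    have h3 : t * a * t⁻¹ ∈ o2 R := (mem_normalizer_iff.1 (le_normalizer_o2 R (hTR ht)) a).1 h2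
    set b := t * a * t⁻¹ with hb
    have h4 : e * b * e⁻¹ ∈ o2 R := (mem_normalizer_iff.1 (le_normalizer_o2 R he.1) b).1 h3
    have h5 : e * b * e⁻¹ * b⁻¹ = 1 := by
      refine htriv _ ?_ (o2 R) (o2_isPGroup R) (mul_mem h4 (inv_mem h3))
      have h6 : b * e⁻¹ * b⁻¹ ∈ E := hE.conj_mem _ (inv_mem he.2) b
      have h7 : e * b * e⁻¹ * b⁻¹ = e * (b * e⁻¹ * b⁻¹) := by group
      rw [h7]
      exact mul_mem he.2 h6
    have h6 : e * b = (e * b * e⁻¹ * b⁻¹) * (b * e) := by group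
    rw [h6, h5, one_mul]

theorem centralizer_eq {E : Subgroup H} (hE : E.Normal) (hET : E ⊔ T = ⊤)
    (hmin : ∀ N : Subgroup H, N.Normal → N ≤ E → N = ⊥ ∨ N = E)
    (hna : ¬ ∀ a ∈ E, ∀ b ∈ E, Commute a b) : centralizer (E : Set H) = ⊥ := by
  have h1 : E ⊓ centralizer (E : Set H) = ⊥ := by
    rcases hmin (E ⊓ centralizer (E : Set H)) inferInstance inf_le_left with h1 | h1
    · exact h1
    · exfalso
      apply hna
      intro a ha b hb
      have h2 : b ∈ E ⊓ centralizer (E : Set H) := by rw [h1]; exact hb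
      exact mem_centralizer_iff.1 h2.2 a ha
  have hCn : (centralizer (E : Set H)).Normal := inferInstance
  refine bot_of_norm h hCn le_rfl ?_ le_normalizer
  -- `C_H(E)` embeds in `H / E`, an image of `T`
  let f : centralizer (E : Set H) →* H ⧸ E := (QuotientGroup.mk' E).comp (centralizer (E : Set H)).subtype
  have hf : Function.Injective f := by
    rw [injective_iff_map_eq_one]
    intro c hc
    have h2 : (c : H) ∈ E := (QuotientGroup.eq_one_iff (c : H)).1 hc
    have h3 : (c : H) ∈ E ⊓ centralizer (E : Set H) := ⟨h2, c.2⟩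
    rw [h1, mem_bot] at h3
    exact Subtype.ext h3
  have h2 : IsPGroup 2 (H ⧸ E) := by
    have h3 : Function.Surjective ((QuotientGroup.mk' E).comp T.subtype) := by
      intro q
      obtain ⟨g, rfl⟩ := QuotientGroup.mk'_surjective E q
      have h4 : g ∈ E ⊔ T := hET ▸ mem_top g
      rw [mem_sup_of_normal_left] at h4
      obtain ⟨e, he, t, ht, rfl⟩ := h4
      refine ⟨⟨t, ht⟩, ?_⟩
      change (t : H ⧸ E) = ((e * t : H) : H ⧸ E)
      rw [QuotientGroup.eq]
      have : t⁻¹ * (e * t) = t⁻¹ * e * t⁻¹⁻¹ := by group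
      rw [this]
      exact hE.conj_mem e he t⁻¹
    exact h.two.of_surjective _ h3
  exact h2.of_injective f hf

end SysF

/-- **the structure of `H`** -/
theorem exists_structure (h : Sys T A V x y) : ∃ E : Subgroup H, E.Normal ∧ E ⊔ T = ⊤ ∧
    centralizer (E : Set H) = ⊥ ∧ (∀ N : Subgroup H, N.Normal → N ≤ E → N = ⊥ ∨ N = E) ∧
    (¬ ∀ a ∈ E, ∀ b ∈ E, Commute a b) ∧
    (minSet E).Nonempty ∧ sSupIndep (minSet E) ∧ sSup (minSet E) = E ∧ (∀ L ∈ minSet E, IsSimpleGroup L) ∧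
    (∀ L ∈ minSet E, ∀ z ∈ L, (∀ t ∈ L, Commute z t) → z = 1) ∧
    (∀ S ∈ minSet E, ∀ L ∈ minSet E, ∃ t ∈ T, L = S.map (MulAut.conj t).toMonoidHom) := by
  obtain ⟨E, hE, hET, hEA, hmin⟩ := SysF.exists_E h
  have hna := SysF.not_comm h hE hET hEA hmin
  obtain ⟨h1, h2, h3, h4, h5, h6⟩ := nonabelian_structure E hmin hna
  refine ⟨E, hE, hET, SysF.centralizer_eq h hE hET hmin hna, hmin, hna, h1, h2, h3, h4, h5, ?_⟩
  intro S hS L hL
  obtain ⟨g, rfl⟩ := h6 S hS L hL
  have h7 : g ∈ T ⊔ E := by rw [sup_comm, hET]; exact mem_top g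
  rw [mem_sup_of_normal_right] at h7
  obtain ⟨t, ht, e, he, rfl⟩ := h7
  refine ⟨t, ht, ?_⟩
  have h8 : S.map (MulAut.conj e).toMonoidHom = S := by
    have h9 := hS.2.2.1 he
    ext z
    constructor
    · rintro ⟨w, hw, rfl⟩
      exact (mem_normalizer_iff.1 h9 w).1 hw
    · intro hz
      refine ⟨e⁻¹ * z * e, ?_, ?_⟩
      · have h10 := (mem_normalizer_iff.1 (inv_mem h9) z).1 hz
        simpa using h10
      · change e * (e⁻¹ * z * e) * e⁻¹ = z
        group
  rw [map_mul]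
  change S.map ((MulAut.conj t).toMonoidHom.comp (MulAut.conj e).toMonoidHom) = _
  rw [← Subgroup.map_map, h8]

end Cfsg.Agent.Omega.KL.Str
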