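import Mathlib

/-!
# THEOREM I(q) (helper918 #24006 (4)), abstract

`P` acts on the elementary abelian group `M` (written additively), `V` is a natural `SL₂(q)`-module in `M` (field
automorphisms allowed), `Z₂ = C_V(A)`, `|Z₂| = q`, a line normalised by `S`; `Z₁` is normalised by `P` and centralised by
`A ≤ S`, which induces the full root group on `V` and is exact on `M`.
If `[r, S] ≤ Z₁ + Z₂` then some `c ∈ r + V` is centralised by `⟨A^P⟩`, and `[c, S] ≤ Z₁` (`Dat.exists_c`).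
-/

set_option autoImplicit false
set_option linter.unusedSectionVars false

namespace Cfsg.Agent.Omega.KL.ThmIq

variable {P M : Type*} [Group P] [AddCommGroup M] [DistribMulAction P M]

/-- The fixed points of a subgroup. -/
def fx (M : Type*) [AddCommGroup M] [DistribMulAction P M] (B : Subgroup P) : AddSubgroup M where
  carrier := {m | ∀ b ∈ B, b • m = m}
  zero_mem' := fun b _ => smul_zero b
  add_mem' := fun {x y} hx hy b hb => by rw [smul_add, hx b hb, hy b hb]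
  neg_mem' := fun {x} hx b hb => by rw [smul_neg, hx b hb]

theorem mem_fx {B : Subgroup P} {m : M} : m ∈ fx M B ↔ ∀ b ∈ B, b • m = m := Iff.rfl

/-- The pointwise stabiliser. -/
def cV (V : AddSubgroup M) : Subgroup P where
  carrier := {g | ∀ v ∈ V, g • v = v}
  one_mem' := fun v _ => one_smul P v
  mul_mem' := fun {x y} hx hy v hv => by rw [mul_smul, hy v hv, hx v hv]
  inv_mem' := fun {x} hx v hv => by rw [inv_smul_eq_iff, hx v hv]

theorem mem_cV {V : AddSubgroup M} {g : P} : g ∈ (cV V : Subgroup P) ↔ ∀ v ∈ V, g • v = v := Iff.rfl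

theorem card_mul_relIndex {H K : AddSubgroup M} (h : H ≤ K) : Nat.card H * H.relIndex K = Nat.card K := by
  have := AddSubgroup.relIndex_mul_relIndex ⊥ H K bot_le h
  rwa [AddSubgroup.relIndex_bot_left, AddSubgroup.relIndex_bot_left] at this

theorem card_mul_relIndex' {H K : Subgroup P} (h : H ≤ K) : Nat.card H * H.relIndex K = Nat.card K := by
  have := Subgroup.relIndex_mul_relIndex ⊥ H K bot_le h
  rwa [Subgroup.relIndex_bot_left, Subgroup.relIndex_bot_left] at this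

/-- The data of THEOREM I(q). No field automorphisms: `E = ⊤`. -/
structure Dat (V Z1 Z2 : AddSubgroup M) (S A E : Subgroup P) : Prop where
  two : ∀ m : M, m + m = 0
  inv : ∀ (g : P) (v : M), v ∈ V → g • v ∈ V
  inv1 : ∀ (g : P) (z : M), z ∈ Z1 → g • z ∈ Z1
  fix : ∀ a ∈ A, ∀ z ∈ Z1, a • z = z
  disj : ∀ z : M, z ∈ V → z ∈ Z1 → z = 0
  le : Z2 ≤ V
  ti : ∀ (g : P) (u z : M), u ∈ Z2 → g • u ∉ Z2 → z ∈ Z2 → g • z ∈ Z2 → z = 0
  mv : ∃ (g : P) (u : M), u ∈ Z2 ∧ g • u ∉ Z2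
  AS : A ≤ S
  AE : A ≤ E
  nE : E.Normal
  comm : ∀ a ∈ A, ∀ v ∈ V, a • v - v ∈ Z2
  cent : ∀ a ∈ A, ∀ z ∈ Z2, a • z = z
  gen : ∀ s ∈ S, s ∈ E → ∃ a ∈ A, ∀ v ∈ V, s • v = a • v
  nrm : ∀ (g s : P), s ∈ S → (∀ v ∈ V, s • v = v) → g * s * g⁻¹ ∈ S
  reg : ∀ a ∈ A, (∃ v ∈ V, a • v ≠ v) → ∀ v ∈ V, a • v = v → v ∈ Z2
  ab : ∀ a ∈ A, ∀ b ∈ A, a * b = b * a
  cardV : Nat.card V = Nat.card Z2 * Nat.card Z2
  cardA : Nat.card A = Nat.card Z2 * Nat.card (A ⊓ cV V : Subgroup P)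
  bd : ∀ C ≤ A, Nat.card C * Nat.card (fx M C) ≤ Nat.card A * Nat.card (fx M A)
  k3 : ∀ C ≤ A, Nat.card C * Nat.card (fx M C) = Nat.card A * Nat.card (fx M A) →
    ∀ n : M, (∀ b ∈ C, b • n - n ∈ Z1) → ∀ b ∈ C, b • n = n

namespace Dat

variable {V Z1 Z2 : AddSubgroup M} {S A E : Subgroup P} (D : Dat V Z1 Z2 S A E)
include D

theorem neg_eq (m : M) : -m = m := by
  have := D.two m
  exact neg_eq_of_add_eq_zero_left this

theorem sub_eq (m n : M) : m - n = m + n := by rw [sub_eq_add_neg, D.neg_eq]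

/-- some `a ∈ A` moves `V` -/
theorem exists_mv [Finite P] [Finite M] : ∃ a ∈ A, ∃ v ∈ V, a • v ≠ v := by
  by_contra hcon
  push Not at hcon
  have h1 : A ⊓ cV V = A := inf_eq_left.2 fun a ha => mem_cV.2 (hcon a ha)
  have h2 := D.cardA
  rw [h1] at h2
  have h3 : 0 < Nat.card A := Nat.card_pos
  have h4 : Nat.card Z2 = 1 := by
    have : Nat.card Z2 * Nat.card A = 1 * Nat.card A := by rw [← h2, one_mul]
    exact Nat.eq_of_mul_eq_mul_right h3 this
  obtain ⟨g, u, hu, hg⟩ := D.mv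
  have h5 : Z2 = ⊥ := AddSubgroup.card_eq_one.1 h4
  rw [h5] at hu hg
  rw [AddSubgroup.mem_bot] at hu
  subst hu
  exact hg (by simp)

section fin

variable [Finite P] [Finite M]

theorem inf_fx : V ⊓ fx M A = Z2 := by
  refine le_antisymm ?_ (le_inf D.le fun z hz a ha => D.cent a ha z hz)
  obtain ⟨a, ha, hv⟩ := D.exists_mv
  exact fun v hv' => D.reg a ha hv v hv'.1 (hv'.2 a ha)

/-- `|V + C_M(A)| = q |C_M(A)|` -/
theorem card_sup : Nat.card (V ⊔ fx M A : AddSubgroup M) = Nat.card Z2 * Nat.card (fx M A) := by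
  have h1 := card_mul_relIndex (H := fx M A) (K := V ⊔ fx M A) le_sup_right
  have h2 : (fx M A).relIndex (V ⊔ fx M A) = (fx M A).relIndex V := by
    rw [sup_comm]
    exact AddSubgroup.relIndex_sup_left _ _
  have h3 : (fx M A).relIndex V = Nat.card Z2 := by
    have h4 := card_mul_relIndex (H := V ⊓ fx M A) (K := V) inf_le_left
    rw [AddSubgroup.inf_relIndex_left, D.inf_fx, D.cardV] at h4
    exact Nat.eq_of_mul_eq_mul_left Nat.card_pos h4
  rw [← h1, h2, h3, mul_comm]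

/-- `A₀ = C_A(V)` : exact, and `C_M(A₀) = V + C_M(A)` -/
theorem fx_zero : fx M (A ⊓ cV V : Subgroup P) = V ⊔ fx M A ∧
    Nat.card (A ⊓ cV V : Subgroup P) * Nat.card (fx M (A ⊓ cV V : Subgroup P)) = Nat.card A * Nat.card (fx M A) := by
  have h1 : V ⊔ fx M A ≤ fx M (A ⊓ cV V : Subgroup P) :=
    sup_le (fun v hv a ha => ha.2 v hv) fun m hm a ha => hm a ha.1
  have h2 := D.bd (A ⊓ cV V) inf_le_left
  have h3 : 0 < Nat.card (A ⊓ cV V : Subgroup P) := Nat.card_pos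
  have h4 := D.card_sup
  have h5 : Nat.card (fx M (A ⊓ cV V : Subgroup P)) ≤ Nat.card (V ⊔ fx M A : AddSubgroup M) := by
    rw [h4]
    rw [D.cardA] at h2
    refine Nat.le_of_mul_le_mul_left (c := Nat.card (A ⊓ cV V : Subgroup P)) ?_ h3
    calc _ ≤ _ := h2
      _ = _ := by ring
  have h6 : V ⊔ fx M A = fx M (A ⊓ cV V : Subgroup P) := AddSubgroup.eq_of_le_of_card_ge h1 h5
  refine ⟨h6.symm, ?_⟩
  rw [← h6, h4, D.cardA]
  ring

/-- `|A : A₀| = q` -/
theorem relIndex_zero : (A ⊓ cV V : Subgroup P).relIndex A = Nat.card Z2 := by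
  have h1 := card_mul_relIndex' (H := (A ⊓ cV V : Subgroup P)) (K := A) inf_le_left
  rw [D.cardA, mul_comm] at h1
  exact Nat.eq_of_mul_eq_mul_right Nat.card_pos h1

/-- The subgroup of `A₀` with `[r₀, b] ∈ Z₁`. -/
def kr (r0 : M) : Subgroup P where
  carrier := {b | (b ∈ A ∧ b ∈ (cV V : Subgroup P)) ∧ b • r0 - r0 ∈ Z1}
  one_mem' := ⟨⟨one_mem _, one_mem _⟩, by simp⟩
  mul_mem' := fun {x y} hx hy => ⟨⟨mul_mem hx.1.1 hy.1.1, mul_mem hx.1.2 hy.1.2⟩, by
    have : (x * y) • r0 - r0 = (y • r0 - r0) + (x • r0 - r0) := by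
      have h1 : x • (y • r0 - r0) = y • r0 - r0 := D.fix x hx.1.1 _ hy.2
      rw [mul_smul]
      rw [smul_sub] at h1
      rw [← h1]; abel
    rw [this]
    exact add_mem hy.2 hx.2⟩
  inv_mem' := fun {x} hx => ⟨⟨inv_mem hx.1.1, inv_mem hx.1.2⟩, by
    have h1 : x⁻¹ • (x • r0 - r0) = x • r0 - r0 := D.fix x⁻¹ (A.inv_mem hx.1.1) _ hx.2
    rw [smul_sub, inv_smul_smul] at h1
    have h2 : x⁻¹ • r0 - r0 = -(x • r0 - r0) := by rw [← h1]; abel
    rw [h2]
    exact neg_mem hx.2⟩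

theorem mem_kr {r0 : M} {b : P} : b ∈ D.kr r0 ↔ (b ∈ A ∧ b ∈ (cV V : Subgroup P)) ∧ b • r0 - r0 ∈ Z1 := Iff.rfl

/-- `[l r, b] = α(b) + l β(b)` -/
theorem comm_b {r : M} (hr : ∀ s ∈ S, s • r - r ∈ Z1 ⊔ Z2) (l : P) {b : P} (hb : b ∈ S) (hb' : b ∈ (cV V : Subgroup P)) :
    ∃ z1 ∈ Z1, ∃ z2 ∈ Z2, b • (l • r) - l • r = z1 + l • z2 := by
  have h1 : l⁻¹ * b * l ∈ S := by simpa using D.nrm l⁻¹ b hb hb'
  obtain ⟨z1, h2, z2, h3, h4⟩ := AddSubgroup.mem_sup.1 (hr _ h1)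
  refine ⟨l • z1, D.inv1 l z1 h2, z2, h3, ?_⟩
  have h5 : l • ((l⁻¹ * b * l) • r - r) = b • (l • r) - l • r := by
    rw [smul_sub, ← mul_smul, ← mul_smul]
    congr 2
    group
  rw [← h5, ← h4, smul_add]

theorem step_one {r : M} (hr : ∀ s ∈ S, s • r - r ∈ Z1 ⊔ Z2) {l : P} {u : M} (hu : u ∈ Z2) (hlu : l • u ∉ Z2) :
    l • r ∈ V ⊔ fx M A := by
  obtain ⟨r0, hr0⟩ : ∃ r0, r0 = l • r := ⟨_, rfl⟩
  rw [← hr0]
  set A0 : Subgroup P := A ⊓ cV V with hA0
  have hc : ∀ b ∈ A0, ∃ z1 ∈ Z1, ∃ z2 ∈ Z2, b • r0 - r0 = z1 + l • z2 := fun b hb => by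
    rw [hr0]
    exact D.comm_b hr l (D.AS hb.1) hb.2
  obtain ⟨hf0, hx0⟩ := D.fx_zero
  by_cases hall : ∀ b ∈ A0, b • r0 - r0 ∈ Z1
  · have h1 := D.k3 A0 inf_le_left hx0 r0 hall
    rw [← hf0]
    exact fun b hb => h1 b hb
  exfalso
  push Not at hall
  obtain ⟨b0, hb0, hb0'⟩ := hall
  set K := D.kr r0 with hK
  have hKA0 : K ≤ A0 := fun b hb => hb.1
  have hKA : K ≤ A := fun b hb => hb.1.1
  -- `|A₀ : K| ≤ q`
  have h1 : K.relIndex A0 ≤ Nat.card Z2 := by
    choose! z1 hz1 z2 hz2 he using hc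
    let f : (A0 ⧸ K.subgroupOf A0) → Z2 := fun x => ⟨z2 (Quotient.out x : A0), hz2 _ (Quotient.out x : A0).2⟩
    have hf : Function.Injective f := by
      intro x y hxy
      have h2 : z2 (Quotient.out x : A0) = z2 (Quotient.out y : A0) := congrArg Subtype.val hxy
      have h3 := he _ (Quotient.out x : A0).2
      have h4 := he _ (Quotient.out y : A0).2
      have hx1 := hz1 _ (Quotient.out x : A0).2
      have hy1 := hz1 _ (Quotient.out y : A0).2
      rw [← QuotientGroup.out_eq' x, ← QuotientGroup.out_eq' y, QuotientGroup.eq]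
      rw [Subgroup.mem_subgroupOf]
      refine (D.mem_kr).2 ⟨(mul_mem (inv_mem (Quotient.out x : A0).2) (Quotient.out y : A0).2), ?_⟩
      have h5 : ((((Quotient.out x : A0))⁻¹ * (Quotient.out y : A0) : A0) : P) • r0 - r0
          = (z1 (Quotient.out y : A0)) - z1 (Quotient.out x : A0) := by
        have h6 : ((((Quotient.out x : A0))⁻¹ * (Quotient.out y : A0) : A0) : P) • r0 - r0
            = ((Quotient.out x : A0) : P)⁻¹ • (((Quotient.out y : A0) : P) • r0 - r0 -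
              (((Quotient.out x : A0) : P) • r0 - r0)) := by
          rw [smul_sub, smul_sub, smul_sub, inv_smul_smul, ← mul_smul]
          push_cast
          abel
        rw [h6, h3, h4, h2, add_sub_add_right_eq_sub,
          D.fix _ (A.inv_mem (Quotient.out x : A0).2.1) _ (sub_mem hy1 hx1)]
      rw [h5]
      exact sub_mem hy1 hx1
    exact Nat.card_le_card_of_injective f hf
  have h1' : Nat.card A0 ≤ Nat.card K * Nat.card Z2 := by
    rw [← card_mul_relIndex' hKA0]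
    exact Nat.mul_le_mul_left _ h1
  -- `f_a`
  have hfa : ∀ a ∈ A, a • r0 - r0 ∈ fx M K := by
    intro a ha b hb
    have h2 : a • (b • r0 - r0) = b • r0 - r0 := D.fix a ha _ hb.2
    rw [smul_sub, ← mul_smul, D.ab a ha b hb.1.1] at h2
    rw [smul_sub, ← mul_smul]
    have h3 : (b * a) • r0 = a • r0 + (b • r0 - r0) := by rw [← h2]; abel
    rw [h3]; abel
  have hle : fx M A0 ≤ fx M K := fun m hm b hb => hm b (hKA0 hb)
  obtain ⟨z1, hz1, z2, hz2, he0⟩ := hc b0 hb0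
  have hcomm : ∀ a ∈ A, b0 • (a • r0 - r0) - (a • r0 - r0) = a • (l • z2) - l • z2 := by
    intro a ha
    have h2 : b0 • (a • r0 - r0) - (a • r0 - r0) = a • (b0 • r0 - r0) - (b0 • r0 - r0) := by
      rw [smul_sub, smul_sub, ← mul_smul, ← mul_smul, D.ab a ha b0 hb0.1]
      abel
    rw [h2, he0, smul_add, D.fix a ha z1 hz1]
    abel
  have hinj : ∀ a ∈ A, ∀ a' ∈ A, (a • r0 - r0) - (a' • r0 - r0) ∈ fx M A0 → a⁻¹ * a' ∈ A0 := by
    intro a ha a' ha' hm
    have h2 := hm b0 hb0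
    have h3 : b0 • (a • r0 - r0) - (a • r0 - r0) = b0 • (a' • r0 - r0) - (a' • r0 - r0) := by
      rw [smul_sub] at h2
      rw [sub_eq_sub_iff_sub_eq_sub]
      exact h2
    rw [hcomm a ha, hcomm a' ha', sub_left_inj] at h3
    refine Subgroup.mem_inf.2 ⟨A.mul_mem (A.inv_mem ha) ha', ?_⟩
    by_contra hcon
    have h4 : ∃ v ∈ V, (a⁻¹ * a') • v ≠ v := by
      by_contra h5
      push Not at h5
      exact hcon h5
    have h6 : l • z2 ∈ Z2 := by
      refine D.reg _ (mul_mem (inv_mem ha) ha') h4 _ (D.inv l _ (D.le hz2)) ?_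
      rw [mul_smul, ← h3, inv_smul_smul]
    have h7 := D.ti l u z2 hu hlu hz2 h6
    rw [h7, smul_zero, add_zero] at he0
    rw [he0] at hb0'
    exact hb0' hz1
  let φ : (A ⧸ A0.subgroupOf A) → (fx M K ⧸ (fx M A0).addSubgroupOf (fx M K)) := fun x =>
    QuotientAddGroup.mk ⟨((Quotient.out x : A) : P) • r0 - r0, hfa _ (Quotient.out x : A).2⟩
  have hφ : Function.Injective φ := by
    intro x y hxy
    rw [← QuotientGroup.out_eq' x, ← QuotientGroup.out_eq' y, QuotientGroup.eq, Subgroup.mem_subgroupOf]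
    have h2 := QuotientAddGroup.eq.1 hxy
    rw [AddSubgroup.mem_addSubgroupOf] at h2
    have h3 : (((Quotient.out x : A) : P) • r0 - r0) - (((Quotient.out y : A) : P) • r0 - r0) ∈ fx M A0 := by
      have h4 := neg_mem h2
      have h5 : -(((-(⟨((Quotient.out x : A) : P) • r0 - r0, hfa _ (Quotient.out x : A).2⟩ : fx M K) +
          ⟨((Quotient.out y : A) : P) • r0 - r0, hfa _ (Quotient.out y : A).2⟩ : fx M K)) : M)
          = (((Quotient.out x : A) : P) • r0 - r0) - (((Quotient.out y : A) : P) • r0 - r0) := by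
        push_cast
        abel
      rwa [h5] at h4
    have h6 := hinj _ (Quotient.out x : A).2 _ (Quotient.out y : A).2 h3
    simpa using h6
  have hcardA : Nat.card (A ⧸ A0.subgroupOf A) = Nat.card Z2 := D.relIndex_zero
  have hc2 := D.bd K hKA
  have hc3 := card_mul_relIndex hle
  have hc4 : (fx M A0).relIndex (fx M K) ≤ Nat.card Z2 := by
    have h2 : Nat.card K * Nat.card (fx M K) ≤ Nat.card K * (Nat.card Z2 * Nat.card (fx M A0)) := by
      calc _ ≤ _ := hc2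
        _ = Nat.card A0 * Nat.card (fx M A0) := hx0.symm
        _ ≤ Nat.card K * Nat.card Z2 * Nat.card (fx M A0) := Nat.mul_le_mul_right _ h1'
        _ = _ := by ring
    have h3 := Nat.le_of_mul_le_mul_left h2 Nat.card_pos
    rw [← hc3, mul_comm (Nat.card Z2)] at h3
    exact Nat.le_of_mul_le_mul_left h3 Nat.card_pos
  have hc5 : Nat.card Z2 ≤ (fx M A0).relIndex (fx M K) := by
    rw [← hcardA]
    exact Nat.card_le_card_of_injective φ hφ
  have hc6 : (fx M A0).relIndex (fx M K) = Nat.card Z2 := le_antisymm hc4 hc5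
  have hex : Nat.card K * Nat.card (fx M K) = Nat.card A * Nat.card (fx M A) := by
    refine le_antisymm hc2 ?_
    rw [← hx0, ← hc3, hc6]
    calc _ ≤ Nat.card K * Nat.card Z2 * Nat.card (fx M A0) := Nat.mul_le_mul_right _ h1'
      _ = _ := by ring
  have hr0K : r0 ∈ fx M K := fun b hb => D.k3 K hKA hex r0 (fun b' hb' => hb'.2) b hb
  obtain ⟨x, hx⟩ := (Function.Injective.bijective_of_nat_card_le hφ (by rw [hcardA]; exact hc4)).2
    (QuotientAddGroup.mk ⟨r0, hr0K⟩)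
  have h2 := QuotientAddGroup.eq.1 hx
  rw [AddSubgroup.mem_addSubgroupOf] at h2
  have h3 := h2 b0 hb0
  have h4 := hcomm _ (Quotient.out x : A).2
  set a : P := ((Quotient.out x : A) : P) with ha
  have h5 : b0 • r0 - r0 = b0 • (a • r0 - r0) - (a • r0 - r0) := by
    have h6 : b0 • (-(a • r0 - r0) + r0) = -(a • r0 - r0) + r0 := h3
    rw [smul_add, smul_neg] at h6
    rw [sub_eq_sub_iff_add_eq_add]
    have h7 : b0 • r0 = -(a • r0 - r0) + r0 + b0 • (a • r0 - r0) := by rw [← h6]; abel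
    rw [h7]; abel
  rw [h4, he0] at h5
  have h6 : a • (l • z2) - l • z2 ∈ Z2 := D.comm a (Quotient.out x : A).2 _ (D.inv l _ (D.le hz2))
  have h7 : z1 = (a • (l • z2) - l • z2) - l • z2 := by rw [← h5]; abel
  have h8 : z1 = 0 := D.disj z1 (by rw [h7]; exact sub_mem (D.le h6) (D.inv l _ (D.le hz2))) hz1
  rw [h8, zero_add] at h5 he0
  have h9 := D.ti l u z2 hu hlu hz2 (by rw [h5]; exact h6)
  rw [h9, smul_zero] at he0
  rw [he0] at hb0'
  exact hb0' (zero_mem _)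

/-- The stabiliser of the coset `r + V`. -/
def lam (r : M) : Subgroup P where
  carrier := {g | g • r - r ∈ V}
  one_mem' := by simp
  mul_mem' := fun {x y} hx hy => by
    have : (x * y) • r - r = x • (y • r - r) + (x • r - r) := by rw [mul_smul, smul_sub]; abel
    show (x * y) • r - r ∈ V
    rw [this]
    exact add_mem (D.inv x _ hy) hx
  inv_mem' := fun {x} hx => by
    have : x⁻¹ • r - r = -(x⁻¹ • (x • r - r)) := by rw [smul_sub, inv_smul_smul]; abel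
    show x⁻¹ • r - r ∈ V
    rw [this]
    exact neg_mem (D.inv _ _ hx)

theorem mem_lam {r : M} {g : P} : g ∈ D.lam r ↔ g • r - r ∈ V := Iff.rfl

theorem cV_normal : (cV V : Subgroup P).Normal where
  conj_mem := fun n hn g v hv => by
    rw [mul_smul, mul_smul, hn _ (D.inv _ _ hv), smul_inv_smul]

theorem exists_w {r : M} (hr : ∀ s ∈ S, s • r - r ∈ Z1 ⊔ Z2) {l : P} {u : M} (hu : u ∈ Z2) (hlu : l • u ∉ Z2) :
    (∀ a ∈ A, l⁻¹ * a * l ∈ D.lam r) ∧ ∃ w : M, w - r ∈ V ∧ ∀ a ∈ A, (l⁻¹ * a * l) • w = w := by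
  obtain ⟨v, hv, m, hm, he⟩ := AddSubgroup.mem_sup.1 (D.step_one hr hu hlu)
  have h1 : l⁻¹ • m - r = -(l⁻¹ • v) := by
    have : r = l⁻¹ • v + l⁻¹ • m := by rw [← smul_add, he, inv_smul_smul]
    calc l⁻¹ • m - r = l⁻¹ • m - (l⁻¹ • v + l⁻¹ • m) := by rw [← this]
      _ = _ := by abel
  have h2 : l⁻¹ • m - r ∈ V := by rw [h1]; exact neg_mem (D.inv _ _ hv)
  have h3 : ∀ a ∈ A, (l⁻¹ * a * l) • (l⁻¹ • m) = l⁻¹ • m := fun a ha => by
    rw [mul_smul, mul_smul, smul_inv_smul, hm a ha]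
  refine ⟨fun a ha => ?_, l⁻¹ • m, h2, h3⟩
  rw [mem_lam]
  have h4 : (l⁻¹ * a * l) • r - r = (l⁻¹ • m - r) - (l⁻¹ * a * l) • (l⁻¹ • m - r) := by
    rw [smul_sub, h3 a ha]; abel
  rw [h4]
  exact sub_mem h2 (D.inv _ _ h2)

theorem exists_x {r : M} (hr : ∀ s ∈ S, s • r - r ∈ Z1 ⊔ Z2) :
    ∃ x ∈ D.lam r, x ∈ E ∧ ∃ u ∈ Z2, x • u ∉ Z2 ∧ x⁻¹ • u ∉ Z2 := by
  obtain ⟨l, u, hu, hlu⟩ := D.mv
  obtain ⟨a, ha, hv⟩ := D.exists_mv
  have key : ∀ b ∈ A, (∃ v ∈ V, b • v ≠ v) → (l⁻¹ * b * l) • u ∉ Z2 := by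
    intro b hb hbv hcon
    have h1 : b • (l • u) - l • u ∈ Z2 := D.comm b hb _ (D.inv _ _ (D.le hu))
    have h2 : l • ((l⁻¹ * b * l) • u - u) = b • (l • u) - l • u := by
      rw [smul_sub, ← mul_smul, ← mul_smul]
      congr 2
      group
    have h3 : (l⁻¹ * b * l) • u - u = 0 :=
      D.ti l u _ hu hlu (sub_mem hcon hu) (by rw [h2]; exact h1)
    rw [h3, smul_zero, eq_comm, sub_eq_zero] at h2
    exact hlu (D.reg b hb hbv _ (D.inv _ _ (D.le hu)) h2)
  obtain ⟨v, hv, hav⟩ := hv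
  refine ⟨l⁻¹ * a * l, (D.exists_w hr hu hlu).1 a ha, ?_, u, hu, key a ha ⟨v, hv, hav⟩, ?_⟩
  · simpa using D.nE.conj_mem a (D.AE ha) l⁻¹
  have h4 : (l⁻¹ * a * l)⁻¹ = l⁻¹ * a⁻¹ * l := by group
  rw [h4]
  refine key _ (inv_mem ha) ⟨v, hv, fun h5 => hav ?_⟩
  rw [inv_smul_eq_iff] at h5
  exact h5.symm

/-- a fixed point of `A` in `r + V` -/
theorem exists_c' {r : M} (hr : ∀ s ∈ S, s • r - r ∈ Z1 ⊔ Z2) :
    A ≤ D.lam r ∧ ∃ w : M, w - r ∈ V ∧ ∀ a ∈ A, a • w = w := by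
  obtain ⟨x, hx, -, u, hu, -, hxu⟩ := D.exists_x hr
  obtain ⟨h1, w, hw, h2⟩ := D.exists_w hr hu hxu
  simp only [inv_inv] at h1 h2
  refine ⟨fun a ha => ?_, x⁻¹ • w, ?_, fun a ha => ?_⟩
  · have h3 := (D.lam r).mul_mem ((D.lam r).mul_mem ((D.lam r).inv_mem hx) (h1 a ha)) hx
    have h4 : x⁻¹ * (x * a * x⁻¹) * x = a := by group
    rwa [h4] at h3
  · have h3 : x⁻¹ • w - r = x⁻¹ • (w - r) + (x⁻¹ • r - r) := by rw [smul_sub]; abel
    rw [h3]
    exact add_mem (D.inv _ _ hw) ((D.lam r).inv_mem hx)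
  · have h3 := h2 a ha
    have h4 : x⁻¹ • ((x * a * x⁻¹) • w) = a • (x⁻¹ • w) := by
      rw [← mul_smul, ← mul_smul]
      congr 1
      group
    rw [← h4, h3]

/-- if `g Z₂ ≤ Z₂` then `g⁻¹ Z₂ ≤ Z₂` -/
theorem mem_of_smul {g : P} (hg : ∀ u ∈ Z2, g • u ∈ Z2) {m : M} (hm : g • m ∈ Z2) : m ∈ Z2 := by
  have h1 : ∀ j : ℕ, ∀ u ∈ Z2, g ^ j • u ∈ Z2 := by
    intro j
    induction j with
    | zero => intro u hu; simpa using hu
    | succ j ih =>
      intro u hu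
      rw [pow_succ, mul_smul]
      exact ih _ (hg u hu)
  have h2 := h1 (orderOf g - 1) _ hm
  rwa [← mul_smul, ← pow_succ, Nat.sub_add_cancel (orderOf_pos g), pow_orderOf_eq_one, one_smul] at h2

/-- all conjugates of `A` stabilise `r + V` -/
theorem conj_mem_lam {r : M} (hr : ∀ s ∈ S, s • r - r ∈ Z1 ⊔ Z2) (g : P) {a : P} (ha : a ∈ A) :
    g⁻¹ * a * g ∈ D.lam r := by
  by_cases h : ∃ u ∈ Z2, g • u ∉ Z2
  · obtain ⟨u, hu, hgu⟩ := h
    exact (D.exists_w hr hu hgu).1 a ha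
  push Not at h
  obtain ⟨x, hx, -, u, hu, -, hxu⟩ := D.exists_x hr
  have h1 : (g * x⁻¹) • u ∉ Z2 := fun h2 => hxu (D.mem_of_smul h (by rwa [mul_smul] at h2))
  have h3 := (D.exists_w hr hu h1).1 a ha
  have h4 := (D.lam r).mul_mem ((D.lam r).mul_mem ((D.lam r).inv_mem hx) h3) hx
  have h5 : x⁻¹ * ((g * x⁻¹)⁻¹ * a * (g * x⁻¹)) * x = g⁻¹ * a * g := by group
  rwa [h5] at h4

end fin

end Dat

section syl

variable [Finite P] [Finite M] {V Z1 Z2 : AddSubgroup M} {A E : Subgroup P} {S : Sylow 2 P}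

/-- `C_Λ(V)` centralises `r` -/
theorem Dat.smul_r {r : M} (D : Dat V Z1 Z2 (S : Subgroup P) A E)
    (hr : ∀ s ∈ (S : Subgroup P), s • r - r ∈ Z1 ⊔ Z2) {κ : P} (hκ : κ ∈ D.lam r)
    (hκ' : κ ∈ (cV V : Subgroup P)) : κ • r = r := by
  have hn := D.cV_normal
  -- 2-elements of `C(V)` lie in `S`
  have h2 : ∀ y ∈ (cV V : Subgroup P), IsPGroup 2 (Subgroup.zpowers y) → y ∈ (S : Subgroup P) := by
    intro y hy hp
    obtain ⟨Q, hQ⟩ := hp.exists_le_sylow
    obtain ⟨g, hg⟩ := MulAction.exists_smul_eq P S Q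
    have h3 : y ∈ (Q : Subgroup P) := hQ (Subgroup.mem_zpowers y)
    rw [← hg, Sylow.coe_subgroup_smul, Subgroup.mem_pointwise_smul_iff_inv_smul_mem, MulAut.smul_def,
      ← map_inv, MulAut.conj_apply, inv_inv] at h3
    have h4 := D.nrm g (g⁻¹ * y * g) h3 (fun v hv => by
      have := D.cV_normal.conj_mem y hy g⁻¹
      rw [inv_inv] at this
      exact this v hv)
    simpa [mul_assoc] using h4
  have hz' : ∀ y ∈ D.lam r, y ∈ (cV V : Subgroup P) → y • r - r ∈ Z2 := by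
    intro κ hκ hκ'
    have hpow : ∀ j : ℕ, κ ^ j • r - r = j • (κ • r - r) := by
      intro j
      induction j with
      | zero => simp
      | succ j ih =>
        have h3 : κ ^ j • (κ • r - r) = κ • r - r := (pow_mem hκ' j) _ hκ
        rw [pow_succ, mul_smul, succ_nsmul, ← ih]
        rw [smul_sub] at h3
        rw [← h3]; abel
    obtain ⟨k, m, hm, hn⟩ := Nat.exists_eq_two_pow_mul_odd (orderOf_pos κ).ne'
    have h3 : IsPGroup 2 (Subgroup.zpowers (κ ^ m)) := by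
      refine IsPGroup.of_card (n := k) ?_
      rw [Nat.card_zpowers, orderOf_pow, hn, Nat.gcd_eq_right (Dvd.intro_left _ rfl),
        Nat.mul_div_cancel _ hm.pos]
    have h4 := hr _ (h2 _ (pow_mem hκ' m) h3)
    rw [hpow m] at h4
    have h5 : m • (κ • r - r) = κ • r - r := by
      obtain ⟨j, rfl⟩ := hm
      rw [add_nsmul, mul_comm, mul_nsmul, two_nsmul, D.two, one_nsmul]
      simp
    rw [h5] at h4
    obtain ⟨z1, hz1, z2, hz2, he⟩ := AddSubgroup.mem_sup.1 h4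
    have h6 : z1 = 0 := D.disj z1 (by
      have : z1 = (κ • r - r) - z2 := by rw [← he]; abel
      rw [this]
      exact sub_mem hκ (D.le hz2)) hz1
    rw [← he, h6, zero_add]
    exact hz2
  obtain ⟨x, hx, -, u, hu, hxu, -⟩ := D.exists_x hr
  have h8 : x • (κ • r - r) = (x * κ * x⁻¹) • r - r := by
    have h9 : x⁻¹ • r - r ∈ V := (D.lam r).inv_mem hx
    have h10 := hκ' _ h9
    rw [smul_sub, ← mul_smul] at h10
    have h11 : (κ * x⁻¹) • r = x⁻¹ • r - r + κ • r := by rw [← h10]; abel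
    rw [mul_assoc, mul_smul, h11, smul_add, smul_sub, smul_sub, smul_inv_smul]
    abel
  have h7 : x • (κ • r - r) ∈ Z2 := by
    rw [h8]
    exact hz' _ (mul_mem (mul_mem hx hκ) ((D.lam r).inv_mem hx)) (hn.conj_mem κ hκ' x)
  exact sub_eq_zero.1 (D.ti x u _ hu hxu (hz' κ hκ hκ') h7)

/-- **THEOREM I(q)** -/
theorem Dat.exists_c {r : M} (D : Dat V Z1 Z2 (S : Subgroup P) A E)
    (hr : ∀ s ∈ (S : Subgroup P), s • r - r ∈ Z1 ⊔ Z2) :
    ∃ c : M, c - r ∈ V ∧ (∀ (g : P), ∀ a ∈ A, (g⁻¹ * a * g) • c = c) ∧ ∀ s ∈ (S : Subgroup P), s • c - c ∈ Z1 := by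
  have hn := D.cV_normal
  have hE := D.nE
  obtain ⟨hAl, w, hw, hAw⟩ := D.exists_c' hr
  set L := D.lam r ⊓ E with hL
  have hAL : A ≤ L := le_inf hAl D.AE
  -- a Sylow group of `L` over `A`
  have hA2 : IsPGroup 2 (A.subgroupOf L) := by
    have h1 : IsPGroup 2 A := S.2.to_le D.AS
    exact h1.comap_subtype
  obtain ⟨T, hT⟩ := hA2.exists_le_sylow
  have hTw : ∀ t ∈ (T : Subgroup L), (t : P) • w = w := by
    set T1 : Subgroup P := (T : Subgroup L).map L.subtype with hT1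
    have hAT : A ≤ T1 := by
      intro a ha
      exact ⟨⟨a, hAL ha⟩, hT ha, rfl⟩
    have hT1E : T1 ≤ E := by
      rintro _ ⟨t, -, rfl⟩
      exact t.2.2
    have hT2 : IsPGroup 2 T1 := T.2.map L.subtype
    obtain ⟨Q, hQ⟩ := hT2.exists_le_sylow
    obtain ⟨g, hg⟩ := MulAction.exists_smul_eq P S Q
    let φ := QuotientGroup.mk' (cV V : Subgroup P)
    have h1 : ((S : Subgroup P) ⊓ E).map φ = A.map φ := by
      refine le_antisymm ?_ (Subgroup.map_mono (le_inf D.AS D.AE))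
      rintro _ ⟨s, hs, rfl⟩
      obtain ⟨a, ha, h2⟩ := D.gen s hs.1 hs.2
      refine ⟨a, ha, ?_⟩
      refine QuotientGroup.eq.2 ?_
      intro v hv
      rw [mul_smul, h2 v hv, inv_smul_smul]
    have h2 : Nat.card (((Q : Subgroup P) ⊓ E).map φ) = Nat.card (A.map φ) := by
      have h3 : ((Q : Subgroup P) ⊓ E).map φ =
          (((S : Subgroup P) ⊓ E).map φ).map (MulAut.conj (φ g)).toMonoidHom := by
        rw [← hg, Sylow.coe_subgroup_smul, Subgroup.map_map]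
        ext y
        simp only [Subgroup.mem_map, Subgroup.mem_inf, Subgroup.mem_smul_pointwise_iff_exists]
        constructor
        · rintro ⟨_, ⟨⟨s, hs, rfl⟩, hsE⟩, rfl⟩
          refine ⟨s, ⟨hs, ?_⟩, by simp [MulAut.smul_def]⟩
          have h5 := hE.conj_mem _ hsE g⁻¹
          simpa [MulAut.smul_def, mul_assoc] using h5
        · rintro ⟨s, ⟨hs, hsE⟩, rfl⟩
          refine ⟨_, ⟨⟨s, hs, rfl⟩, ?_⟩, by simp [MulAut.smul_def]⟩
          simpa [MulAut.smul_def] using hE.conj_mem s hsE g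
      rw [h3, h1]
      exact Subgroup.card_map_of_injective (MulAut.conj (φ g)).injective
    have h4 : A.map φ = T1.map φ := Subgroup.eq_of_le_of_card_ge (Subgroup.map_mono hAT)
      (by rw [← h2]; exact Subgroup.card_le_of_le (Subgroup.map_mono (le_inf hQ hT1E)))
    intro t ht
    have h5 : φ (t : P) ∈ A.map φ := by
      rw [h4]
      exact ⟨t, ⟨t, ht, rfl⟩, rfl⟩
    obtain ⟨a, ha, h6⟩ := h5
    have h7 : a⁻¹ * (t : P) ∈ (cV V : Subgroup P) := QuotientGroup.eq.1 h6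
    have h8 := D.smul_r hr (mul_mem ((D.lam r).inv_mem (hAl ha)) t.2.1) h7
    have h9 : (a⁻¹ * (t : P)) • w = w := by
      have h10 := h7 _ hw
      rw [smul_sub, h8, sub_left_inj] at h10
      exact h10
    rw [mul_smul, inv_smul_eq_iff, hAw a ha] at h9
    exact h9
  -- the average over `L / T`
  let f : (L ⧸ (T : Subgroup L)) → M := fun y => ((Quotient.out y : L) : P) • w
  have hf : ∀ (g : L) (y : L ⧸ (T : Subgroup L)), f (g • y) = (g : P) • f y := by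
    intro g y
    obtain ⟨t, ht, h1⟩ : ∃ t ∈ (T : Subgroup L), (Quotient.out (g • y) : L) = g * Quotient.out y * t := by
      have h2 : (QuotientGroup.mk (Quotient.out (g • y)) : L ⧸ (T : Subgroup L)) =
          QuotientGroup.mk (g * Quotient.out y) := by
        rw [QuotientGroup.out_eq', ← smul_eq_mul, ← MulAction.Quotient.smul_mk, QuotientGroup.out_eq']
      exact ⟨(g * Quotient.out y)⁻¹ * Quotient.out (g • y), QuotientGroup.eq.1 h2.symm, by group⟩
    show ((Quotient.out (g • y) : L) : P) • w = (g : P) • (((Quotient.out y : L) : P) • w)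
    rw [h1]
    push_cast
    rw [mul_smul, hTw t ht, mul_smul]
  have hfV : ∀ y, f y - r ∈ V := by
    intro y
    have h1 : f y - r = ((Quotient.out y : L) : P) • (w - r) + (((Quotient.out y : L) : P) • r - r) := by
      rw [smul_sub]
      show ((Quotient.out y : L) : P) • w - r = _
      abel
    rw [h1]
    exact add_mem (D.inv _ _ hw) (Quotient.out y : L).2.1
  have := Fintype.ofFinite (L ⧸ (T : Subgroup L))
  obtain ⟨c, hc⟩ : ∃ c, c = ∑ y, f y := ⟨_, rfl⟩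
  have hodd : Odd (Fintype.card (L ⧸ (T : Subgroup L))) := by
    rw [← Nat.card_eq_fintype_card, ← Subgroup.index_eq_card, ← Nat.not_even_iff_odd, even_iff_two_dvd]
    exact T.not_dvd_index
  have hcV : c - r ∈ V := by
    have h1 : ∑ y, (f y - r) ∈ V := sum_mem fun y _ => hfV y
    rw [Finset.sum_sub_distrib, ← hc, Finset.sum_const, Finset.card_univ] at h1
    have h5 : (Fintype.card (L ⧸ (T : Subgroup L))) • r = r := by
      obtain ⟨j, hj⟩ := hodd
      rw [hj, add_nsmul, mul_comm, mul_nsmul, two_nsmul, D.two, one_nsmul]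
      simp
    rwa [h5] at h1
  have hcL : ∀ g ∈ L, g • c = c := by
    intro g hg
    rw [hc, Finset.smul_sum]
    have h1 : ∀ y, g • f y = f ((⟨g, hg⟩ : L) • y) := fun y => (hf ⟨g, hg⟩ y).symm
    simp_rw [h1]
    exact Equiv.sum_comp (MulAction.toPerm (⟨g, hg⟩ : L)) f
  have hcA : ∀ (g : P), ∀ a ∈ A, (g⁻¹ * a * g) • c = c := fun g a ha =>
    hcL _ ⟨D.conj_mem_lam hr g ha, by simpa using hE.conj_mem a (D.AE ha) g⁻¹⟩
  refine ⟨c, hcV, hcA, ?_⟩
  -- `[c, S] ≤ Z₁`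
  intro s hs
  obtain ⟨z1, hz1, z2, hz2, he⟩ := AddSubgroup.mem_sup.1 (hr s hs)
  obtain ⟨v, hv, h1⟩ : ∃ v ∈ V, s • c - c = z1 + v := by
    refine ⟨z2 + (s • (c - r) - (c - r)), add_mem (D.le hz2) (sub_mem (D.inv _ _ hcV) hcV), ?_⟩
    rw [← add_assoc, he, smul_sub]
    abel
  -- conjugates of `A` fix `s c - c` and `z1`, so `v`
  have h2 : ∀ (g : P), ∀ a ∈ A, (g⁻¹ * a * g) • v = v := by
    intro g a ha
    have h3 : (g⁻¹ * a * g) • (s • c) = s • c := by
      have h4 := hcA (g * s) a ha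
      have h5 : (g⁻¹ * a * g) * s = s * ((g * s)⁻¹ * a * (g * s)) := by group
      rw [← mul_smul, h5, mul_smul, h4]
    have h4 : (g⁻¹ * a * g) • z1 = z1 := by
      rw [mul_smul, mul_smul, D.fix a ha _ (D.inv1 g z1 hz1), inv_smul_smul]
    have h5 : (g⁻¹ * a * g) • (z1 + v) = z1 + v := by
      rw [← h1, smul_sub, h3, hcA g a ha]
    rw [smul_add, h4] at h5
    exact add_left_cancel h5
  obtain ⟨a, ha, hav⟩ := D.exists_mv
  obtain ⟨l, u, hu, hlu⟩ := D.mv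
  have h3 : v ∈ Z2 := D.reg a ha hav v hv (by simpa using h2 1 a ha)
  have h4 : l • v ∈ Z2 := by
    refine D.reg a ha hav _ (D.inv _ _ hv) ?_
    have h5 := h2 l a ha
    rw [mul_smul, mul_smul, inv_smul_eq_iff] at h5
    exact h5
  rw [h1, D.ti l u v hu hlu h3 h4, add_zero]
  exact hz1

end syl

end Cfsg.Agent.Omega.KL.ThmIq
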