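import Cfsg.Agent.Omega.KL.NoTv
import Cfsg.Agent.MinSimple.VModule

/-!
# Transvections and `N_H(T ∩ O²(H))` (helper878, bb #25132; the case `|F| = 2` of (N2) in #24731)

`H` acts faithfully and irreducibly on `V` over `𝔽₂`, `T` a Sylow 2-subgroup, `f ∈ T` a transvection, `H = ⟨f^H⟩ T`,
`z` a `T`-fixed vector with `f ∈ O₂(C_H(z))`, `S₀ = T ∩ O²(H)`.  If `S₀` and `f` fix all `z^p`, `p ∈ P ≥ T`, then
`O²(H) ∩ P` fixes `z`.

* `Lo.k3` : the functionals near the centre `c` of `f` agree on `z` and `c`;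
* `Lo.fix` : what fixes `z` (and the class of `c`) fixes `c`;
* `par` : two transvections of one class are equal modulo `O²(H)`;
* `exists_swap` : an element of `O²(H)` which swaps two points of one class which are not adjacent;
* **`tv_fix`**;  **`four_le_of_nrm`** : the multiplicative form: `|A| ≥ 4` for `LB H M T A`, `P ≤ N_H(T ∩ O²(H))`
  moving `z`.
-/

set_option autoImplicit false

namespace Cfsg.Agent.Omega.KL.TvFix

open Module Cfsg.Agent.Omega.TV Cfsg.Agent.Omega.TV.Sys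
open Cfsg.Agent.ZN
open Cfsg.Agent.MinSimple.VModule (o2_isPGroup o2_le le_o2 le_normalizer_o2 o2_le_of_sylow)

section lin

variable {H : Type*} [Group H] {V : Type*} [AddCommGroup V] [Module (ZMod 2) V]
  {ρ : H →* (V ≃ₗ[ZMod 2] V)} {Om : Set V}

/-- `f = t_{c,φ}` is in `O₂(C_H(z))` (in the form of the pairs) -/
structure Lo (ρ : H →* (V ≃ₗ[ZMod 2] V)) (Om : Set V) (c z : V) (φ : Dual (ZMod 2) V) : Prop where
  sys : Sys ρ Om
  hc : c ∈ Om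
  fn : Fn ρ c φ
  ne : φ ≠ 0
  low : ∀ u ∈ Om, ∀ ψ, Fn ρ u ψ → ψ z = 0 → φ u = 1 → ψ c = 1 → False

namespace Lo

variable {c z : V} {φ : Dual (ZMod 2) V}

theorem k1 [Finite V] (L : Lo ρ Om c z φ) {u : V} (hu : u ∈ Om) (e : φ u = 1) {ψ : Dual (ZMod 2) V}
    (hψ : Fn ρ u ψ) : ψ z = ψ c := by
  have key : ∀ ψ, Fn ρ u ψ → ψ c = 1 → ψ z = 1 := fun ψ hψ h1 => z2_ne_zero fun h0 => L.low u hu ψ hψ h0 e h1
  obtain ⟨ψ₁, hψ₁, h1⟩ := L.sys.symm L.hc hu ⟨φ, L.fn, e⟩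
  rcases z2 (ψ c) with h2 | h2
  · have h3 := key _ (hψ.add hψ₁) (by rw [LinearMap.add_apply, h2, h1, zero_add])
    rw [LinearMap.add_apply, key _ hψ₁ h1] at h3
    rw [h2]
    simpa using h3
  · rw [h2, key _ hψ h2]

theorem k2 [Finite V] (L : Lo ρ Om c z φ) {b : V} (hb : b ∈ Om) (hbc : Adj ρ b c) {χ : Dual (ZMod 2) V}
    (hχ : Fn ρ b χ) : χ z = χ c := by
  rcases z2 (φ b) with e | e
  swap
  · exact L.k1 hb e hχ
  -- `u` adjacent to `b` with `φ u = 1`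
  obtain ⟨u, hu, hu1, hbu⟩ : ∃ u ∈ Om, φ u = 1 ∧ Adj ρ b u := by
    obtain ⟨u, hu, hu1⟩ := L.sys.exists_one L.ne
    by_cases h1 : Adj ρ b u
    · exact ⟨u, hu, hu1, h1⟩
    obtain ⟨χ₀, h2, h3⟩ := hbc
    refine ⟨u + c, L.sys.add_mem hu ⟨φ, L.fn, hu1⟩, by rw [map_add, hu1, L.fn.1, add_zero], χ₀, h2, ?_⟩
    rw [map_add, h3, z2_ne_one fun h4 => h1 ⟨χ₀, h2, h4⟩, zero_add]
  rcases z2 (χ u) with h1 | h1
  · exact L.k1 hu hu1 (L.sys.fn_of_adj hb hu hbu hχ h1)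
  · obtain ⟨ψ, hψ, h2⟩ := L.sys.symm hb hu hbu
    have h3 := Fn.cc hχ hψ
    rw [h1, h2, one_smul, one_smul] at h3
    have h4 : b + u ∈ Om := L.sys.add_mem hb ⟨ψ, hψ, h2⟩
    have h5 := L.k1 h4 (by rw [map_add, e, hu1, zero_add]) h3
    rw [LinearMap.add_apply, LinearMap.add_apply, L.k1 hu hu1 hψ] at h5
    exact add_right_cancel h5

theorem k3 [Finite V] (L : Lo ρ Om c z φ) {u : V} (hu : u ∈ Om) (hn : Near ρ Om u c) {ψ : Dual (ZMod 2) V}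
    (hψ : Fn ρ u ψ) : ψ z = ψ c := by
  by_cases h0 : Adj ρ u c
  · exact L.k2 hu h0 hψ
  obtain ⟨b, hb, h1, h2⟩ := hn
  rcases z2 (ψ b) with h3 | h3
  · exact L.k2 hb h2 (L.sys.fn_of_adj hu hb h1 hψ h3)
  · obtain ⟨χ, hχ, h4⟩ := L.sys.symm hu hb h1
    have h5 := Fn.cc hψ hχ
    rw [h3, h4, one_smul, one_smul] at h5
    have h6 : u + b ∈ Om := L.sys.add_mem hu ⟨χ, hχ, h4⟩
    obtain ⟨φ', hφ', h7⟩ := L.sys.symm hb L.hc h2
    have h8 : φ' u = 0 := z2_ne_one fun h9 => h0 (L.sys.symm L.hc hu ⟨φ', hφ', h9⟩)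
    have h9 : Adj ρ (u + b) c := L.sys.symm L.hc h6 ⟨φ', hφ', by rw [map_add, h8, h7, zero_add]⟩
    have h10 := L.k2 h6 h9 h5
    rw [LinearMap.add_apply, LinearMap.add_apply, L.k2 hb h2 hχ] at h10
    exact add_right_cancel h10

/-- **(2)** : what fixes `z` and the class of `c` fixes `c` -/
theorem fix [Finite V] (L : Lo ρ Om c z φ) (rb : rad ρ Om = ⊥) {g : H} (hg : Near ρ Om (ρ g c) c)
    (hz : ρ g z = z) : ρ g c = c := by
  have hgc : ρ g c ∈ Om := L.sys.inv g c L.hc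
  have h1 : ρ g c + c ∈ rad ρ Om := by
    intro r hr ψ hψ
    by_cases hn : Near ρ Om r c
    · have h2 := L.k3 hr hn hψ
      have h3 : Near ρ Om r (ρ g c) := L.sys.near_trans hr L.hc hgc hn (L.sys.near_symm hgc L.hc hg)
      have h4 : Near ρ Om (ρ g⁻¹ r) c := by
        obtain ⟨v, hv, a1, a2⟩ := h3
        refine ⟨ρ g⁻¹ v, L.sys.inv _ v hv, a1.conj _, ?_⟩
        have := a2.conj g⁻¹
        rwa [rinv] at this
      have h5 := L.k3 (L.sys.inv _ r hr) h4 (hψ.conj g⁻¹)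
      simp only [inv_inv, LinearMap.comp_apply, LinearEquiv.coe_coe] at h5
      rw [hz] at h5
      rw [map_add, ← h5, h2]
      exact z2_add_self _
    · have h2 : ψ c = 0 := z2_ne_one fun e => hn (L.sys.near_of_adj hr L.hc ⟨ψ, hψ, e⟩)
      have h3 : ψ (ρ g c) = 0 := z2_ne_one fun e =>
        hn (L.sys.near_trans hr hgc L.hc (L.sys.near_of_adj hr hgc ⟨ψ, hψ, e⟩) hg)
      rw [map_add, h2, h3, add_zero]
  rw [rb, Submodule.mem_bot] at h1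
  exact v_eq_of_add h1

/-- the other classes: `t c` for `t` fixing `z` -/
theorem k4 [Finite V] (L : Lo ρ Om c z φ) {t : H} (ht : ρ t z = z) {r : V} (hr : r ∈ Om)
    (hn : Near ρ Om r (ρ t c)) {ψ : Dual (ZMod 2) V} (hψ : Fn ρ r ψ) : ψ z = ψ (ρ t c) := by
  have h4 : Near ρ Om (ρ t⁻¹ r) c := by
    obtain ⟨v, hv, a1, a2⟩ := hn
    refine ⟨ρ t⁻¹ v, L.sys.inv _ v hv, a1.conj _, ?_⟩
    have := a2.conj t⁻¹
    rwa [rinv] at this
  have h5 := L.k3 (L.sys.inv _ r hr) h4 (hψ.conj t⁻¹)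
  simp only [inv_inv, LinearMap.comp_apply, LinearEquiv.coe_coe] at h5
  rwa [ht] at h5

end Lo

/-! ### Elements inducing transvections -/

/-- `g` induces the transvection with centre `a` and functional `φ` -/
def IsTv (ρ : H →* (V ≃ₗ[ZMod 2] V)) (g : H) (a : V) (φ : Dual (ZMod 2) V) : Prop :=
  φ a = 0 ∧ ∀ x, ρ g x = x + φ x • a

namespace IsTv

variable {τ σ g : H} {a b : V} {φ ψ : Dual (ZMod 2) V}

theorem fn (h : IsTv ρ τ a φ) : Fn ρ a φ := ⟨h.1, τ, h.2⟩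

theorem conj (h : IsTv ρ τ a φ) (g : H) :
    IsTv ρ (g * τ * g⁻¹) (ρ g a) (φ ∘ₗ (ρ g⁻¹ : V ≃ₗ[ZMod 2] V).toLinearMap) := by
  refine ⟨by simp [h.1], fun x => ?_⟩
  rw [rmul, rmul, h.2, map_add, rinv', map_smul]
  simp

theorem eq (faith : ∀ g : H, (∀ v, ρ g v = v) → g = 1) (h : IsTv ρ τ a φ) (h' : IsTv ρ σ a φ) : τ = σ := by
  have h1 : σ⁻¹ * τ = 1 := faith _ fun v => by rw [rmul, h.2, ← h'.2, rinv]
  exact (inv_mul_eq_one.1 h1).symm

theorem sq (faith : ∀ g : H, (∀ v, ρ g v = v) → g = 1) (h : IsTv ρ τ a φ) : τ * τ = 1 :=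
  faith _ fun v => by
    rw [rmul, h.2, h.2, map_add, map_smul, h.1, smul_zero, add_zero, add_add_self]

theorem inv (faith : ∀ g : H, (∀ v, ρ g v = v) → g = 1) (h : IsTv ρ τ a φ) : τ⁻¹ = τ :=
  inv_eq_of_mul_eq_one_left (h.sq faith)

theorem mul (h : IsTv ρ τ a φ) (h' : IsTv ρ σ a ψ) : IsTv ρ (τ * σ) a (φ + ψ) := by
  refine ⟨by simp [h.1, h'.1], fun x => ?_⟩
  rw [rmul, h'.2, h.2]
  simp only [map_add, map_smul, h.1, smul_eq_mul, mul_zero, add_zero, LinearMap.add_apply, add_smul]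
  abel

/-- the braid relation -/
theorem braid (faith : ∀ g : H, (∀ v, ρ g v = v) → g = 1) (h : IsTv ρ τ a φ) (h' : IsTv ρ σ b ψ)
    (e : φ b = 1) (e' : ψ a = 1) : (τ * σ) ^ 3 = 1 := by
  have h1 := h'.conj τ
  have h2 := h.conj σ
  have h3 : τ * σ * τ = σ * τ * σ := by
    have i1 : ∀ x, ρ (τ * σ * τ⁻¹) x = ρ (σ * τ * σ⁻¹) x := by
      intro x
      rw [h1.2, h2.2]
      simp only [LinearMap.comp_apply, LinearEquiv.coe_coe]
      rw [h.inv faith, h'.inv faith, h.2, h'.2, h.2, h'.2, e, e', map_add, map_add, map_smul, map_smul, e, e']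
      simp only [smul_eq_mul, mul_one, one_smul]
      rw [add_comm (ψ x), add_comm b a]
    have i2 : (σ * τ * σ⁻¹)⁻¹ * (τ * σ * τ⁻¹) = 1 := faith _ fun v => by rw [rmul, i1, rinv]
    have i3 := (inv_mul_eq_one.1 i2).symm
    rwa [h.inv faith, h'.inv faith] at i3
  have h4 : (τ * σ) ^ 3 = (τ * σ * τ) * (σ * τ * σ) := by
    simp only [pow_succ, pow_zero, one_mul]; group
  rw [h4, ← h3]
  calc τ * σ * τ * (τ * σ * τ) = τ * σ * (τ * τ) * σ * τ := by group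
    _ = τ * (σ * σ) * τ := by rw [h.sq faith, mul_one]; group
    _ = 1 := by rw [h'.sq faith, mul_one, h.sq faith]

theorem mem_of_braid {K : Subgroup H} (hK : ∀ g : H, Odd (orderOf g) → g ∈ K)
    (faith : ∀ g : H, (∀ v, ρ g v = v) → g = 1) (h : IsTv ρ τ a φ) (h' : IsTv ρ σ b ψ)
    (e : φ b = 1) (e' : ψ a = 1) : τ * σ ∈ K := by
  apply hK
  have h1 := orderOf_dvd_of_pow_eq_one (h.braid faith h' e e')
  exact Odd.of_dvd_nat (by decide) h1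

end IsTv

theorem exists_tv {a : V} {φ : Dual (ZMod 2) V} (h : Fn ρ a φ) : ∃ τ : H, IsTv ρ τ a φ := by
  obtain ⟨h0, τ, hτ⟩ := h
  exact ⟨τ, h0, hτ⟩

theorem exists_common [Finite V] (h : Sys ρ Om) {a : V} (ha : a ∈ Om) {φ ψ : Dual (ZMod 2) V} (hφ : Fn ρ a φ)
    (hψ : Fn ρ a ψ) (h1 : φ ≠ 0) (h2 : ψ ≠ 0) : ∃ d ∈ Om, φ d = 1 ∧ ψ d = 1 := by
  obtain ⟨b, hb, e1⟩ := h.exists_one h1
  rcases z2 (ψ b) with e2 | e2
  swap
  · exact ⟨b, hb, e1, e2⟩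
  obtain ⟨b', hb', e3⟩ := h.exists_one h2
  rcases z2 (φ b') with e4 | e4
  swap
  · exact ⟨b', hb', e4, e3⟩
  by_cases h3 : Adj ρ b b'
  · exact ⟨b' + b, h.add_mem hb' h3, by rw [map_add, e4, e1, zero_add], by rw [map_add, e3, e2, add_zero]⟩
  · have h4 : b + a ∈ Om := h.add_mem hb ⟨φ, hφ, e1⟩
    obtain ⟨χ, hχ, e5⟩ := h.symm ha hb' ⟨ψ, hψ, e3⟩
    have e6 : χ b = 0 := z2_ne_one fun e => h3 (h.symm hb' hb ⟨χ, hχ, e⟩)
    have h5 : Adj ρ b' (b + a) := ⟨χ, hχ, by rw [map_add, e6, e5, zero_add]⟩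
    refine ⟨b + a + b', h.add_mem h4 h5, ?_, ?_⟩
    · rw [map_add, map_add, e1, hφ.1, e4, add_zero, add_zero]
    · rw [map_add, map_add, e2, hψ.1, e3, add_zero, zero_add]

section par

variable {K : Subgroup H} {τ σ : H} {a b : V} {φ ψ : Dual (ZMod 2) V}

theorem par0 [Finite V] (h : Sys ρ Om) (hK : ∀ g : H, Odd (orderOf g) → g ∈ K)
    (faith : ∀ g : H, (∀ v, ρ g v = v) → g = 1) (ha : a ∈ Om) (hτ : IsTv ρ τ a φ) (hσ : IsTv ρ σ a ψ)
    (h1 : φ ≠ 0) (h2 : ψ ≠ 0) : τ * σ ∈ K := by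
  obtain ⟨d, hd, e1, e2⟩ := exists_common h ha hτ.fn hσ.fn h1 h2
  obtain ⟨κ, hκ, e3⟩ := h.symm ha hd ⟨φ, hτ.fn, e1⟩
  obtain ⟨δ, hδ⟩ := exists_tv hκ
  have h3 := hτ.mem_of_braid hK faith hδ e1 e3
  have h4 := hδ.mem_of_braid hK faith hσ e3 e2
  have h5 := K.mul_mem h3 h4
  have e : τ * δ * (δ * σ) = τ * (δ * δ) * σ := by group
  rwa [e, hδ.sq faith, mul_one] at h5

theorem par1 [Finite V] (h : Sys ρ Om) (hK : ∀ g : H, Odd (orderOf g) → g ∈ K)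
    (faith : ∀ g : H, (∀ v, ρ g v = v) → g = 1) (ha : a ∈ Om) (hb : b ∈ Om) (hτ : IsTv ρ τ a φ)
    (hσ : IsTv ρ σ b ψ) (h1 : φ ≠ 0) (h2 : ψ ≠ 0) (hn : Adj ρ a b) : τ * σ ∈ K := by
  obtain ⟨φ₀, hφ₀, e1⟩ := hn
  obtain ⟨ψ₀, hψ₀, e2⟩ := h.symm ha hb ⟨φ₀, hφ₀, e1⟩
  obtain ⟨δ, hδ⟩ := exists_tv hφ₀
  obtain ⟨ε, hε⟩ := exists_tv hψ₀
  have n1 : φ₀ ≠ 0 := by rintro rfl; simp at e1
  have n2 : ψ₀ ≠ 0 := by rintro rfl; simp at e2
  have h3 := par0 h hK faith ha hτ hδ h1 n1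
  have h4 := hδ.mem_of_braid hK faith hε e1 e2
  have h5 := par0 h hK faith hb hε hσ n2 h2
  have h6 := K.mul_mem (K.mul_mem h3 h4) h5
  have e : τ * δ * (δ * ε) * (ε * σ) = τ * (δ * δ) * (ε * ε) * σ := by group
  rwa [e, hδ.sq faith, hε.sq faith, mul_one, mul_one] at h6

/-- **parity** : two transvections of one class are equal modulo `K ≥ O²(H)` -/
theorem par [Finite V] (h : Sys ρ Om) (hK : ∀ g : H, Odd (orderOf g) → g ∈ K)
    (faith : ∀ g : H, (∀ v, ρ g v = v) → g = 1) (ha : a ∈ Om) (hb : b ∈ Om) (hτ : IsTv ρ τ a φ)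
    (hσ : IsTv ρ σ b ψ) (h1 : φ ≠ 0) (h2 : ψ ≠ 0) (hn : Near ρ Om a b) : τ * σ ∈ K := by
  obtain ⟨v, hv, n1, n2⟩ := hn
  obtain ⟨χ, hχ0, hχ⟩ := h.exists_fn hv
  obtain ⟨δ, hδ⟩ := exists_tv hχ
  have h3 := par1 h hK faith ha hv hτ hδ h1 hχ0 n1
  have h4 := par1 h hK faith hv hb hδ hσ hχ0 h2 n2
  have h5 := K.mul_mem h3 h4
  have e : τ * δ * (δ * σ) = τ * (δ * δ) * σ := by group
  rwa [e, hδ.sq faith, mul_one] at h5

/-- **the swap** -/
theorem exists_swap [Finite V] (h : Sys ρ Om) (hKn : K.Normal) (hK : ∀ g : H, Odd (orderOf g) → g ∈ K)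
    (faith : ∀ g : H, (∀ v, ρ g v = v) → g = 1) (ha : a ∈ Om) (hb : b ∈ Om) (hn : Near ρ Om a b)
    (hna : ¬ Adj ρ a b) : ∃ e ∈ K, ρ e a = b ∧ ρ e b = a := by
  obtain ⟨v, hv, n1, n2⟩ := hn
  obtain ⟨φ₁, hφ₁, e1⟩ := n1
  obtain ⟨ψ₁, hψ₁, e2⟩ := h.symm hv hb n2
  obtain ⟨χ, hχ, e3⟩ := h.symm ha hv ⟨φ₁, hφ₁, e1⟩
  have e4 : χ b = 1 := by rw [← h.agree ha hb hv hna ⟨χ, hχ, e3⟩ n2 hχ, e3]
  have e5 : φ₁ b = 0 := z2_ne_one fun e => hna ⟨φ₁, hφ₁, e⟩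
  have e6 : ψ₁ a = 0 := z2_ne_one fun e => hna (h.symm hb ha ⟨ψ₁, hψ₁, e⟩)
  obtain ⟨t, ht⟩ := exists_tv hφ₁
  obtain ⟨t', ht'⟩ := exists_tv hψ₁
  obtain ⟨τ, hτ⟩ := exists_tv hχ
  have n3 : φ₁ ≠ 0 := by rintro rfl; simp at e1
  have n4 : ψ₁ ≠ 0 := by rintro rfl; simp at e2
  have hg : t * t' ∈ K := par h hK faith ha hb ht ht' n3 n4 ⟨v, hv, ⟨φ₁, hφ₁, e1⟩, n2⟩
  have hti := ht.inv faith
  have hti' := ht'.inv faith
  have hτi := hτ.inv faith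
  have ta : ρ t a = a := by rw [ht.2, ht.1, zero_smul, add_zero]
  have tb : ρ t b = b := by rw [ht.2, e5, zero_smul, add_zero]
  have tv : ρ t v = v + a := by rw [ht.2, e1, one_smul]
  have ta' : ρ t' a = a := by rw [ht'.2, e6, zero_smul, add_zero]
  have tb' : ρ t' b = b := by rw [ht'.2, ht'.1, zero_smul, add_zero]
  have tv' : ρ t' v = v + b := by rw [ht'.2, e2, one_smul]
  have τa : ρ τ a = a + v := by rw [hτ.2, e3, one_smul]
  have τb : ρ τ b = b + v := by rw [hτ.2, e4, one_smul]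
  have τv : ρ τ v = v := by rw [hτ.2, hτ.1, zero_smul, add_zero]
  have x0 : ∀ x y : V, x + (y + x) = y := fun x y => by rw [add_comm y x, self_add_add]
  refine ⟨t * t' * (τ * (t * t')⁻¹ * τ⁻¹), K.mul_mem hg (hKn.conj_mem _ (K.inv_mem hg) τ), ?_, ?_⟩
  · rw [mul_inv_rev, hti, hti', hτi]
    simp only [rmul]
    rw [τa, map_add, ta, tv, x0, tv', map_add, τv, τb, x0, tb', tb]
  · rw [mul_inv_rev, hti, hti', hτi]
    simp only [rmul]
    rw [τb, map_add (ρ t), tb, tv, map_add (ρ t'), map_add (ρ t'), tb', tv', ta']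
    have x1 : b + (v + b + a) = v + a := by rw [← add_assoc, x0]
    rw [x1, map_add, τv, τa, x0, ta', ta]

end par

/-- no element of `K` swaps two vectors fixed by a Sylow 2-subgroup of `K` -/
theorem no_swap [Finite H] {K S₀ : Subgroup H} (hS : S₀ ≤ K) (hodd : ¬ 2 ∣ S₀.relIndex K) {a b : V} (hab : a ≠ b)
    (fa : ∀ s ∈ S₀, ρ s a = a) (fb : ∀ s ∈ S₀, ρ s b = b) {e : H} (he : e ∈ K) (ea : ρ e a = b)
    (eb : ρ e b = a) : False := by
  have rI : ∀ {g : H} {x y : V}, ρ g x = y → ρ g⁻¹ y = x := fun {g x y} h => by rw [← h, rinv]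
  let X : Subgroup H :=
    { carrier := {g | g ∈ K ∧ ((ρ g a = a ∧ ρ g b = b) ∨ (ρ g a = b ∧ ρ g b = a))}
      one_mem' := ⟨K.one_mem, Or.inl ⟨rone ρ a, rone ρ b⟩⟩
      mul_mem' := by
        rintro g h ⟨hg, hg'⟩ ⟨hh, hh'⟩
        refine ⟨K.mul_mem hg hh, ?_⟩
        rw [rmul, rmul]
        rcases hg' with ⟨h1, h2⟩ | ⟨h1, h2⟩ <;> rcases hh' with ⟨h3, h4⟩ | ⟨h3, h4⟩ <;>
          simp only [h1, h2, h3, h4, and_self, true_or, or_true]
      inv_mem' := by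
        rintro g ⟨hg, hg'⟩
        refine ⟨K.inv_mem hg, ?_⟩
        rcases hg' with ⟨h1, h2⟩ | ⟨h1, h2⟩
        · exact Or.inl ⟨rI h1, rI h2⟩
        · exact Or.inr ⟨rI h2, rI h1⟩ }
  let X₁ : Subgroup H :=
    { carrier := {g | g ∈ K ∧ ρ g a = a ∧ ρ g b = b}
      one_mem' := ⟨K.one_mem, rone ρ a, rone ρ b⟩
      mul_mem' := by
        rintro g h ⟨hg, h1, h2⟩ ⟨hh, h3, h4⟩
        exact ⟨K.mul_mem hg hh, by rw [rmul, h3, h1], by rw [rmul, h4, h2]⟩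
      inv_mem' := by
        rintro g ⟨hg, h1, h2⟩
        exact ⟨K.inv_mem hg, rI h1, rI h2⟩ }
  have h1 : S₀ ≤ X₁ := fun s hs => ⟨hS hs, fa s hs, fb s hs⟩
  have h2 : X₁ ≤ X := fun g hg => ⟨hg.1, Or.inl hg.2⟩
  have h3 : X ≤ K := fun g hg => hg.1
  have h4 : X₁.relIndex X = 2 := by
    rw [Subgroup.relIndex, Subgroup.index_eq_two_iff]
    refine ⟨⟨e, he, Or.inr ⟨ea, eb⟩⟩, ?_⟩
    rintro ⟨g, hg, hg'⟩
    have m1 : (⟨g, hg, hg'⟩ : X) ∈ X₁.subgroupOf X ↔ (ρ g a = a ∧ ρ g b = b) :=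
      ⟨fun h => h.2, fun h => ⟨hg, h⟩⟩
    have m2 : (⟨g, hg, hg'⟩ * ⟨e, he, Or.inr ⟨ea, eb⟩⟩ : X) ∈ X₁.subgroupOf X ↔ (ρ g b = a ∧ ρ g a = b) := by
      constructor
      · intro h
        have h5 : ρ (g * e) a = a := h.2.1
        have h6 : ρ (g * e) b = b := h.2.2
        rw [rmul, ea] at h5
        rw [rmul, eb] at h6
        exact ⟨h5, h6⟩
      · rintro ⟨h5, h6⟩
        refine ⟨K.mul_mem hg he, ?_, ?_⟩
        · change ρ (g * e) a = a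
          rw [rmul, ea, h5]
        · change ρ (g * e) b = b
          rw [rmul, eb, h6]
    rw [m1, m2]
    rcases hg' with ⟨h5, h6⟩ | ⟨h5, h6⟩
    · right
      exact ⟨⟨h5, h6⟩, fun h => hab (h5.symm.trans h.2)⟩
    · left
      exact ⟨⟨h6, h5⟩, fun h => hab (h.1.symm.trans h5)⟩
  apply hodd
  have h5 := Subgroup.relIndex_mul_relIndex S₀ X₁ X h1 h2
  have h6 := Subgroup.relIndex_mul_relIndex S₀ X K (h1.trans h2) h3
  rw [← h6, ← h5, h4]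
  exact ⟨S₀.relIndex X₁ * X.relIndex K, by ring⟩

section main

variable [Finite H] [Finite V] {T K P : Subgroup H} {f : H} {c z : V} {φ : Dual (ZMod 2) V}

omit [Finite H] [Finite V] in
theorem sys_of (irr : ∀ U : Submodule (ZMod 2) V, (∀ (g : H), ∀ u ∈ U, ρ g u ∈ U) → U = ⊥ ∨ U = ⊤)
    (hf : IsTv ρ f c φ) (c0 : c ≠ 0) (φ0 : φ ≠ 0) : Sys ρ (NoTv.Om ρ c) where
  zero := by
    rintro ⟨g, hg⟩
    exact c0 ((ρ g).map_eq_zero_iff.1 hg)
  inv := by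
    rintro g r ⟨k, rfl⟩
    exact ⟨g * k, by rw [rmul]⟩
  trans := by
    rintro r ⟨k, rfl⟩ s ⟨l, rfl⟩
    exact ⟨l * k⁻¹, by rw [rmul, rinv]⟩
  span := by
    refine (irr _ ?_).resolve_left ?_
    · intro g u hu
      induction hu using Submodule.span_induction with
      | mem u hu =>
        obtain ⟨k, rfl⟩ := hu
        exact Submodule.subset_span ⟨g * k, rmul ρ g k c⟩
      | zero => rw [map_zero]; exact Submodule.zero_mem _
      | add a b _ _ ha hb => rw [map_add]; exact Submodule.add_mem _ ha hb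
      | smul c a _ ha => rw [map_smul]; exact Submodule.smul_mem _ c ha
    · intro h1
      have h2 : c ∈ Submodule.span (ZMod 2) (NoTv.Om ρ c) := Submodule.subset_span (NoTv.mem_Om c)
      rw [h1, Submodule.mem_bot] at h2
      exact c0 h2
  ex := ⟨c, NoTv.mem_Om c, φ, φ0, hf.fn⟩
  chain := by
    intro U hU g h1 h2 v
    rcases irr U hU with rfl | rfl
    · exact v_eq_of_add ((Submodule.mem_bot _).1 (h2 v))
    · exact h1 v trivial

omit [Finite H] [Finite V] in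
theorem rad_bot (irr : ∀ U : Submodule (ZMod 2) V, (∀ (g : H), ∀ u ∈ U, ρ g u ∈ U) → U = ⊥ ∨ U = ⊤)
    {Om : Set V} (s : Sys ρ Om) (hc : c ∈ Om) (hf : IsTv ρ f c φ) (φ0 : φ ≠ 0) : rad ρ Om = ⊥ := by
  refine (irr _ fun g u hu => s.rad_inv g hu).resolve_right fun h2 => ?_
  obtain ⟨t, ht, h3⟩ := s.exists_one φ0
  have h4 : t ∈ rad ρ Om := by rw [h2]; trivial
  rw [h4 c hc φ hf.fn] at h3
  exact zero_ne_one h3

omit [Finite H] [Finite V] in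
theorem lo_of (faith : ∀ g : H, (∀ v, ρ g v = v) → g = 1) {Om : Set V} (s : Sys ρ Om) (hc : c ∈ Om)
    (hf : IsTv ρ f c φ) (φ0 : φ ≠ 0)
    (low : ∀ g, ρ g z = z → ∃ n : ℕ, (f * (g * f * g⁻¹)) ^ 2 ^ n = 1) : Lo ρ Om c z φ where
  sys := s
  hc := hc
  fn := hf.fn
  ne := φ0
  low := by
    intro u hu ψ hψ h0 e1 e2
    obtain ⟨g, hg⟩ := exists_tv hψ
    obtain ⟨n, hn⟩ := low g (by rw [hg.2, h0, zero_smul, add_zero])
    have h3 := hf.braid faith hg e1 e2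
    have h4 : f * (g * f * g⁻¹) = (f * g) ^ 2 := by
      rw [hg.inv faith, pow_two]; group
    rw [h4, ← pow_mul] at hn
    have h5 : f * g = 1 := by
      have h6 := Nat.dvd_gcd (orderOf_dvd_of_pow_eq_one h3) (orderOf_dvd_of_pow_eq_one hn)
      have h7 : Nat.gcd 3 (2 * 2 ^ n) = 1 := by
        rw [← pow_succ']
        exact Nat.Coprime.pow_right _ (by norm_num)
      rw [h7] at h6
      exact orderOf_eq_one_iff.1 (Nat.dvd_one.1 h6)
    have h6 : ρ (f * g) c = c := by rw [h5, rone]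
    rw [rmul, hg.2, e2, one_smul, map_add, hf.2, hf.1, zero_smul, add_zero, hf.2, e1, one_smul] at h6
    have h7 : c + (u + c) = u := by rw [add_comm u c, self_add_add]
    rw [h7] at h6
    have h8 : ψ u = 0 := hg.1
    rw [h6, e2] at h8
    exact one_ne_zero h8

/-- **THEOREM** (bb #25132) -/
theorem tv_fix (irr : ∀ U : Submodule (ZMod 2) V, (∀ (g : H), ∀ u ∈ U, ρ g u ∈ U) → U = ⊥ ∨ U = ⊤)
    (faith : ∀ g : H, (∀ v, ρ g v = v) → g = 1) (hKn : K.Normal) (hK : ∀ g : H, Odd (orderOf g) → g ∈ K)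
    (hKf : K ≤ Subgroup.normalClosure {f}) (gen : Subgroup.normalClosure {f} ⊔ T = ⊤)
    (odd : ¬ 2 ∣ (T ⊓ K).relIndex K) (two : IsPGroup 2 T) (hf : IsTv ρ f c φ) (c0 : c ≠ 0) (φ0 : φ ≠ 0)
    (hz : ∀ t ∈ T, ρ t z = z) (low : ∀ g, ρ g z = z → ∃ n : ℕ, (f * (g * f * g⁻¹)) ^ 2 ^ n = 1) (hTP : T ≤ P)
    (hS : ∀ p ∈ P, ∀ s ∈ T ⊓ K, ρ s (ρ p z) = ρ p z) (hfP : ∀ p ∈ P, ρ f (ρ p z) = ρ p z) :
    ∀ p ∈ P, p ∈ K → ρ p z = z := by
  intro p₀ hp₀ hp₀K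
  by_contra hne
  have s := sys_of irr hf c0 φ0
  have hc : c ∈ NoTv.Om ρ c := NoTv.mem_Om c
  have rb := rad_bot irr s hc hf φ0
  have L := lo_of (z := z) faith s hc hf φ0 low
  have hNc : ∀ g ∈ Subgroup.normalClosure ({f} : Set H), ∀ r ∈ NoTv.Om ρ c, Near ρ (NoTv.Om ρ c) r (ρ g r) :=
    fun g hg => NoTv.near_of_mem s (Subgroup.normalClosure_mono (by
      rintro _ rfl
      exact ⟨c, hc, φ, hf.1, hf.2⟩) hg)
  have hfN : f ∈ Subgroup.normalClosure ({f} : Set H) := Subgroup.subset_normalClosure rfl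
  have hNn : (Subgroup.normalClosure ({f} : Set H)).Normal := Subgroup.normalClosure_normal
  -- every point is near a `T`-conjugate of `c`
  have hcl : ∀ r ∈ NoTv.Om ρ c, ∃ t ∈ T, Near ρ (NoTv.Om ρ c) r (ρ t c) := by
    rintro r ⟨g, rfl⟩
    have h1 : g ∈ Subgroup.normalClosure ({f} : Set H) ⊔ T := gen ▸ Subgroup.mem_top g
    obtain ⟨n, hn, t, ht, rfl⟩ := Subgroup.mem_sup_of_normal_left.1 h1
    refine ⟨t, ht, ?_⟩
    rw [rmul]
    exact s.near_symm (s.inv _ _ hc) (s.inv _ _ (s.inv _ _ hc)) (hNc n hn _ (s.inv _ _ hc))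
  -- `p` moves `c`
  obtain ⟨t, ht, htc⟩ : ∃ t ∈ T, ρ (t⁻¹ * p₀ * t) c ≠ c := by
    by_contra hcon
    push Not at hcon
    apply hne
    have h1 : ρ p₀ z + z ∈ rad ρ (NoTv.Om ρ c) := by
      intro r hr ψ hψ
      obtain ⟨t, ht, hn⟩ := hcl r hr
      have h2 := L.k4 (hz t ht) hr hn hψ
      have h3 : Near ρ (NoTv.Om ρ c) (ρ p₀⁻¹ r) (ρ t c) := by
        have h4 := hNc p₀⁻¹ (hKf (K.inv_mem hp₀K)) r hr
        exact s.near_trans (s.inv _ _ hr) hr (s.inv _ _ hc) (s.near_symm hr (s.inv _ _ hr) h4) hn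
      have h4 := L.k4 (hz t ht) (s.inv _ _ hr) h3 (hψ.conj p₀⁻¹)
      simp only [inv_inv, LinearMap.comp_apply, LinearEquiv.coe_coe] at h4
      have h5 : ρ p₀ (ρ t c) = ρ t c := by
        have h6 := hcon t ht
        rw [rmul, rmul] at h6
        have h7 := congrArg (ρ t) h6
        rwa [rinv'] at h7
      rw [map_add, h4, h5, h2]
      exact z2_add_self _
    rw [rb, Submodule.mem_bot] at h1
    exact v_eq_of_add h1
  obtain ⟨p, hp⟩ : ∃ p, p = t⁻¹ * p₀ * t := ⟨_, rfl⟩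
  rw [← hp] at htc
  have hpK : p ∈ K := by
    rw [hp]
    have := hKn.conj_mem p₀ hp₀K t⁻¹
    rwa [inv_inv] at this
  have hpP : p ∈ P := hp ▸ P.mul_mem (P.mul_mem (P.inv_mem (hTP ht)) hp₀) (hTP ht)
  have hc' : ρ p c ∈ NoTv.Om ρ c := s.inv _ _ hc
  have hnear : Near ρ (NoTv.Om ρ c) c (ρ p c) := hNc p (hKf hpK) c hc
  have hfixN : ∀ g ∈ Subgroup.normalClosure ({f} : Set H), ρ g z = z → ρ g c = c := fun g hg hgz =>
    L.fix rb (s.near_symm hc (s.inv _ _ hc) (hNc g hg c hc)) hgz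
  have hfixN' : ∀ g ∈ Subgroup.normalClosure ({f} : Set H), ρ g (ρ p z) = ρ p z → ρ g (ρ p c) = ρ p c := by
    intro g hg hgz
    have h1 := hfixN (p⁻¹ * g * p) (by
      have := hNn.conj_mem g hg p⁻¹
      rwa [inv_inv] at this) (by rw [rmul, rmul, hgz, rinv])
    rw [rmul, rmul] at h1
    have h2 := congrArg (ρ p) h1
    rwa [rinv'] at h2
  have fS : ∀ s ∈ T ⊓ K, ρ s c = c := fun g hg => hfixN g (hKf hg.2) (hz g hg.1)
  have fS' : ∀ s ∈ T ⊓ K, ρ s (ρ p c) = ρ p c := fun g hg => hfixN' g (hKf hg.2) (hS p hpP g hg)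
  have ff' : ρ f (ρ p c) = ρ p c := hfixN' f hfN (hfP p hpP)
  by_cases hadj : Adj ρ c (ρ p c)
  · obtain ⟨φ', hφ', e1⟩ := hadj
    have e2 : φ (ρ p c) = 0 := by
      rw [hf.2] at ff'
      rcases z2 (φ (ρ p c)) with h1 | h1
      · exact h1
      · rw [h1, one_smul] at ff'
        exact absurd (by simpa using ff') c0
    obtain ⟨τ, hτ⟩ := exists_tv hφ'
    obtain ⟨σ, hσ⟩ := exists_tv (hf.fn.add hφ')
    have n1 : φ + φ' ≠ 0 := by
      intro h1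
      have h2 := LinearMap.congr_fun h1 (ρ p c)
      rw [LinearMap.add_apply, e1, e2] at h2
      simp at h2
    have h1 : f * σ ∈ K := par0 s hK faith hc hf hσ φ0 n1
    have h2 : f * σ = τ := by
      have h3 := hf.mul hσ
      have h4 : φ + (φ + φ') = φ' := by
        ext x
        simp only [LinearMap.add_apply]
        rw [← add_assoc, z2_add_self, zero_add]
      rw [h4] at h3
      exact h3.eq faith hτ
    rw [h2] at h1
    -- the group of the transvections with centre `c` in `K`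
    let R : Subgroup H :=
      { carrier := {g | g ∈ K ∧ ρ g c = c}
        one_mem' := ⟨K.one_mem, rone ρ c⟩
        mul_mem' := by
          rintro a b ⟨ha, ha'⟩ ⟨hb, hb'⟩
          exact ⟨K.mul_mem ha hb, by rw [rmul, hb', ha']⟩
        inv_mem' := by
          rintro a ⟨ha, ha'⟩
          refine ⟨K.inv_mem ha, ?_⟩
          have := rinv ρ a c
          rwa [ha'] at this }
    let E : Subgroup H :=
      { carrier := {g | g ∈ K ∧ ∃ χ, IsTv ρ g c χ}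
        one_mem' := ⟨K.one_mem, 0, by simp, fun x => by simp [rone]⟩
        mul_mem' := by
          rintro a b ⟨ha, χ, hχ⟩ ⟨hb, χ', hχ'⟩
          exact ⟨K.mul_mem ha hb, _, hχ.mul hχ'⟩
        inv_mem' := by
          rintro a ⟨ha, χ, hχ⟩
          rw [Set.mem_setOf_eq, hχ.inv faith]
          exact ⟨ha, χ, hχ⟩ }
    have hER : E ≤ R := by
      rintro g ⟨hg, χ, hχ⟩
      exact ⟨hg, by rw [hχ.2, hχ.1, zero_smul, add_zero]⟩
    have hE2 : IsPGroup 2 E := by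
      rintro ⟨g, hg, χ, hχ⟩
      refine ⟨1, Subtype.ext ?_⟩
      change g ^ 2 ^ 1 = 1
      rw [pow_one, pow_two]
      exact hχ.sq faith
    have key : ∀ r ∈ R, ∀ g ∈ E, r * g * r⁻¹ ∈ E := by
      rintro r ⟨hr, hr'⟩ g ⟨hg, χ, hχ⟩
      have h5 := hχ.conj r
      rw [hr'] at h5
      exact ⟨K.mul_mem (K.mul_mem hr hg) (K.inv_mem hr), _, h5⟩
    have hEn : R ≤ Subgroup.normalizer (E : Set H) := by
      intro r hr
      rw [Subgroup.mem_normalizer_iff]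
      intro g
      refine ⟨fun hg => key r hr g hg, fun hg => ?_⟩
      have h5 := key r⁻¹ (R.inv_mem hr) _ hg
      have e : r⁻¹ * (r * g * r⁻¹) * r⁻¹⁻¹ = g := by group
      rwa [e] at h5
    have h3 : E ≤ o2 R := le_o2 hER hE2 hEn
    have h4 : o2 R ≤ T ⊓ K := o2_le_of_sylow (two.to_le inf_le_left) (fun h5 => odd (h5.trans (by
      have h6 := Subgroup.relIndex_mul_relIndex (T ⊓ K) R K (fun g hg => ⟨hg.2, fS g hg⟩) (fun g hg => hg.1)
      exact Dvd.intro _ h6)))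
    have h5 := fS' τ (h4 (h3 ⟨h1, φ', hτ⟩))
    rw [hτ.2, e1, one_smul] at h5
    exact c0 (by simpa using h5)
  · obtain ⟨e, he, ea, eb⟩ := exists_swap s hKn hK faith hc hc' hnear hadj
    exact no_swap inf_le_right odd (Ne.symm htc) fS fS' he ea eb

end main

end lin

end Cfsg.Agent.Omega.KL.TvFix
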