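import Cfsg.Agent.Omega.KL.TvFix
import Cfsg.Agent.Omega.KL.Star.Core
import Cfsg.Agent.Omega.NO3S.EMany.LowEnd

/-!
# `|A| ≥ 4` if `N_H(T ∩ O²(H))` moves a `T`-fixed vector (helper878, bb #25132, #24731 (N2))

* **`four_le_of_fix`** : `LB H M T A`, faithful, irreducible, `z` a `T`-fixed vector, `T ≤ P`, `T ∩ O²(H)` and `A` fix all
  `z^p`, `O²(P)` moves `z`: `|A| ≥ 4`;
* **`four_le_of_nrm`** : the same for `T ≤ P ≤ N_H(T ∩ O²(H))`, `A ≤ O₂(P)`, `P` moving `z`.
-/

set_option autoImplicit false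

namespace Cfsg.Agent.Omega.KL.TvFix

open Subgroup Cfsg Cfsg.Agent.ZN Cfsg.Agent.ClassTwoFusion.Quad
open Cfsg.Agent.Omega.ML.MinFrame hiding comm_of_sq
open Cfsg.Agent.Omega.ML.Final Cfsg.Agent.Omega.NO3S.EMany.Low Cfsg.Agent.Omega.KL.Star.Core
open Cfsg.Agent.MinSimple.VModule (o2_isPGroup o2_le le_o2 le_normalizer_o2 o2_le_of_sylow oddGen oddGen_le mem_oddGen
  oddGen_def le_normalizer_oddGen oddGen_mono)

universe u v

section mul

variable {H : Type*} [Group H] {M : Type*} [Group M] [MulDistribMulAction H M]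

open Module Cfsg.Agent.Omega.TV in
/-- multiplicative form of `tv_fix` -/
theorem tv_fix_mul [Finite H] [Finite M] (sq : ∀ m : M, m * m = 1)
    (irr : ∀ W : Subgroup M, (∀ h : H, ∀ w ∈ W, h • w ∈ W) → W = ⊥ ∨ W = ⊤)
    (faith : ∀ h : H, (∀ m : M, h • m = m) → h = 1) {T K P : Subgroup H} (hKn : K.Normal)
    (hK : ∀ g : H, Odd (orderOf g) → g ∈ K) {f : H} (f1 : f ≠ 1) (hKf : K ≤ Subgroup.normalClosure {f})
    (gen : Subgroup.normalClosure {f} ⊔ T = ⊤) (odd : ¬ 2 ∣ (T ⊓ K).relIndex K) (two : IsPGroup 2 T) {b z : M}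
    (hb : ∀ m : M, f • m = m ∨ f • m = m * b) (hz : ∀ t ∈ T, t • z = z)
    (low : ∀ g : H, g • z = z → ∃ n : ℕ, (f * (g * f * g⁻¹)) ^ 2 ^ n = 1) (hTP : T ≤ P)
    (hS : ∀ p ∈ P, ∀ s ∈ T ⊓ K, s • p • z = p • z) (hfP : ∀ p ∈ P, f • p • z = p • z) :
    ∀ p ∈ P, p ∈ K → p • z = z := by
  have comm : ∀ a b : M, a * b = b * a := by
    intro a b
    have h1 : ∀ c : M, c⁻¹ = c := fun c => inv_eq_of_mul_eq_one_right (sq c)
    calc a * b = (a * b)⁻¹ := (h1 _).symm
      _ = b⁻¹ * a⁻¹ := mul_inv_rev _ _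
      _ = b * a := by rw [h1, h1]
  let i1 : AddCommGroup (Additive M) :=
    { (inferInstance : AddGroup (Additive M)) with
      add_comm := fun v w => congrArg Additive.ofMul (comm (Additive.toMul v) (Additive.toMul w)) }
  let i2 : Module (ZMod 2) (Additive M) := AddCommGroup.zmodModule (n := 2) fun v => by
    rw [two_nsmul]
    exact congrArg Additive.ofMul (sq (Additive.toMul v))
  have : Finite (Additive M) := inferInstanceAs (Finite M)
  let e : H → (Additive M ≃ₗ[ZMod 2] Additive M) := fun h =>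
    { toFun := fun v => Additive.ofMul (h • Additive.toMul v)
      map_add' := fun v w => congrArg Additive.ofMul (smul_mul' h (Additive.toMul v) (Additive.toMul w))
      map_smul' := fun c v => by
        rcases z2 c with rfl | rfl
        · simp only [zero_smul, RingHom.id_apply]
          exact congrArg Additive.ofMul (smul_one h)
        · simp only [one_smul, RingHom.id_apply]
      invFun := fun v => Additive.ofMul (h⁻¹ • Additive.toMul v)
      left_inv := fun v => congrArg Additive.ofMul (inv_smul_smul h (Additive.toMul v))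
      right_inv := fun v => congrArg Additive.ofMul (smul_inv_smul h (Additive.toMul v)) }
  let ρ : H →* (Additive M ≃ₗ[ZMod 2] Additive M) :=
    { toFun := e
      map_one' := LinearEquiv.ext fun v => congrArg Additive.ofMul (one_smul H (Additive.toMul v))
      map_mul' := fun a b => LinearEquiv.ext fun v =>
        congrArg Additive.ofMul (mul_smul a b (Additive.toMul v)) }
  have hρ : ∀ (h : H) (v : M), ρ h (Additive.ofMul v) = Additive.ofMul (h • v) := fun _ _ => rfl
  have inj : Function.Injective (Additive.ofMul : M → Additive M) := Additive.ofMul.injective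
  have hb1 : b ≠ 1 := by
    rintro rfl
    apply f1
    exact faith f fun m => by simpa using hb m
  have hb0 : Additive.ofMul b ≠ (0 : Additive M) := fun h0 => hb1 (inj h0)
  obtain ⟨φ, hφ⟩ := exists_functional (ρ f) hb0 (fun v => by
    rcases hb (Additive.toMul v) with h1 | h1
    · exact Or.inl (congrArg Additive.ofMul h1)
    · exact Or.inr (congrArg Additive.ofMul h1))
  have h0 : φ (Additive.ofMul b) = 0 := by
    refine z2_ne_one fun h1 => ?_
    have h2 := hφ (Additive.ofMul b)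
    rw [h1, one_smul, v_add_self] at h2
    exact hb0 ((ρ f).map_eq_zero_iff.1 h2)
  have φ0 : φ ≠ 0 := by
    rintro rfl
    apply f1
    refine faith f fun m => inj ?_
    have h2 := hφ (Additive.ofMul m)
    rw [LinearMap.zero_apply, zero_smul, add_zero] at h2
    exact h2
  have irr' : ∀ U : Submodule (ZMod 2) (Additive M), (∀ (g : H), ∀ u ∈ U, ρ g u ∈ U) → U = ⊥ ∨ U = ⊤ := by
    intro U hU
    let W : Subgroup M :=
      { carrier := {w | Additive.ofMul w ∈ U}
        one_mem' := U.zero_mem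
        mul_mem' := fun {a b} ha hb => U.add_mem ha hb
        inv_mem' := fun {a} ha => U.neg_mem ha }
    rcases irr W (fun h w hw => hU h _ hw) with h0 | h0
    · refine Or.inl ((Submodule.eq_bot_iff U).2 fun u hu => ?_)
      have h1 : Additive.toMul u ∈ W := hu
      rw [h0, Subgroup.mem_bot] at h1
      exact congrArg Additive.ofMul h1
    · refine Or.inr (Submodule.eq_top_iff'.2 fun u => ?_)
      have h1 : Additive.toMul u ∈ W := by rw [h0]; exact Subgroup.mem_top _
      exact h1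
  intro p hp hpK
  exact inj (tv_fix (ρ := ρ) (f := f) (c := Additive.ofMul b) (z := Additive.ofMul z) (φ := φ) irr'
    (fun g hg => faith g fun m => inj (hg (Additive.ofMul m))) hKn hK hKf gen odd two ⟨h0, hφ⟩ hb0 φ0
    (fun t ht => congrArg Additive.ofMul (hz t ht)) (fun g hg => low g (inj hg)) hTP
    (fun p hp s hs => congrArg Additive.ofMul (hS p hp s hs)) (fun p hp => congrArg Additive.ofMul (hfP p hp))
    p hp hpK)

end mul

section lb

variable {H : Type u} [Group H] [Finite H] {M : Type v} [Group M] [Finite M] [MulDistribMulAction H M]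
  {T A P : Subgroup H}

/-- **`|A| ≥ 4`** if `O²(P)` moves `z` and `T ∩ O²(H)`, `A` fix all `z^p`. -/
theorem four_le_of_fix (sq : ∀ m : M, m * m = 1) (faith : ∀ h : H, (∀ m : M, h • m = m) → h = 1)
    (irr : ∀ W : Subgroup M, (∀ h : H, ∀ w ∈ W, h • w ∈ W) → W = ⊥ ∨ W = ⊤) (h : LB H M T A) {z : M}
    (hz : ∀ t ∈ T, t • z = z) (hTP : T ≤ P) (hS : ∀ p ∈ P, ∀ s ∈ T ⊓ oddGen (⊤ : Subgroup H), s • p • z = p • z)
    (hA : ∀ p ∈ P, ∀ a ∈ A, a • p • z = p • z) (hm : ∃ p ∈ P, p ∈ oddGen (⊤ : Subgroup H) ∧ p • z ≠ z) :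
    4 ≤ Nat.card A := by
  by_contra hlt
  obtain ⟨n, hn⟩ := IsPGroup.iff_card.1 (h.two.to_le h.BT)
  have hA1 : Nat.card A ≠ 1 := fun h1 => h.B1 (Subgroup.eq_bot_of_card_eq _ h1)
  have hc2 : Nat.card A = 2 := by
    match n, hn with
    | 0, hn => exact absurd hn hA1
    | 1, hn => exact hn
    | n + 2, hn =>
      exfalso
      rw [hn, pow_add] at hlt
      have := Nat.one_le_two_pow (n := n)
      omega
  obtain ⟨⟨t, htA⟩, ht1'⟩ := (Subgroup.ne_bot_iff_exists_ne_one).1 h.B1
  have ht1 : t ≠ 1 := fun h1 => ht1' (Subtype.ext h1)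
  have hidx : (cv M ({t} : Set H)).index ≤ 2 := by
    have h1 : cv M (A : Set H) ≤ cv M ({t} : Set H) := cv_anti (by simpa using htA)
    have h2 := index_dvd_of_le h1
    rw [h.exact, hc2] at h2
    exact Nat.le_of_dvd (by norm_num) h2
  obtain ⟨b, hb⟩ := TC.TT.exists_centre sq hidx index_ne_zero_of_finite
  -- `A = {1, t}`
  have hAt : ∀ a ∈ A, a = 1 ∨ a = t := by
    intro a ha
    by_contra hcon
    push Not at hcon
    have h1 : ({(1 : A), ⟨t, htA⟩, ⟨a, ha⟩} : Set A).ncard = 3 := by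
      rw [Set.ncard_eq_three]
      exact ⟨_, _, _, fun e => ht1 (congrArg Subtype.val e).symm, fun e => hcon.1 (congrArg Subtype.val e).symm,
        fun e => hcon.2 (congrArg Subtype.val e).symm, rfl⟩
    have h2 := Set.ncard_le_card ({(1 : A), ⟨t, htA⟩, ⟨a, ha⟩} : Set A)
    rw [h1, hc2] at h2
    omega
  have hKm : Km A ≤ normalClosure ({t} : Set H) := Km_le normalClosure_normal fun a ha => by
    rcases hAt a ha with rfl | rfl
    · exact one_mem _
    · exact subset_normalClosure rfl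
  have hgen : normalClosure ({t} : Set H) ⊔ T = ⊤ := by
    rw [eq_top_iff, ← h.gen]
    exact sup_le_sup_right hKm _
  have hKn : (oddGen (⊤ : Subgroup H)).Normal := by
    rw [← normalizer_eq_top_iff, eq_top_iff]
    exact le_normalizer_oddGen ⊤
  have hmov : ¬ ∀ g : H, g • z = z := by
    obtain ⟨p, -, -, hp⟩ := hm
    exact fun hc => hp (hc p)
  have hst := h.stab_le hz hmov
  obtain ⟨p, hp, hpK, hpz⟩ := hm
  refine hpz (tv_fix_mul sq irr faith (T := T) (K := oddGen (⊤ : Subgroup H)) (P := P) hKn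
    (fun g hg => mem_oddGen (mem_top g) hg) ht1 ?_ hgen ?_ h.two hb hz ?_ hTP hS (fun p hp => hA p hp t htA) p hp hpK)
  · rw [oddGen_def, closure_le]
    rintro x ⟨-, hx⟩
    exact mem_of_odd h.two hgen hx
  · rw [inf_relIndex_right, ← Lib.SylowNormalInf.relIndex_sup_of_normal]
    exact fun h3 => h.syl (h3.trans (relIndex_dvd_index_of_le le_sup_left))
  · intro g hg
    have h1 : g * t * g⁻¹ ∈ o2 (MulAction.stabilizer H z) :=
      (mem_normalizer_iff.1 (le_normalizer_o2 _ (MulAction.mem_stabilizer_iff.2 hg)) t).1 (hst htA)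
    obtain ⟨n, hn⟩ := o2_isPGroup (MulAction.stabilizer H z) ⟨_, mul_mem (hst htA) h1⟩
    exact ⟨n, congrArg Subtype.val hn⟩

/-- **`|A| ≥ 4`** if some `P`, `T ≤ P ≤ N_H(T ∩ O²(H))`, `A ≤ O₂(P)`, moves `z`. -/
theorem four_le_of_nrm (sq : ∀ m : M, m * m = 1) (faith : ∀ h : H, (∀ m : M, h • m = m) → h = 1)
    (irr : ∀ W : Subgroup M, (∀ h : H, ∀ w ∈ W, h • w ∈ W) → W = ⊥ ∨ W = ⊤) (h : LB H M T A) {z : M}
    (hz : ∀ t ∈ T, t • z = z) (hTP : T ≤ P) (hPn : P ≤ normalizer ((T ⊓ oddGen (⊤ : Subgroup H) : Subgroup H) : Set H))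
    (hAP : A ≤ o2 P) (hm : ∃ p ∈ P, p • z ≠ z) : 4 ≤ Nat.card A := by
  have hconj : ∀ (N : Subgroup H), N ≤ T → P ≤ normalizer (N : Set H) → ∀ p ∈ P, ∀ s ∈ N, s • p • z = p • z := by
    intro N hNT hN p hp s hs
    have h1 : p⁻¹ * s * p ∈ N := by
      have := (mem_normalizer_iff.1 (hN (P.inv_mem hp)) s).1 hs
      rwa [inv_inv] at this
    have h2 := hz _ (hNT h1)
    rwa [mul_smul, mul_smul, inv_smul_eq_iff] at h2
  have hsylP : ¬ 2 ∣ T.relIndex P := fun h1 => h.syl (h1.trans (relIndex_dvd_index_of_le hTP))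
  refine four_le_of_fix sq faith irr h hz hTP (hconj _ inf_le_left hPn) (fun p hp a ha =>
    hconj (o2 P) (o2_le_of_sylow h.two hsylP) (le_normalizer_o2 P) p hp a (hAP ha)) ?_
  by_contra hcon
  push Not at hcon
  obtain ⟨p, hp, hpz⟩ := hm
  have h1 : P ≤ MulAction.stabilizer H z := by
    rw [← oddGen_sup hTP hsylP]
    exact sup_le (fun g hg => hcon g (oddGen_le P hg) (oddGen_mono le_top hg)) fun t ht => hz t ht
  exact hpz (h1 hp)

end lb

end Cfsg.Agent.Omega.KL.TvFix
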